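import Cfsg.Agent.H856.ToHyp
import Cfsg.Agent.J4Type.ComplExists_mg
import Cfsg.Agent.J4Type.TopZ
import Cfsg.Agent.J4Type.PartC_mg
import Cfsg.Agent.J4Type.POuter
set_option linter.all false

/-!
# Janko-four type gives the structures `Hex`, `VCoord`, `Frame`, `Compl` of `J4Type.Setup`

`exists_compl` : for a finite simple group and `IsOfJankoFourTypeWith z P`, a `C : Compl G` with `C.z = z`,
`C.Q = twoCoreOfCentralizer z`, coordinates, and `P` conjugate to `⟨C.ρ⟩` by an element of `Q`.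
-/

set_option autoImplicit false

namespace Cfsg.Agent.H856.Bridge

open Cfsg Cfsg.Agent.J4Type
open Cfsg.Agent.SporadicA.MathieuRecog (mem_M22_iff card_M22 simple_M22)

variable {G : Type*} [Group G]

/-- The structures of `Setup`, from `Hyp`. -/
theorem exists_compl_of_hyp [Finite G] [IsSimpleGroup G] {t : G}
    {Q N M : Subgroup (Subgroup.centralizer ({t} : Set G))} (H : Hyp t Q N M) :
    ∃ C : J4Type.Compl G, Nonempty (VCoord C.toHex) ∧ C.z = t ∧
      C.Q = Q.map (Subgroup.centralizer ({t} : Set G)).subtype := by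
  obtain ⟨P, hP⟩ := H.exists_isP
  obtain ⟨r, hr, hrQ, hr3⟩ := H.exists_r
  obtain ⟨K⟩ := CoordRels.exists_centCoords H hP hr hrQ hr3
  obtain ⟨H', K', e1, e2, hom, h0, h1⟩ := HexCoord.exists_hex K (H.P_outer' hP hr hrQ hr3)
  obtain ⟨V⟩ := VCoordOf.exists_vcoord H' K' h0 h1 hom
  obtain ⟨F, hF⟩ := PartC.exists_frame H' V H'.toCent.zstar
  obtain ⟨C, hC⟩ := ComplExists.exists_compl F
  subst hF
  subst hC
  exact ⟨C, ⟨V⟩, e1, e2⟩

end Cfsg.Agent.H856.Bridge
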