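import Mathlib
import Cfsg.Agent.SporadicA.MathieuRecog
import Cfsg.Agent.SporadicA.OctadFix
import Cfsg.Agent.SporadicA.GolayWeight
import Cfsg.Agent.S0363
import Cfsg.Agent.J4Type.POuter
import Cfsg.Agent.J4Type.IsPOf
import Cfsg.Agent.J4Type.TauF
import Cfsg.Agent.J4Type.FusionCent
import Cfsg.Agent.J4Type.FinalGen
import Cfsg.Agent.J4Type.NormRho
import Cfsg.Agent.J4Type.Aut22
import Cfsg.Agent.KFacts.MM.InvM22
import Cfsg.Agent.Lib.KleinGen
import Cfsg.Agent.S0215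
import Cfsg.Agent.S1180
import Cfsg.Agent.J4Type.DuadCent
set_option linter.all false

-- part: H856/ThreeM24
section
/-!
# Elements of order 3 of `M22` and `M24`

Adapted from `Cfsg.Agent.BpSpor.JFourThree` (small import closure):
* `fixed_le` : an element of order 3 of `M24` fixes at most six points;
* `exists_pow` : Sylow 3-subgroups of order 9;
* `exists_conj_s` : the elements of order 3 of `M22` are conjugate;
* `w0`, `wi` (the scalars `ω`, `ω²`), `m1`, `m2`, `m3`, `k0`, `k1`, `k2`, `eq_w0`.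
-/

set_option autoImplicit false

namespace Cfsg.Agent.H856.ThreeM24

open Cfsg Cfsg.Agent.SporadicA.GolayBase Cfsg.Agent.SporadicA.GolayPerm Cfsg.Agent.SporadicA.OctadFix
open Cfsg.Agent.J4Type Cfsg.Agent.J4Type.CocodeMask Cfsg.Agent.J4Type.POuter
open scoped Pointwise

section Fix

/-- the fixed points -/
def fx (g : Equiv.Perm GolayPt) : Finset GolayPt := Finset.univ.filter fun x => g x = x

theorem mem_fx {g : Equiv.Perm GolayPt} {x : GolayPt} : x ∈ fx g ↔ g x = x := by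
  simp [fx]

theorem card_modEq {g : Equiv.Perm GolayPt} (hg : g ^ 3 = 1) (S : Finset GolayPt) (hS : ∀ x ∈ S, g x ∈ S) :
    S.card ≡ (S ∩ fx g).card [MOD 3] := by
  classical
  have h3 : Fact (Nat.Prime 3) := ⟨Nat.prime_three⟩
  let f : Function.End S := fun x => ⟨g x, hS x x.2⟩
  have hf : f ^ 3 ^ 1 = 1 := by
    funext x
    apply Subtype.ext
    have h1 : (g ^ 3) (x : GolayPt) = x := by rw [hg]; rfl
    exact h1
  have h1 := Equiv.Perm.card_fixedPoints_modEq (p := 3) (n := 1) hf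
  have h2 : Fintype.card (Function.fixedPoints f) = (S ∩ fx g).card := by
    rw [← Fintype.card_coe]
    refine Fintype.card_congr ⟨fun x => ⟨x.1.1, Finset.mem_inter.2 ⟨x.1.2, mem_fx.2 (congrArg Subtype.val x.2)⟩⟩,
      fun x => ⟨⟨x.1, (Finset.mem_inter.1 x.2).1⟩, Subtype.ext (mem_fx.1 (Finset.mem_inter.1 x.2).2)⟩,
      fun x => rfl, fun x => rfl⟩
  rw [h2, Fintype.card_coe] at h1
  exact h1

/-- an octad containing five fixed points is invariant and has exactly these fixed points -/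
theorem octad_of_five {g : Equiv.Perm GolayPt} (hM : g ∈ M24) (hg : g ^ 3 = 1) (h1 : g ≠ 1) {A : Finset GolayPt}
    (hA : A.card = 5) (hF : A ⊆ fx g) : ∃ o ∈ octads, A ⊆ o ∧ (∀ x ∈ o, g x ∈ o) ∧ o ∩ fx g = A := by
  classical
  have hSt : IsSteinerSystem 5 8 octads := S0363.result
  obtain ⟨o, ⟨ho, hAo⟩, hu⟩ := hSt.2 A hA
  have hgA : ∀ x ∈ A, g x = x := fun x hx => mem_fx.1 (hF hx)
  have hgo : g • o = o := by
    apply hu
    refine ⟨(smul_mem_octads hM).2 ho, fun x hx => ?_⟩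
    rw [← hgA x hx]
    exact (mem_smul_iff g o x).2 (hAo hx)
  have hinv : ∀ x ∈ o, g x ∈ o := fun x hx => by
    have := (mem_smul_iff g o x).2 hx
    rwa [hgo] at this
  have hsub : A ⊆ o ∩ fx g := Finset.subset_inter hAo hF
  refine ⟨o, ho, hAo, hinv, ?_⟩
  have h8 : o.card = 8 := octad_card ho
  have hmod := card_modEq hg o hinv
  have hle : (o ∩ fx g).card ≤ 8 := h8 ▸ Finset.card_le_card Finset.inter_subset_left
  have hge : 5 ≤ (o ∩ fx g).card := hA ▸ Finset.card_le_card hsub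
  have hcard : (o ∩ fx g).card = 5 ∨ (o ∩ fx g).card = 8 := by
    rw [h8] at hmod
    unfold Nat.ModEq at hmod
    omega
  rcases hcard with h | h
  · exact (Finset.eq_of_subset_of_card_le hsub (by rw [h, hA])).symm
  · exfalso
    have ho' : o ∩ fx g = o := Finset.eq_of_subset_of_card_le Finset.inter_subset_left (by rw [h, h8])
    have hfo : g ∈ fixOct o := mem_fixOct.2 ⟨hM, fun x hx => by
      rw [← ho'] at hx
      exact mem_fx.1 (Finset.mem_inter.1 hx).2⟩
    have h2 := fixOct_sq ho hfo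
    apply h1
    have h3 : g ^ 3 = g * g * g := by rw [pow_succ, pow_two]
    rw [h3, h2, one_mul] at hg
    exact hg

/-- an element of order 3 fixes at most six points -/
theorem fixed_le {g : Equiv.Perm GolayPt} (hM : g ∈ M24) (hg : g ^ 3 = 1) (h1 : g ≠ 1) : (fx g).card ≤ 6 := by
  classical
  by_contra hcon
  have h7 : 7 ≤ (fx g).card := by omega
  -- a set `S` of 7 fixed points, `T ⊆ S` with 3 points, `A = T ∪ U`, `B = T ∪ V`
  obtain ⟨S, hSF, hS⟩ := Finset.exists_subset_card_eq h7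
  obtain ⟨T, hTS, hT⟩ := Finset.exists_subset_card_eq (show 3 ≤ S.card by omega)
  have hD : (S \ T).card = 4 := by rw [Finset.card_sdiff_of_subset hTS]; omega
  obtain ⟨U, hUS, hU⟩ := Finset.exists_subset_card_eq (show 2 ≤ (S \ T).card by omega)
  set V := (S \ T) \ U with hV
  have hVc : V.card = 2 := by rw [hV, Finset.card_sdiff_of_subset hUS]; omega
  have hVS : V ⊆ S \ T := Finset.sdiff_subset
  have hTU : Disjoint T U := Finset.disjoint_left.2 fun x hx hx' => (Finset.mem_sdiff.1 (hUS hx')).2 hx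
  have hTV : Disjoint T V := Finset.disjoint_left.2 fun x hx hx' => (Finset.mem_sdiff.1 (hVS hx')).2 hx
  have hUV : Disjoint U V := Finset.disjoint_left.2 fun x hx hx' => (Finset.mem_sdiff.1 (hV ▸ hx')).2 hx
  have hsub : ∀ W ⊆ S \ T, T ∪ W ⊆ fx g := fun W hW =>
    Finset.union_subset (hTS.trans hSF) ((hW.trans Finset.sdiff_subset).trans hSF)
  obtain ⟨o, ho, hAo, hoi, hof⟩ := octad_of_five hM hg h1 (A := T ∪ U)
    (by rw [Finset.card_union_of_disjoint hTU, hT, hU]) (hsub U hUS)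
  obtain ⟨o', ho', hBo, hoi', hof'⟩ := octad_of_five hM hg h1 (A := T ∪ V)
    (by rw [Finset.card_union_of_disjoint hTV, hT, hVc]) (hsub V hVS)
  have hI : (o ∩ o') ∩ fx g = T := by
    have h2 : (o ∩ o') ∩ fx g = (o ∩ fx g) ∩ (o' ∩ fx g) := by
      ext x
      simp only [Finset.mem_inter]
      tauto
    rw [h2, hof, hof', ← Finset.union_inter_distrib_left, Finset.disjoint_iff_inter_eq_empty.1 hUV,
      Finset.union_empty]
  have hmod := card_modEq hg (o ∩ o') (fun x hx => Finset.mem_inter.2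
    ⟨hoi x (Finset.mem_inter.1 hx).1, hoi' x (Finset.mem_inter.1 hx).2⟩)
  rw [hI, hT] at hmod
  have hne : o ≠ o' := by
    rintro rfl
    have h2 : T ∪ U = T ∪ V := hof.symm.trans hof'
    have h3 : U ⊆ V := by
      intro x hx
      have h4 : x ∈ T ∪ V := h2 ▸ Finset.mem_union_right _ hx
      rcases Finset.mem_union.1 h4 with h5 | h5
      · exact absurd hx (Finset.disjoint_left.1 hTU h5)
      · exact h5
    obtain ⟨x, hx⟩ : U.Nonempty := Finset.card_pos.1 (by omega)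
    exact Finset.disjoint_left.1 hUV hx (h3 hx)
  have hle : (o ∩ o').card < 5 := by
    by_contra h5
    exact hne (octad_unique ho ho' (by omega))
  have heven : Even (o ∩ o').card := by
    obtain ⟨v, hv, rfl⟩ := ho.1
    obtain ⟨w, hw, rfl⟩ := ho'.1
    exact SporadicA.GolayWeight.even_card_inter hv hw
  have hge : 3 ≤ (o ∩ o').card := by
    rw [← hT]
    exact Finset.card_le_card (hI ▸ Finset.inter_subset_left)
  obtain ⟨m, hm⟩ := heven
  unfold Nat.ModEq at hmod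
  omega

end Fix

/-! ### groups of order not divisible by 27 -/

theorem pow_red {G : Type*} [Group G] {a : G} (ha : a ^ 3 = 1) (n : ℕ) : a ^ n = a ^ (n % 3) := by
  conv_lhs => rw [← Nat.div_add_mod n 3, pow_add, pow_mul, ha, one_pow, one_mul]

theorem exists_pow {G : Type*} [Group G] [Finite G] {a b x : G} (ha : a ^ 3 = 1) (hb : b ^ 3 = 1)
    (hab : a * b = b * a) (ha1 : a ≠ 1) (hb1 : b ≠ 1) (hne : b ≠ a) (hne2 : b ≠ a ^ 2) (h27 : ¬ 27 ∣ Nat.card G)
    (hx : x ^ 3 = 1) : ∃ g : G, ∃ i < 3, ∃ j < 3, g * x * g⁻¹ = a ^ i * b ^ j := by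
  have hp : Fact (Nat.Prime 3) := ⟨Nat.prime_three⟩
  have hc : Commute a b := hab
  let E : Subgroup G :=
    { carrier := {g | ∃ i j : ℕ, g = a ^ i * b ^ j}
      one_mem' := ⟨0, 0, by rw [pow_zero, pow_zero, one_mul]⟩
      mul_mem' := by
        rintro _ _ ⟨i, j, rfl⟩ ⟨k, l, rfl⟩
        refine ⟨i + k, j + l, ?_⟩
        have h2 := (hc.pow_pow k j).eq
        calc a ^ i * b ^ j * (a ^ k * b ^ l) = a ^ i * (b ^ j * a ^ k) * b ^ l := by group
          _ = a ^ i * (a ^ k * b ^ j) * b ^ l := by rw [h2]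
          _ = _ := by rw [pow_add, pow_add]; simp only [mul_assoc]
      inv_mem' := by
        rintro _ ⟨i, j, rfl⟩
        refine ⟨2 * i, 2 * j, ?_⟩
        rw [inv_eq_iff_mul_eq_one]
        have h1 : a ^ i * b ^ j * (a ^ (2 * i) * b ^ (2 * j)) = (a ^ i * a ^ (2 * i)) * (b ^ j * b ^ (2 * j)) := by
          have h2 := (hc.pow_pow (2 * i) j).eq
          calc a ^ i * b ^ j * (a ^ (2 * i) * b ^ (2 * j)) = a ^ i * (b ^ j * a ^ (2 * i)) * b ^ (2 * j) := by group
            _ = a ^ i * (a ^ (2 * i) * b ^ j) * b ^ (2 * j) := by rw [h2]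
            _ = _ := by group
        rw [h1, ← pow_add, ← pow_add, show i + 2 * i = 3 * i by ring, show j + 2 * j = 3 * j by ring, pow_mul, pow_mul,
          ha, hb, one_pow, one_pow, one_mul] }
  have haE : a ∈ E := ⟨1, 0, by rw [pow_one, pow_zero, mul_one]⟩
  have hbE : b ∈ E := ⟨0, 1, by rw [pow_one, pow_zero, one_mul]⟩
  have hE3 : IsPGroup 3 E := by
    rintro ⟨_, i, j, rfl⟩
    refine ⟨1, Subtype.ext ?_⟩
    change (a ^ i * b ^ j) ^ 3 ^ 1 = 1
    rw [pow_one, (hc.pow_pow i j).mul_pow, ← pow_mul, ← pow_mul, mul_comm i, mul_comm j, pow_mul, pow_mul, ha, hb,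
      one_pow, one_pow, one_mul]
  have h9 : 9 ∣ Nat.card E := by
    have h1 := NonAb.nine_dvd ha hb hab ha1 hb1 hne hne2
    refine h1.trans (Subgroup.card_dvd_of_le ?_)
    rw [Subgroup.closure_le]
    rintro y (rfl | rfl) <;> assumption
  obtain ⟨P0, hP0⟩ := hE3.exists_le_sylow
  have hP0E : (P0 : Subgroup G) = E := by
    symm
    apply Subgroup.eq_of_le_of_card_ge hP0
    obtain ⟨k, hk⟩ := IsPGroup.iff_card.1 P0.isPGroup'
    have hk2 : k ≤ 2 := by
      by_contra hcon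
      apply h27
      have h1 : 3 ^ 3 ∣ Nat.card (P0 : Subgroup G) := by rw [hk]; exact pow_dvd_pow 3 (by omega)
      exact h1.trans (Subgroup.card_subgroup_dvd_card _)
    have h2 : Nat.card (P0 : Subgroup G) ≤ 9 := by
      rw [hk]
      exact Nat.pow_le_pow_right (by norm_num) hk2
    exact h2.trans (Nat.le_of_dvd Nat.card_pos h9)
  have hX : IsPGroup 3 (Subgroup.zpowers x) := by
    by_cases h1 : x = 1
    · rw [h1, Subgroup.zpowers_one_eq_bot]
      exact IsPGroup.of_bot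
    · exact IsPGroup.of_card (n := 1) (by rw [Nat.card_zpowers, orderOf_eq_prime hx h1, pow_one])
  obtain ⟨P1, hP1⟩ := hX.exists_le_sylow
  obtain ⟨g, hg⟩ := MulAction.exists_smul_eq G P1 P0
  have h1 : g * x * g⁻¹ ∈ (g • P1 : Sylow 3 G) := by
    rw [Sylow.smul_def]
    exact ⟨x, hP1 (Subgroup.mem_zpowers x), rfl⟩
  rw [hg] at h1
  have h2 : g * x * g⁻¹ ∈ E := by rw [← hP0E]; exact h1
  obtain ⟨i, j, h3⟩ := h2
  exact ⟨g, i % 3, Nat.mod_lt _ (by norm_num), j % 3, Nat.mod_lt _ (by norm_num), by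
    rw [h3, pow_red ha, pow_red hb]⟩

/-! ### `M22` -/

/-- conjugators: `W i j` conjugates `s` to `s ^ i * s' ^ j` -/
noncomputable def W01 : M24 := mk 961084845295059645748310013364352480 (by decide +kernel)
noncomputable def W02 : M24 := mk 974056445370116930039155354356558432 (by decide +kernel)
noncomputable def W10 : M24 := mk 964047153136528238632070594795538560 (by decide +kernel)
noncomputable def W11 : M24 := mk 976276881719958416183961576046907712 (by decide +kernel)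
noncomputable def W12 : M24 := mk 973619688912755810814686491894255680 (by decide +kernel)
noncomputable def W20 : M24 := mk 974419822437953083829865303938516096 (by decide +kernel)
noncomputable def W21 : M24 := mk 976607456807732067548877666573914656 (by decide +kernel)
noncomputable def W22 : M24 := mk 966541175943265153031039510299464000 (by decide +kernel)

theorem conj01 : W01 * s = s' * W01 := eq_of_tab ((isTab_mk _ _).mul tab_s) (tab_s'.mul (isTab_mk _ _)) (by decide +kernel)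
theorem conj02 : W02 * s = s' * s' * W02 :=
  eq_of_tab ((isTab_mk _ _).mul tab_s) ((tab_s'.mul tab_s').mul (isTab_mk _ _)) (by decide +kernel)
theorem conj10 : W10 * s = s * W10 := eq_of_tab ((isTab_mk _ _).mul tab_s) (tab_s.mul (isTab_mk _ _)) (by decide +kernel)
theorem conj11 : W11 * s = s * s' * W11 :=
  eq_of_tab ((isTab_mk _ _).mul tab_s) ((tab_s.mul tab_s').mul (isTab_mk _ _)) (by decide +kernel)
theorem conj12 : W12 * s = s * (s' * s') * W12 :=
  eq_of_tab ((isTab_mk _ _).mul tab_s) ((tab_s.mul (tab_s'.mul tab_s')).mul (isTab_mk _ _)) (by decide +kernel)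
theorem conj20 : W20 * s = s * s * W20 :=
  eq_of_tab ((isTab_mk _ _).mul tab_s) ((tab_s.mul tab_s).mul (isTab_mk _ _)) (by decide +kernel)
theorem conj21 : W21 * s = s * s * s' * W21 :=
  eq_of_tab ((isTab_mk _ _).mul tab_s) (((tab_s.mul tab_s).mul tab_s').mul (isTab_mk _ _)) (by decide +kernel)
theorem conj22 : W22 * s = s * s * (s' * s') * W22 :=
  eq_of_tab ((isTab_mk _ _).mul tab_s) (((tab_s.mul tab_s).mul (tab_s'.mul tab_s')).mul (isTab_mk _ _))
    (by decide +kernel)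

theorem mem22 {g : M24} {P : ℕ} (hg : IsTab g P) (h1 : papp P 23 = 23) (h2 : papp P 0 = 0) :
    (g : Equiv.Perm GolayPt) ∈ Spor.M22 := by
  rw [Cfsg.Agent.SporadicA.MathieuRecog.mem_M22_iff]
  exact ⟨g.2, apply_eq hg h1, apply_eq hg h2⟩

/-- **the elements of order 3 of `M22` are conjugate** -/
theorem exists_conj_s {x : Equiv.Perm GolayPt} (hx : x ∈ Spor.M22) (h3 : x ^ 3 = 1) (h1 : x ≠ 1) :
    ∃ w ∈ Spor.M22, w * x * w⁻¹ = (s : Equiv.Perm GolayPt) := by
  have hcard : Nat.card Spor.M22 = 443520 := Cfsg.Agent.SporadicA.MathieuRecog.card_M22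
  have hfin : Finite Spor.M22 := Nat.finite_of_card_ne_zero (by rw [hcard]; norm_num)
  let S : Spor.M22 := ⟨(s : Equiv.Perm GolayPt), s_mem⟩
  let S' : Spor.M22 := ⟨(s' : Equiv.Perm GolayPt), s'_mem⟩
  have hv : ∀ {g h : M24}, g = h → (g : Equiv.Perm GolayPt) = h := fun e => congrArg Subtype.val e
  have hn : ∀ {g h : M24}, g ≠ h → (g : Equiv.Perm GolayPt) ≠ h := fun e e' => e (Subtype.ext e')
  obtain ⟨g, i, hi, j, hj, hg⟩ := exists_pow (G := Spor.M22) (a := S) (b := S') (x := ⟨x, hx⟩)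
    (Subtype.ext (hv s_cube)) (Subtype.ext (hv s'_cube)) (Subtype.ext (hv s_comm))
    (fun h => hn s_ne (congrArg (fun y : Spor.M22 => (y : Equiv.Perm GolayPt)) h))
    (fun h => hn s'_ne (congrArg (fun y : Spor.M22 => (y : Equiv.Perm GolayPt)) h))
    (fun h => hn s'_ne_s (congrArg (fun y : Spor.M22 => (y : Equiv.Perm GolayPt)) h))
    (fun h => hn s'_ne_s2 (congrArg (fun y : Spor.M22 => (y : Equiv.Perm GolayPt)) h))
    (by rw [hcard]; norm_num) (Subtype.ext h3)
  have hg' : (g : Equiv.Perm GolayPt) * x * (g : Equiv.Perm GolayPt)⁻¹ =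
      (s : Equiv.Perm GolayPt) ^ i * (s' : Equiv.Perm GolayPt) ^ j := congrArg Subtype.val hg
  have key : ∀ (w : M24), (w : Equiv.Perm GolayPt) ∈ Spor.M22 →
      (w : Equiv.Perm GolayPt) * s = (s : Equiv.Perm GolayPt) ^ i * (s' : Equiv.Perm GolayPt) ^ j * w →
      ∃ w ∈ Spor.M22, w * x * w⁻¹ = (s : Equiv.Perm GolayPt) := by
    intro w hw h
    refine ⟨(w : Equiv.Perm GolayPt)⁻¹ * g, Spor.M22.mul_mem (Spor.M22.inv_mem hw) g.2, ?_⟩
    calc (w : Equiv.Perm GolayPt)⁻¹ * g * x * ((w : Equiv.Perm GolayPt)⁻¹ * g)⁻¹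
        = (w : Equiv.Perm GolayPt)⁻¹ * ((g : Equiv.Perm GolayPt) * x * (g : Equiv.Perm GolayPt)⁻¹) * w := by group
      _ = (w : Equiv.Perm GolayPt)⁻¹ * ((w : Equiv.Perm GolayPt) * s) := by rw [hg', h, mul_assoc]
      _ = s := by group
  interval_cases i <;> interval_cases j
  · exfalso
    apply h1
    rw [pow_zero, pow_zero, one_mul] at hg'
    calc x = (g : Equiv.Perm GolayPt)⁻¹ * ((g : Equiv.Perm GolayPt) * x * (g : Equiv.Perm GolayPt)⁻¹) * g := by group
      _ = 1 := by rw [hg']; group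
  · exact key W01 (mem22 (isTab_mk _ _) (by decide +kernel) (by decide +kernel)) (by
      rw [pow_zero, one_mul, pow_one]; exact hv conj01)
  · exact key W02 (mem22 (isTab_mk _ _) (by decide +kernel) (by decide +kernel)) (by
      rw [pow_zero, one_mul, pow_two]; exact hv conj02)
  · exact key W10 (mem22 (isTab_mk _ _) (by decide +kernel) (by decide +kernel)) (by
      rw [pow_zero, mul_one, pow_one]; exact hv conj10)
  · exact key W11 (mem22 (isTab_mk _ _) (by decide +kernel) (by decide +kernel)) (by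
      rw [pow_one, pow_one]; exact hv conj11)
  · exact key W12 (mem22 (isTab_mk _ _) (by decide +kernel) (by decide +kernel)) (by
      rw [pow_one, pow_two]; exact hv conj12)
  · exact key W20 (mem22 (isTab_mk _ _) (by decide +kernel) (by decide +kernel)) (by
      rw [pow_two, pow_zero, mul_one]; exact hv conj20)
  · exact key W21 (mem22 (isTab_mk _ _) (by decide +kernel) (by decide +kernel)) (by
      rw [pow_two, pow_one]; exact hv conj21)
  · exact key W22 (mem22 (isTab_mk _ _) (by decide +kernel) (by decide +kernel)) (by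
      rw [pow_two, pow_two]; exact hv conj22)

/-! ### the centralizer of `w0` -/

/-- the scalar `ω` -/
noncomputable def w0 : M24 := mk 973047580892981701841065988820402241 (by decide +kernel)
/-- the scalar `ω²` -/
noncomputable def wi : M24 := mk 976407453246317410417703175176946690 (by decide +kernel)
noncomputable def m1 : M24 := mk 127474531739629244221854885702944197 (by decide +kernel)
noncomputable def m2 : M24 := mk 976531636853126291160407323722221600 (by decide +kernel)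
noncomputable def m3 : M24 := mk 979416905286026856737440949975746592 (by decide +kernel)
noncomputable def k0 : M24 := mk 357201665476826090278746034572345793 (by decide +kernel)
noncomputable def k1 : M24 := mk 528846132829466376341609422722907444 (by decide +kernel)
noncomputable def k2 : M24 := mk 513458722804467891213433928739509459 (by decide +kernel)

theorem w0_mul_wi : w0 * wi = 1 := eq_of_tab ((isTab_mk _ _).mul (isTab_mk _ _)) isTab_one (by decide +kernel)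
theorem w0_cube : w0 * w0 * w0 = 1 :=
  eq_of_tab (((isTab_mk _ _).mul (isTab_mk _ _)).mul (isTab_mk _ _)) isTab_one (by decide +kernel)
theorem m1_cube : m1 * m1 * m1 = 1 :=
  eq_of_tab (((isTab_mk _ _).mul (isTab_mk _ _)).mul (isTab_mk _ _)) isTab_one (by decide +kernel)
theorem comm1 : w0 * m1 = m1 * w0 :=
  eq_of_tab ((isTab_mk _ _).mul (isTab_mk _ _)) ((isTab_mk _ _).mul (isTab_mk _ _)) (by decide +kernel)
theorem comm2 : w0 * m2 = m2 * w0 :=
  eq_of_tab ((isTab_mk _ _).mul (isTab_mk _ _)) ((isTab_mk _ _).mul (isTab_mk _ _)) (by decide +kernel)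
theorem comm3 : w0 * m3 = m3 * w0 :=
  eq_of_tab ((isTab_mk _ _).mul (isTab_mk _ _)) ((isTab_mk _ _).mul (isTab_mk _ _)) (by decide +kernel)
theorem k0_conj : k0 * w0 = m1 * k0 :=
  eq_of_tab ((isTab_mk _ _).mul (isTab_mk _ _)) ((isTab_mk _ _).mul (isTab_mk _ _)) (by decide +kernel)
theorem k1_conj : k1 * w0 = w0 * m1 * k1 :=
  eq_of_tab ((isTab_mk _ _).mul (isTab_mk _ _)) (((isTab_mk _ _).mul (isTab_mk _ _)).mul (isTab_mk _ _))
    (by decide +kernel)
theorem k2_conj : k2 * w0 = w0 * w0 * m1 * k2 :=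
  eq_of_tab ((isTab_mk _ _).mul (isTab_mk _ _))
    ((((isTab_mk _ _).mul (isTab_mk _ _)).mul (isTab_mk _ _)).mul (isTab_mk _ _)) (by decide +kernel)

/-- multiplication by the powers of `ω` -/
def rot (e : Fin 3) (c : Fin 4) : Fin 4 := (![![0, 1, 2, 3], ![0, 2, 3, 1], ![0, 3, 1, 2]] : Fin 3 → Fin 4 → Fin 4) e c

theorem rot_rot : ∀ e f c, rot e (rot f c) = rot (e + f) c := by decide

theorem rot_zero : ∀ c, rot 0 c = c := by decide

theorem exists_rot : ∀ τ : Fin 4 → Fin 4, τ 0 = 0 → (∀ c, τ (τ (τ c)) = c) → ∃ e, ∀ c, τ c = rot e c := by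
  decide +kernel

theorem mog_inj : ∀ i c c', mog i c = mog i c' → c = c' := by decide +kernel

theorem exists_mog : ∀ p : GolayPt, ∃ i c, p = mog i c := by decide +kernel

theorem mem_tet {i : Fin 6} {p : GolayPt} : p ∈ tet i ↔ ∃ c, mog i c = p := by
  unfold tet
  rw [Finset.mem_image]
  simp

theorem card_tet : ∀ i, (tet i).card = 4 := by decide +kernel

theorem smul_tet {g : Equiv.Perm GolayPt} {i j : Fin 6} (h : ∀ c, ∃ c', g (mog i c) = mog j c') :
    g • tet i = tet j := by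
  apply Finset.eq_of_subset_of_card_le
  · intro p hp
    obtain ⟨q, hq, rfl⟩ := Finset.mem_smul_finset.1 hp
    obtain ⟨c, rfl⟩ := mem_tet.1 hq
    obtain ⟨c', hc⟩ := h c
    exact mem_tet.2 ⟨c', hc.symm⟩
  · rw [Finset.card_smul_finset, card_tet, card_tet]

theorem w0_mog (i : Fin 6) (c : Fin 4) : (w0 : Equiv.Perm GolayPt) (mog i c) = mog i (rot 1 c) :=
  apply_eq (isTab_mk _ _) (by revert i c; decide +kernel)

theorem wi_mog (i : Fin 6) (c : Fin 4) : (wi : Equiv.Perm GolayPt) (mog i c) = mog i (rot 2 c) :=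
  apply_eq (isTab_mk _ _) (by revert i c; decide +kernel)

/-- the permutations of the tetrads -/
def s1 : Fin 6 → Fin 6 := ![1, 2, 0, 3, 4, 5]
def s2 : Fin 6 → Fin 6 := ![0, 1, 2, 4, 5, 3]
def s3 : Fin 6 → Fin 6 := ![0, 1, 3, 4, 2, 5]

theorem m1_mog (i : Fin 6) (c : Fin 4) :
    (m1 : Equiv.Perm GolayPt) (mog i c) = mog (s1 i) (rot ((![0, 0, 0, 0, 2, 1] : Fin 6 → Fin 3) i) c) :=
  apply_eq (isTab_mk _ _) (by revert i c; decide +kernel)

theorem m2_mog (i : Fin 6) (c : Fin 4) :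
    (m2 : Equiv.Perm GolayPt) (mog i c) = mog (s2 i) (rot ((![0, 1, 2, 0, 0, 0] : Fin 6 → Fin 3) i) c) :=
  apply_eq (isTab_mk _ _) (by revert i c; decide +kernel)

theorem m3_mog (i : Fin 6) (c : Fin 4) :
    (m3 : Equiv.Perm GolayPt) (mog i c) = mog (s3 i) (rot ((![0, 2, 1, 2, 0, 1] : Fin 6 → Fin 3) i) c) :=
  apply_eq (isTab_mk _ _) (by revert i c; decide +kernel)

/-- nine points -/
def nine (i : Fin 6) : Finset GolayPt := tet i ∪ Finset.univ.image (fun j : Fin 6 => mog j 0)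

theorem card_nine : ∀ i, (nine i).card = 9 := by decide +kernel

theorem eq_one_of_nine {h : M24} (h3 : h ^ 3 = 1) {i : Fin 6}
    (hf : ∀ c, (h : Equiv.Perm GolayPt) (mog i c) = mog i c)
    (hp : ∀ j, (h : Equiv.Perm GolayPt) (mog j 0) = mog j 0) : h = 1 := by
  by_contra h1
  have h2 := fixed_le h.2 (congrArg (fun y : M24 => (y : Equiv.Perm GolayPt)) h3)
    (fun e => h1 (Subtype.ext e))
  have h4 : nine i ⊆ fx (h : Equiv.Perm GolayPt) := by
    intro p hp'
    rw [mem_fx]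
    rcases Finset.mem_union.1 hp' with h5 | h5
    · obtain ⟨c, rfl⟩ := mem_tet.1 h5
      exact hf c
    · obtain ⟨j, -, rfl⟩ := Finset.mem_image.1 h5
      exact hp j
  have h5 := Finset.card_le_card h4
  rw [card_nine] at h5
  omega

/-- the elements of order 3 of `M24` fixing the tetrads and the points `mog i 0` -/
theorem eq_w0 {g : M24} (h3 : g ^ 3 = 1) (h1 : g ≠ 1) (hp : ∀ i, (g : Equiv.Perm GolayPt) (mog i 0) = mog i 0)
    (ht : ∀ i, (g : Equiv.Perm GolayPt) • tet i = tet i) : g = w0 ∨ g = wi := by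
  have hg3 : ∀ p, (g : Equiv.Perm GolayPt) ((g : Equiv.Perm GolayPt) ((g : Equiv.Perm GolayPt) p)) = p := by
    intro p
    have h2 := congrArg (fun y : M24 => (y : Equiv.Perm GolayPt) p) h3
    exact h2
  have hrot : ∀ i, ∃ e, ∀ c, (g : Equiv.Perm GolayPt) (mog i c) = mog i (rot e c) := by
    intro i
    have h2 : ∀ c, ∃ c', (g : Equiv.Perm GolayPt) (mog i c) = mog i c' := by
      intro c
      have h4 : (g : Equiv.Perm GolayPt) (mog i c) ∈ (g : Equiv.Perm GolayPt) • tet i :=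
        Finset.smul_mem_smul_finset (mem_tet.2 ⟨c, rfl⟩)
      rw [ht] at h4
      obtain ⟨c', hc⟩ := mem_tet.1 h4
      exact ⟨c', hc.symm⟩
    choose τ hτ using h2
    obtain ⟨e, he⟩ := exists_rot τ (mog_inj i _ _ (by rw [← hτ, hp])) fun c => mog_inj i _ _ (by
      rw [← hτ, ← hτ, ← hτ, hg3])
    exact ⟨e, fun c => by rw [hτ, he]⟩
  choose e he using hrot
  by_cases h0 : ∃ i, e i = 0
  · obtain ⟨i, hi⟩ := h0
    exact absurd (eq_one_of_nine h3 (i := i) (fun c => by rw [he, hi, rot_zero]) hp) h1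
  by_cases h2 : ∃ i, e i = 1
  · left
    obtain ⟨i, hi⟩ := h2
    have hh : ∀ j c, ((g * wi : M24) : Equiv.Perm GolayPt) (mog j c) = mog j (rot (e j + 2) c) := by
      intro j c
      change (g : Equiv.Perm GolayPt) ((wi : Equiv.Perm GolayPt) (mog j c)) = _
      rw [wi_mog, he, rot_rot]
    have hh3 : (g * wi) ^ 3 = 1 := by
      apply Subtype.ext
      apply Equiv.ext
      intro p
      obtain ⟨j, c, rfl⟩ := exists_mog p
      change ((g * wi : M24) : Equiv.Perm GolayPt) (((g * wi : M24) : Equiv.Perm GolayPt)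
        (((g * wi : M24) : Equiv.Perm GolayPt) (mog j c))) = mog j c
      rw [hh, hh, hh, rot_rot, rot_rot]
      have h4 : ∀ a : Fin 3, a + a + a = 0 := by decide
      rw [h4, rot_zero]
    have h4 := eq_one_of_nine hh3 (i := i) (fun c => by rw [hh, hi]; exact congrArg _ (rot_zero c)) (fun j => by
      rw [hh]
      have h5 : ∀ a : Fin 3, rot a 0 = 0 := by decide
      rw [h5])
    calc g = (g * wi) * wi⁻¹ := by group
      _ = w0 := by rw [h4, one_mul]; exact inv_eq_of_mul_eq_one_left w0_mul_wi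
  · right
    apply Subtype.ext
    apply Equiv.ext
    intro p
    obtain ⟨j, c, rfl⟩ := exists_mog p
    rw [he, wi_mog]
    have h4 : e j = 2 := by
      have h5 : e j ≠ 0 := fun h => h0 ⟨j, h⟩
      have h6 : e j ≠ 1 := fun h => h2 ⟨j, h⟩
      revert h5 h6
      generalize e j = a
      revert a
      decide
    rw [h4]

end Cfsg.Agent.H856.ThreeM24
end

-- part: H856/ThreeRho
section
/-!
# Elements of order 3 in a group with the structure `J4Type.Compl`

Adapted from `Cfsg.Agent.BpSpor.JFourThree` (small import closure):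
* `conj_rho` : if 3 does not divide the index of `C(z)`, all elements of order 3 are conjugate to `ρ` or `ρ⁻¹`;
* `fM`, `fM_surj`, `fM_ker`, `z_mem_commutator` : `C(z) ∩ C(ρ)` maps onto `M22` with kernel `⟨z, ρ⟩`.
-/

set_option autoImplicit false

namespace Cfsg.Agent.H856.ThreeRho

open Subgroup Cfsg Cfsg.Agent.J4Type Cfsg.Agent.J4Type.FusionCent Cfsg.Agent.J4Type.TauF
open Cfsg.Agent.H856.ThreeM24
open scoped Pointwise commutatorElement

variable {K : Type*} [Group K]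

section Pre

variable (C : Cent K)

theorem P_cases (c : Subgroup.centralizer ({C.z} : Set K)) :
    (C.P c none = none ∧ C.P c (some 0) = some 0) ∨ (C.P c none = some 0 ∧ C.P c (some 0) = none) := by
  have h1 : C.P c ∈ M22d := by rw [← C.P_range]; exact ⟨c, rfl⟩
  exact ((Cfsg.Agent.J4Type.Aut22.mem_D22_iff _).1 h1).2

theorem Q2 : IsPGroup 2 C.Q := IsPGroup.of_card C.Q_card

end Pre

section Frame

variable (F : J4Type.Compl K)

/-- the involutions `ε {mog i 0, mog j 0}` -/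
theorem conj_ff {m : M24} {i j i' j' : Fin 6} (hi : (m : Equiv.Perm GolayPt) (mog i 0) = mog i' 0)
    (hj : (m : Equiv.Perm GolayPt) (mog j 0) = mog j' 0) (hij : i ≠ j) :
    F.φ m * ff F.toFrame i j * (F.φ m)⁻¹ = ff F.toFrame i' j' := by
  have h0 : m0 i ≠ m0 j := fun h => hij (m0_inj h)
  have h1 := FinalGen.Compl.conj_ε F m (S := {m0 i, m0 j}) (by rw [Finset.card_pair h0]; decide)
  unfold ff
  rw [h1, Finset.smul_finset_insert, Finset.smul_finset_singleton]
  have h2 : (m : Equiv.Perm GolayPt) • m0 i = m0 i' := hi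
  have h3 : (m : Equiv.Perm GolayPt) • m0 j = m0 j' := hj
  rw [h2, h3]

theorem phi_z {m : M24} {i : Fin 6} (h : (m : Equiv.Perm GolayPt) • tet 0 = tet i) : F.φ m * F.z = F.z * F.φ m := by
  have h1 := FinalGen.Compl.conj_ε F m (S := tet 0) (by rw [card_tet]; decide)
  rw [h, F.ε_tet, F.ε_tet] at h1
  calc F.φ m * F.z = F.φ m * F.z * (F.φ m)⁻¹ * F.φ m := by group
    _ = F.z * F.φ m := by rw [h1]

theorem phi_inj : Function.Injective F.φ := by
  intro g h hgh
  have h1 : (⟨F.φ g, F.φ_mem g⟩ : normalizer (F.E hex0 : Set K)) = ⟨F.φ h, F.φ_mem h⟩ := Subtype.ext hgh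
  rw [← F.π_φ g, ← F.π_φ h, h1]

theorem rho3 : F.ρ ^ 3 = 1 := by rw [← F.ρ_order]; exact pow_orderOf_eq_one _

/-- `ρ = φ(w₀)` or `φ(w₀⁻¹)` -/
theorem exists_g : ∃ g : M24, F.φ g = F.ρ ∧ (g = w0 ∨ g = wi) := by
  obtain ⟨g, hg⟩ := F.φ_ρ
  refine ⟨g, hg, ?_⟩
  have h1 := F.ρ_tet ⟨F.φ g, F.φ_mem g⟩ hg
  rw [F.π_φ] at h1
  have h3 : g ^ 3 = 1 := by
    apply phi_inj F
    rw [map_pow, hg, rho3, map_one]
  have hne : g ≠ 1 := by
    rintro rfl
    rw [map_one] at hg
    have := F.ρ_order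
    rw [← hg, orderOf_one] at this
    norm_num at this
  exact eq_w0 h3 hne (fun i => (h1 i).1) fun i => (h1 i).2

theorem wi_eq : wi = w0⁻¹ := (inv_eq_of_mul_eq_one_right w0_mul_wi).symm

theorem comm_g {g m : M24} (hg : g = w0 ∨ g = wi) (h : w0 * m = m * w0) : g * m = m * g := by
  rcases hg with rfl | rfl
  · exact h
  · rw [wi_eq]
    exact (show Commute w0 m from h).inv_left

theorem phi_rho {m : M24} (h : w0 * m = m * w0) : F.φ m * F.ρ = F.ρ * F.φ m := by
  obtain ⟨g, hg, hg'⟩ := exists_g F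
  rw [← hg, ← map_mul, ← map_mul, comm_g hg' h]

theorem rho_ff (i j : Fin 6) (hij : i ≠ j) : F.ρ * ff F.toFrame i j = ff F.toFrame i j * F.ρ := by
  obtain ⟨g, hg, -⟩ := exists_g F
  have h1 := F.ρ_tet ⟨F.φ g, F.φ_mem g⟩ hg
  rw [F.π_φ] at h1
  have h2 := conj_ff F (h1 i).1 (h1 j).1 hij
  rw [hg] at h2
  calc F.ρ * ff F.toFrame i j = F.ρ * ff F.toFrame i j * F.ρ⁻¹ * F.ρ := by group
    _ = _ := by rw [h2]

theorem z_ff (i j : Fin 6) (hij : i ≠ j) : ff F.toFrame i j * F.z = F.z * ff F.toFrame i j :=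
  (F.E_elem _ HexMax.hex0_isHex).2 _ (ff_mem F.toFrame i j hij) _ (F.z_mem_E _ HexMax.hex0_isHex)

theorem m1_tet : (m1 : Equiv.Perm GolayPt) • tet 0 = tet 1 := smul_tet fun c => ⟨_, m1_mog 0 c⟩
theorem m2_tet : (m2 : Equiv.Perm GolayPt) • tet 0 = tet 0 := smul_tet fun c => ⟨_, m2_mog 0 c⟩
theorem m3_tet : (m3 : Equiv.Perm GolayPt) • tet 0 = tet 0 := smul_tet fun c => ⟨_, m3_mog 0 c⟩

/-- the element `φ(m₁)` of `C(z)` -/
noncomputable def y1 : centralizer ({F.z} : Set K) := ⟨F.φ m1, mem_centralizer_singleton_iff.2 (phi_z F m1_tet)⟩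

theorem hp_inj : Function.Injective hp := by
  intro i j h
  revert i j
  decide +kernel

/-- `P(φ(m₁)) ≠ 1` -/
theorem P_y1 : F.P (y1 F) ≠ 1 := by
  intro h
  let d : (i j : Fin 6) → i ≠ j → centralizer ({F.z} : Set K) := fun i j hij =>
    ⟨ff F.toFrame i j, mem_centralizer_singleton_iff.2 (z_ff F i j hij)⟩
  have h03 : (0 : Fin 6) ≠ 3 := by decide
  have h13 : (1 : Fin 6) ≠ 3 := by decide
  have h1 : y1 F * d 0 3 h03 * (y1 F)⁻¹ = d 1 3 h13 := Subtype.ext
    (conj_ff F (m := m1) (i := 0) (j := 3) (i' := 1) (j' := 3) (m1_mog 0 0) (m1_mog 3 0) h03)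
  have h2 := congrArg F.P h1
  rw [map_mul, map_mul, map_inv, h, one_mul, inv_one, mul_one] at h2
  have hm : ∀ i, mog i 0 ∈ tet i := fun i => mem_tet.2 ⟨0, rfl⟩
  have h3 := F.P_ε (d 0 3 h03) 0 3 h03 _ (hm 0) _ (hm 3) rfl
  have h4 := F.P_ε (d 1 3 h13) 1 3 h13 _ (hm 1) _ (hm 3) rfl
  rw [← h2] at h4
  exact absurd (hp_inj ((F.P (d 0 3 h03)).injective (h3.trans h4.symm))) (by decide)

theorem y1_cube : (y1 F) ^ 3 = 1 := by
  apply Subtype.ext
  change (F.φ m1) ^ 3 = 1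
  rw [← map_pow, pow_succ, pow_two, m1_cube, map_one]

end Frame

/-! ### the centralizer of `z` -/

section Cent

variable (C : Cent K)

/-- elements of odd order of `C(z)` have image in `M22` -/
theorem mem22_of_cube {c : centralizer ({C.z} : Set K)} (h : (C.P c) ^ 3 = 1) : C.P c ∈ Spor.M22 := by
  rw [Cfsg.Agent.SporadicA.MathieuRecog.mem_M22_iff]
  rcases P_cases C c with h1 | ⟨h1, h2⟩
  · exact ⟨(P_mem C c).1, h1.1, h1.2⟩
  · exfalso
    have h3 := congrArg (fun g : Equiv.Perm GolayPt => g none) h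
    change C.P c (C.P c (C.P c none)) = none at h3
    rw [h1, h2, h1] at h3
    exact absurd h3 (by decide)

/-- the kernel of `P` -/
theorem card_ker [Finite K] : ¬ 9 ∣ Nat.card C.P.ker := by
  intro h9
  let QC : Subgroup (centralizer ({C.z} : Set K)) := C.Q.subgroupOf _
  have hQle : QC ≤ C.P.ker := fun c hc => P_of_mem_Q C c hc
  have hQc : Nat.card QC = 2 ^ 13 := by
    rw [← C.Q_card]
    exact Nat.card_congr (subgroupOfEquivOfLe C.Q_le).toEquiv
  have h1 : 2 ^ 13 ∣ Nat.card C.P.ker := hQc ▸ card_dvd_of_le hQle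
  have h2 : 2 ^ 13 * 9 ∣ Nat.card C.P.ker := Nat.Coprime.mul_dvd_of_dvd_of_dvd (by norm_num) h1 h9
  have h3 : Nat.card C.P.ker ≤ Nat.card (C.Q × Fin 3) := by
    have hρ3 : C.ρ ^ 3 = 1 := by rw [← C.ρ_order]; exact pow_orderOf_eq_one _
    have hex : ∀ c : C.P.ker, ∃ q : C.Q, ∃ i : Fin 3, ((c : centralizer ({C.z} : Set K)) : K) = q * C.ρ ^ (i : ℕ) := by
      intro c
      obtain ⟨q, hq, i, h⟩ := (C.P_ker c).1 c.2
      exact ⟨⟨q, hq⟩, ⟨i % 3, Nat.mod_lt _ (by norm_num)⟩, by rw [h, pow_red hρ3]⟩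
    choose q i hqi using hex
    apply Nat.card_le_card_of_injective (fun c => (q c, i c))
    intro a b hab
    have h4 : q a = q b := congrArg Prod.fst hab
    have h5 : i a = i b := congrArg Prod.snd hab
    exact Subtype.ext (Subtype.ext (by rw [hqi, hqi, h4, h5]))
  rw [Nat.card_prod, C.Q_card, Nat.card_fin] at h3
  have h4 := Nat.le_of_dvd Nat.card_pos h2
  omega

/-- an element of order 3 with image 1 is conjugate to `ρ` or `ρ⁻¹` -/
theorem conj_of_P_one {c : centralizer ({C.z} : Set K)} (h3 : c ^ 3 = 1) (h1 : c ≠ 1) (hP : C.P c = 1) :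
    ∃ g : K, g * c * g⁻¹ = C.ρ ∨ g * c * g⁻¹ = C.ρ⁻¹ := by
  have hρ3 : C.ρ ^ 3 = 1 := by rw [← C.ρ_order]; exact pow_orderOf_eq_one _
  have hc3 : (c : K) ^ 3 = 1 := congrArg Subtype.val h3
  obtain ⟨q, hq, i, h⟩ := (C.P_ker c).1 hP
  rw [pow_red hρ3] at h
  have hi : i % 3 < 3 := Nat.mod_lt _ (by norm_num)
  interval_cases i % 3
  · exfalso
    rw [pow_zero, mul_one] at h
    apply h1
    apply Subtype.ext
    change (c : K) = 1
    rw [h] at hc3 ⊢
    obtain ⟨n, hn⟩ := Q2 C ⟨q, hq⟩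
    have hn' : q ^ 2 ^ n = 1 := congrArg Subtype.val hn
    have h4 : orderOf q ∣ Nat.gcd (2 ^ n) 3 :=
      Nat.dvd_gcd (orderOf_dvd_of_pow_eq_one hn') (orderOf_dvd_of_pow_eq_one hc3)
    rw [Nat.Coprime.pow_left n (by norm_num)] at h4
    exact orderOf_eq_one_iff.1 (Nat.dvd_one.1 h4)
  · rw [pow_one] at h
    obtain ⟨x, -, hx⟩ := NormRho.exists_conj_rho C hq (by rw [← h]; exact hc3)
    exact ⟨x, Or.inl (by rw [h, hx])⟩
  · have h5 : (c : K)⁻¹ = (C.ρ * q⁻¹ * C.ρ⁻¹) * C.ρ := by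
      rw [h, mul_inv_rev]
      have : (C.ρ ^ 2)⁻¹ = C.ρ := by
        rw [inv_eq_iff_mul_eq_one, ← pow_succ]
        exact hρ3
      rw [this]
      group
    obtain ⟨x, -, hx⟩ := NormRho.exists_conj_rho C (NormRho.rho_mem C (C.Q.inv_mem hq))
      (by rw [← h5, inv_pow, hc3, inv_one])
    refine ⟨x, Or.inr ?_⟩
    rw [← h5] at hx
    rw [← hx]
    group

end Cent

section Conj

variable (F : J4Type.Compl K)

/-- `ρ ^ i y₁` is conjugate to `ρ` or `ρ⁻¹` -/
theorem conj_rho_y (i : ℕ) (hi : i < 3) : ∃ g : K, g * (F.ρ ^ i * y1 F) * g⁻¹ = F.ρ ∨ g * (F.ρ ^ i * y1 F) * g⁻¹ = F.ρ⁻¹ := by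
  obtain ⟨g0, hg0, hg⟩ := exists_g F
  have hww : w0 * w0 = wi := by
    rw [wi_eq]
    exact eq_inv_of_mul_eq_one_left w0_cube
  have hwi : wi * wi = w0 := by
    rw [wi_eq, ← mul_inv_rev, hww, wi_eq, inv_inv]
  have h1 : ∃ g : M24, g * (g0 ^ i * m1) * g⁻¹ = w0 := by
    have key : ∀ k x : M24, k * w0 = x * k → ∃ g : M24, g * x * g⁻¹ = w0 := fun k x h => ⟨k⁻¹, by
      calc k⁻¹ * x * k⁻¹⁻¹ = k⁻¹ * (x * k) := by group
        _ = w0 := by rw [← h]; group⟩
    rcases hg with rfl | rfl <;> interval_cases i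
    · rw [pow_zero, one_mul]; exact key k0 _ k0_conj
    · rw [pow_one]; exact key k1 _ k1_conj
    · rw [pow_two]; exact key k2 _ k2_conj
    · rw [pow_zero, one_mul]; exact key k0 _ k0_conj
    · rw [pow_one, ← hww]; exact key k2 _ k2_conj
    · rw [pow_two, hwi]; exact key k1 _ k1_conj
  obtain ⟨g, h2⟩ := h1
  refine ⟨F.φ g, ?_⟩
  have h3 : F.φ g * (F.ρ ^ i * y1 F) * (F.φ g)⁻¹ = F.φ w0 := by
    rw [← h2, map_mul, map_mul, map_mul, map_inv, map_pow, hg0]
    rfl
  rw [h3]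
  rcases hg with rfl | rfl
  · exact Or.inl hg0
  · right
    rw [← hg0, wi_eq, map_inv, inv_inv]

/-- the elements of order 3 of `C(z)` -/
theorem conj_cent [Finite K] {c : centralizer ({F.z} : Set K)} (h3 : c ^ 3 = 1) (h1 : c ≠ 1) :
    ∃ g : K, g * c * g⁻¹ = F.ρ ∨ g * c * g⁻¹ = F.ρ⁻¹ := by
  by_cases hP : F.P c = 1
  · exact conj_of_P_one F.toCent h3 h1 hP
  have hc3 : (F.P c) ^ 3 = 1 := by rw [← map_pow, h3, map_one]
  have hy3 : (F.P (y1 F)) ^ 3 = 1 := by rw [← map_pow, y1_cube, map_one]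
  obtain ⟨v, hv, hv'⟩ := exists_conj_s (mem22_of_cube F.toCent hc3) hc3 hP
  obtain ⟨w, hw, hw'⟩ := exists_conj_s (mem22_of_cube F.toCent hy3) hy3 (P_y1 F)
  have hwv : w⁻¹ * v ∈ F.P.range := by
    rw [F.P_range]
    have h4 := (Cfsg.Agent.SporadicA.MathieuRecog.mem_M22_iff _).1 (Spor.M22.mul_mem (Spor.M22.inv_mem hw) hv)
    refine ⟨h4.1, ?_⟩
    change (w⁻¹ * v) • base = base
    rw [base, Finset.smul_finset_insert, Finset.smul_finset_singleton]
    change ({(w⁻¹ * v) none, (w⁻¹ * v) (some 0)} : Finset GolayPt) = _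
    rw [h4.2.1, h4.2.2]
  obtain ⟨d, hd⟩ := hwv
  let c' := d * c * d⁻¹
  have hPc' : F.P c' = F.P (y1 F) := by
    change F.P (d * c * d⁻¹) = _
    rw [map_mul, map_mul, map_inv, hd]
    calc w⁻¹ * v * F.P c * (w⁻¹ * v)⁻¹ = w⁻¹ * (v * F.P c * v⁻¹) * w := by group
      _ = w⁻¹ * (w * F.P (y1 F) * w⁻¹) * w := by rw [hv', hw']
      _ = F.P (y1 F) := by group
  have hc'3 : c' ^ 3 = 1 := by
    change (d * c * d⁻¹) ^ 3 = 1
    rw [conj_pow, h3, mul_one, mul_inv_cancel]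
  -- the group `B`
  let B : Subgroup (centralizer ({F.z} : Set K)) := (zpowers (F.P (y1 F))).comap F.P
  have hB27 : ¬ 27 ∣ Nat.card B := by
    intro h27
    let f : B →* Equiv.Perm GolayPt := F.P.comp B.subtype
    have h4 : Nat.card B = Nat.card f.ker * Nat.card f.range := by
      rw [← card_mul_index f.ker, index_ker]
    have h5 : Nat.card f.range ∣ 3 := by
      have h6 : f.range ≤ zpowers (F.P (y1 F)) := by
        rintro _ ⟨b, rfl⟩
        exact b.2
      have h7 := card_dvd_of_le h6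
      rw [Nat.card_zpowers] at h7
      exact h7.trans (orderOf_dvd_of_pow_eq_one hy3)
    have h6 : Nat.card f.ker ∣ Nat.card F.P.ker := by
      have h7 : f.ker.map B.subtype ≤ F.P.ker := by
        rintro _ ⟨b, hb, rfl⟩
        exact hb
      have h8 := card_dvd_of_le h7
      rwa [card_map_of_injective (subtype_injective B)] at h8
    have h7 : 9 * 3 ∣ Nat.card F.P.ker * 3 := by
      have h8 : Nat.card B ∣ Nat.card F.P.ker * 3 := h4 ▸ Nat.mul_dvd_mul h6 h5
      exact h27.trans h8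
    exact card_ker F.toCent (Nat.dvd_of_mul_dvd_mul_right (by norm_num) h7)
  have hρC : F.ρ ∈ centralizer ({F.z} : Set K) := mem_centralizer_singleton_iff.2 F.ρ_comm
  have hPρ : F.P ⟨F.ρ, hρC⟩ = 1 := (F.P_ker _).2 ⟨1, F.Q.one_mem, 1, by rw [one_mul, pow_one]⟩
  have hρB : (⟨F.ρ, hρC⟩ : centralizer ({F.z} : Set K)) ∈ B := by
    change F.P _ ∈ zpowers _
    rw [hPρ]; exact one_mem _
  have hyB : y1 F ∈ B := mem_zpowers _
  have hcB : c' ∈ B := by
    change F.P _ ∈ zpowers _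
    rw [hPc']; exact mem_zpowers _
  have hρ1 : F.ρ ≠ 1 := by
    intro h
    have h4 := F.ρ_order
    rw [h, orderOf_one] at h4
    norm_num at h4
  obtain ⟨g, i, hi, j, hj, hg⟩ := exists_pow (G := B) (a := ⟨⟨F.ρ, hρC⟩, hρB⟩) (b := ⟨y1 F, hyB⟩) (x := ⟨c', hcB⟩)
    (Subtype.ext (Subtype.ext (rho3 F))) (Subtype.ext (y1_cube F))
    (Subtype.ext (Subtype.ext (phi_rho F comm1).symm))
    (fun h => hρ1 (congrArg (fun b : B => ((b : centralizer ({F.z} : Set K)) : K)) h))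
    (fun h => P_y1 F (by
      have h4 : y1 F = 1 := congrArg Subtype.val h
      rw [h4, map_one]))
    (fun h => P_y1 F (by
      have h4 : y1 F = ⟨F.ρ, hρC⟩ := congrArg Subtype.val h
      rw [h4, hPρ]))
    (fun h => P_y1 F (by
      have h4 : y1 F = ⟨F.ρ, hρC⟩ ^ 2 := congrArg Subtype.val h
      rw [h4, map_pow, hPρ, one_pow]))
    hB27 (Subtype.ext hc'3)
  have hg' : (g : centralizer ({F.z} : Set K)) * c' * (g : centralizer ({F.z} : Set K))⁻¹ = ⟨F.ρ, hρC⟩ ^ i * y1 F ^ j :=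
    congrArg Subtype.val hg
  have hj1 : j = 1 := by
    have h4 : F.P g * F.P c' * (F.P g)⁻¹ = (F.P ⟨F.ρ, hρC⟩) ^ i * (F.P (y1 F)) ^ j := by
      rw [← map_inv, ← map_mul, ← map_mul, ← map_pow, ← map_pow, ← map_mul, hg']
    rw [hPρ, one_pow, one_mul, hPc'] at h4
    obtain ⟨n, hn⟩ := mem_zpowers_iff.1 g.2
    have h5 : F.P g * F.P (y1 F) * (F.P g)⁻¹ = F.P (y1 F) := by
      have h6 : Commute (F.P g) (F.P (y1 F)) := by
        rw [← hn]
        exact (Commute.refl _).zpow_left n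
      rw [h6.eq, mul_inv_cancel_right]
    rw [h5] at h4
    interval_cases j
    · rw [pow_zero] at h4
      exact absurd h4 (P_y1 F)
    · rfl
    · exfalso
      apply P_y1 F
      rw [pow_two] at h4
      exact (mul_eq_left.1 h4.symm)
  subst hj1
  rw [pow_one] at hg'
  obtain ⟨k, hk⟩ := conj_rho_y F i hi
  have h4 : ((g : centralizer ({F.z} : Set K)) : K) * (d * c * (d : K)⁻¹) * ((g : centralizer ({F.z} : Set K)) : K)⁻¹ =
    F.ρ ^ i * y1 F := congrArg Subtype.val hg'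
  have h5 : k * ((g : centralizer ({F.z} : Set K)) : K) * d * c * (k * ((g : centralizer ({F.z} : Set K)) : K) * d)⁻¹ =
      k * (F.ρ ^ i * y1 F) * k⁻¹ := by
    rw [← h4]
    group
  exact ⟨k * ((g : centralizer ({F.z} : Set K)) : K) * d, by rw [h5]; exact hk⟩

/-- **one class of subgroups of order 3** -/
theorem conj_rho [Finite K] (hi : ¬ 3 ∣ (centralizer ({F.z} : Set K)).index) {x : K} (hx : orderOf x = 3) :
    ∃ g : K, g * x * g⁻¹ = F.ρ ∨ g * x * g⁻¹ = F.ρ⁻¹ := by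
  have : Fact (Nat.Prime 3) := ⟨Nat.prime_three⟩
  have hX : IsPGroup 3 (zpowers x) := IsPGroup.of_card (n := 1) (by rw [Nat.card_zpowers, hx, pow_one])
  obtain ⟨q, hq⟩ := hX.nonempty_fixed_point_of_prime_not_dvd_card (K ⧸ centralizer ({F.z} : Set K)) hi
  obtain ⟨g, rfl⟩ := QuotientGroup.mk_surjective q
  have h1 : (⟨x, mem_zpowers x⟩ : zpowers x) • (QuotientGroup.mk g : K ⧸ centralizer ({F.z} : Set K)) =
    QuotientGroup.mk g := hq ⟨x, mem_zpowers x⟩
  have h2 : (QuotientGroup.mk (x * g) : K ⧸ centralizer ({F.z} : Set K)) = QuotientGroup.mk g := h1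
  rw [QuotientGroup.eq] at h2
  have h3 : g⁻¹ * x * g ∈ centralizer ({F.z} : Set K) := by
    have h4 := inv_mem h2
    have h5 : ((x * g)⁻¹ * g)⁻¹ = g⁻¹ * x * g := by group
    rwa [h5] at h4
  have hx3 : x ^ 3 = 1 := by rw [← hx]; exact pow_orderOf_eq_one x
  obtain ⟨k, hk⟩ := conj_cent F (c := ⟨g⁻¹ * x * g, h3⟩) (Subtype.ext (by
      change (g⁻¹ * x * g) ^ 3 = 1
      have h4 : g⁻¹ * x * g = g⁻¹ * x * g⁻¹⁻¹ := by group
      rw [h4, conj_pow, hx3]; group))
    (fun h => by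
      have h4 : g⁻¹ * x * g = 1 := congrArg Subtype.val h
      have h5 : x = 1 := by
        calc x = g * (g⁻¹ * x * g) * g⁻¹ := by group
          _ = 1 := by rw [h4]; group
      rw [h5, orderOf_one] at hx
      norm_num at hx)
  refine ⟨k * g⁻¹, ?_⟩
  have h4 : k * g⁻¹ * x * (k * g⁻¹)⁻¹ = k * (g⁻¹ * x * g) * k⁻¹ := by group
  rw [h4]
  exact hk

end Conj

/-! ### the centralizer of `ρ` -/

section Rho

variable (F : J4Type.Compl K)

/-- the elements of `C(z) ∩ C(ρ)` have image in `M22` -/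
theorem mem22_of_comm {c : centralizer ({F.z} : Set K)} (h : (c : K) * F.ρ = F.ρ * c) : F.P c ∈ Spor.M22 := by
  rw [Cfsg.Agent.SporadicA.MathieuRecog.mem_M22_iff]
  by_cases hc : F.P c none = none
  · rcases P_cases F.toCent c with h1 | ⟨h1, h2⟩
    · exact ⟨(P_mem F.toCent c).1, h1.1, h1.2⟩
    · rw [h1] at hc
      exact absurd hc (by decide)
  · exfalso
    obtain ⟨q, hq, h1⟩ := F.P_outer c hc
    have h2 : F.ρ ^ 2 = q := by
      have h3 : (c : K) * F.ρ * (c : K)⁻¹ = F.ρ := by rw [h, mul_inv_cancel_right]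
      rw [h3] at h1
      calc F.ρ ^ 2 = F.ρ * F.ρ := pow_two _
        _ = q * F.ρ⁻¹ * F.ρ := by rw [← h1]
        _ = q := by group
    obtain ⟨n, hn⟩ := Q2 F.toCent ⟨q, hq⟩
    have hn' : q ^ 2 ^ n = 1 := congrArg Subtype.val hn
    rw [← h2, ← pow_mul] at hn'
    have h4 : 3 ∣ 2 * 2 ^ n := by
      rw [← F.ρ_order]
      exact orderOf_dvd_of_pow_eq_one hn'
    have h5 : 3 ∣ 2 ^ (n + 1) := by rwa [pow_succ, mul_comm]
    have h6 := Nat.Prime.dvd_of_dvd_pow Nat.prime_three h5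
    norm_num at h6

/-- the centralizer of `ρ` -/
abbrev HH : Subgroup K := centralizer ({F.ρ} : Set K)

theorem z_mem_HH : F.z ∈ HH F := mem_centralizer_singleton_iff.2 F.ρ_comm.symm

/-- `z` in `C(ρ)` -/
def zH : HH F := ⟨F.z, z_mem_HH F⟩

/-- `ρ` in `C(ρ)` -/
def rH : HH F := ⟨F.ρ, mem_centralizer_singleton_iff.2 rfl⟩

theorem mem_DD {c : HH F} : c ∈ centralizer ({zH F} : Set (HH F)) ↔ (c : K) * F.z = F.z * c := by
  rw [mem_centralizer_singleton_iff]
  exact ⟨fun h => congrArg Subtype.val h, fun h => Subtype.ext h⟩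

/-- an element of `C(ρ) ∩ C(z)` -/
def mkD {c : K} (h1 : c * F.ρ = F.ρ * c) (h2 : c * F.z = F.z * c) : centralizer ({zH F} : Set (HH F)) :=
  ⟨⟨c, mem_centralizer_singleton_iff.2 h1⟩, (mem_DD F).2 h2⟩

/-- the element of `C(z)` -/
def toC (c : centralizer ({zH F} : Set (HH F))) : centralizer ({F.z} : Set K) :=
  ⟨((c : HH F) : K), mem_centralizer_singleton_iff.2 ((mem_DD F).1 c.2)⟩

theorem toC_comm (c : centralizer ({zH F} : Set (HH F))) : ((toC F c : centralizer ({F.z} : Set K)) : K) * F.ρ = F.ρ * toC F c :=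
  mem_centralizer_singleton_iff.1 (c : HH F).2

/-- the homomorphism onto `M22` -/
def fM : centralizer ({zH F} : Set (HH F)) →* Spor.M22 where
  toFun c := ⟨F.P (toC F c), mem22_of_comm F (toC_comm F c)⟩
  map_one' := Subtype.ext (map_one F.P)
  map_mul' a b := Subtype.ext (map_mul F.P (toC F a) (toC F b))

theorem fM_surj : Function.Surjective (fM F) := by
  rintro ⟨w, hw⟩
  have h4 := (Cfsg.Agent.SporadicA.MathieuRecog.mem_M22_iff _).1 hw
  have hwr : w ∈ F.P.range := by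
    rw [F.P_range]
    refine ⟨h4.1, ?_⟩
    change w • base = base
    rw [base, Finset.smul_finset_insert, Finset.smul_finset_singleton]
    change ({w none, w (some 0)} : Finset GolayPt) = _
    rw [h4.2.1, h4.2.2]
  obtain ⟨c, rfl⟩ := hwr
  obtain ⟨x, hx, h⟩ := NormRho.exists_comm F.toCent c h4.2.1
  have hxC : x ∈ centralizer ({F.z} : Set K) := F.Q_le hx
  have h1 : (x * c) * F.z = F.z * (x * c) :=
    mem_centralizer_singleton_iff.1 (mul_mem hxC c.2)
  refine ⟨mkD F h h1, Subtype.ext ?_⟩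
  change F.P (⟨x, hxC⟩ * c) = F.P c
  rw [map_mul, P_of_mem_Q F.toCent ⟨x, hxC⟩ hx, one_mul]

theorem fM_ker (c : centralizer ({zH F} : Set (HH F))) (h : fM F c = 1) :
    ∃ i j : ℕ, (c : HH F) = zH F ^ i * rH F ^ j := by
  have h1 : F.P (toC F c) = 1 := congrArg Subtype.val h
  obtain ⟨q, hq, j, h2⟩ := (F.P_ker _).1 h1
  change ((c : HH F) : K) = q * F.ρ ^ j at h2
  have hcρ : ((c : HH F) : K) * F.ρ = F.ρ * ((c : HH F) : K) := toC_comm F c
  have hqc : F.ρ * q = q * F.ρ := by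
    have h3 : q = ((c : HH F) : K) * (F.ρ ^ j)⁻¹ := by rw [h2]; group
    have h4 : Commute F.ρ ((c : HH F) : K) := hcρ.symm
    have h5 : Commute F.ρ (F.ρ ^ j)⁻¹ := ((Commute.refl F.ρ).pow_right j).inv_right
    rw [h3]
    exact (h4.mul_right h5).eq
  rcases F.ρ_fix q hq hqc with h3 | h3
  · exact ⟨0, j, Subtype.ext (by
      change ((c : HH F) : K) = F.z ^ 0 * F.ρ ^ j
      rw [h2, h3, pow_zero])⟩
  · exact ⟨1, j, Subtype.ext (by
      change ((c : HH F) : K) = F.z ^ 1 * F.ρ ^ j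
      rw [h2, h3, pow_one])⟩

/-- `ff i j` in `C(ρ) ∩ C(z)` -/
noncomputable def ffD (i j : Fin 6) (h : i ≠ j) : centralizer ({zH F} : Set (HH F)) :=
  mkD F (rho_ff F i j h).symm (z_ff F i j h)

/-- `φ m` in `C(ρ) ∩ C(z)` -/
noncomputable def phiD (m : M24) (i : Fin 6) (h : (m : Equiv.Perm GolayPt) • tet 0 = tet i) (h' : w0 * m = m * w0) :
    centralizer ({zH F} : Set (HH F)) :=
  mkD F (phi_rho F h') (phi_z F h)

theorem z_mem_commutator : (⟨zH F, mem_centralizer_singleton_iff.2 rfl⟩ : centralizer ({zH F} : Set (HH F))) ∈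
    commutator (centralizer ({zH F} : Set (HH F))) := by
  have key : ∀ (m : M24) (t : Fin 6) (h : (m : Equiv.Perm GolayPt) • tet 0 = tet t) (h' : w0 * m = m * w0)
      (i j k : Fin 6) (hik : i ≠ k) (hjk : j ≠ k) (hij : i ≠ j),
      (m : Equiv.Perm GolayPt) (mog i 0) = mog j 0 → (m : Equiv.Perm GolayPt) (mog k 0) = mog k 0 →
      ffD F j i hij.symm ∈ commutator (centralizer ({zH F} : Set (HH F))) := by
    intro m t h h' i j k hik hjk hij hi hk
    have h1 : ⁅phiD F m t h h', ffD F i k hik⁆ = ffD F j i hij.symm := by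
      apply Subtype.ext
      apply Subtype.ext
      change F.φ m * ff F.toFrame i k * (F.φ m)⁻¹ * (ff F.toFrame i k)⁻¹ = ff F.toFrame j i
      rw [conj_ff F hi hk hik, inv_eq_of_mul_eq_one_left (ff_sq F.toFrame i k hik), ff_symm F.toFrame i k,
        ff_mul F.toFrame hjk hik.symm hij.symm]
    rw [← h1, _root_.commutator_def]
    exact commutator_mem_commutator (mem_top _) (mem_top _)
  have h10 := key m1 1 m1_tet comm1 0 1 3 (by decide) (by decide) (by decide) (m1_mog 0 0) (m1_mog 3 0)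
  have h32 := key m3 0 m3_tet comm3 2 3 0 (by decide) (by decide) (by decide) (m3_mog 2 0) (m3_mog 0 0)
  have h54 := key m2 0 m2_tet comm2 4 5 0 (by decide) (by decide) (by decide) (m2_mog 4 0) (m2_mog 0 0)
  have h1 : (⟨zH F, mem_centralizer_singleton_iff.2 rfl⟩ : centralizer ({zH F} : Set (HH F))) =
      ffD F 1 0 (by decide) * ffD F 3 2 (by decide) * ffD F 5 4 (by decide) := by
    apply Subtype.ext
    apply Subtype.ext
    change F.z = ff F.toFrame 1 0 * ff F.toFrame 3 2 * ff F.toFrame 5 4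
    rw [ff_match F.toFrame (by decide)]
  rw [h1]
  exact mul_mem (mul_mem h10 h32) h54

end Rho

end Cfsg.Agent.H856.ThreeRho
end

-- part: H856/CentRho
section
/-!
# The centraliser and normaliser of `ρ` in a group with the structure `J4Type.Compl`

* `inv_D` : an involution of `C(z) ∩ C(ρ)` different from `z` is conjugate in `C(z) ∩ C(ρ)` to `ff 0 1` or `z · ff 0 1`;
* `isolated` : `z` is isolated in `C(ρ)`;
* `cent_rho` : `C(ρ) ≤ C(z)`;  `norm_rho` : `N(⟨ρ⟩) ≤ C(z)`.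
-/

set_option autoImplicit false

namespace Cfsg.Agent.H856.CentRho

open Subgroup Cfsg Cfsg.Agent.J4Type Cfsg.Agent.J4Type.FusionCent Cfsg.Agent.J4Type.TauF
open Cfsg.Agent.H856.ThreeM24 Cfsg.Agent.H856.ThreeRho
open scoped Pointwise commutatorElement

variable {K : Type*} [Group K] (F : J4Type.Compl K)

theorem zz : F.z * F.z = 1 := by rw [← pow_two, ← F.z_order]; exact pow_orderOf_eq_one _

theorem z_ne : F.z ≠ 1 := by
  intro h
  have := F.z_order
  rw [h, orderOf_one] at this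
  exact absurd this (by norm_num)

theorem rho_ne : F.ρ ≠ 1 := by
  intro h
  have := F.ρ_order
  rw [h, orderOf_one] at this
  exact absurd this (by norm_num)

theorem ff_ne {i j : Fin 6} (hij : i ≠ j) : ff F.toFrame i j ≠ 1 := fun h =>
  ff_not_mem_Q F.toFrame hij (by rw [h]; exact F.Q.one_mem)

/-- four of the six points `mog i 0` -/
def four : Finset GolayPt := {m0 2, m0 3, m0 4, m0 5}

theorem card_four : four.card = 4 := by decide +kernel

theorem ε_four : F.ε four = F.z * ff F.toFrame 0 1 := by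
  have h1 : symmDiff ({m0 2, m0 3} : Finset GolayPt) {m0 4, m0 5} = four := by decide +kernel
  have h2 : F.ε four = ff F.toFrame 2 3 * ff F.toFrame 4 5 := by
    rw [← h1, F.ε_mul _ _ (by decide +kernel) (by decide +kernel)]
    rfl
  have h3 : ff F.toFrame 0 1 * ff F.toFrame 2 3 * ff F.toFrame 4 5 = F.z :=
    ff_match F.toFrame (by decide)
  have h4 := ff_sq F.toFrame 0 1 (by decide)
  rw [h2, ← h3]
  have h5 : ff F.toFrame 0 1 * ff F.toFrame 2 3 * ff F.toFrame 4 5 * ff F.toFrame 0 1 =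
      ff F.toFrame 0 1 * (ff F.toFrame 0 1 * ff F.toFrame 2 3 * ff F.toFrame 4 5) := by
    rw [h3]
    exact (z_ff F 0 1 (by decide)).symm
  rw [h5, ← mul_assoc, ← mul_assoc, h4, one_mul]

/-- duads inside `tet 0` are in `Q` -/
theorem mem_Q_of_sub {S : Finset GolayPt} (hS : S ⊆ tet 0) (hc : S.card = 2) : F.ε S ∈ F.Q := by
  rw [F.A_iff S (by rw [hc]; decide)]
  left
  intro i
  by_cases hi : i = 0
  · subst hi
    rw [Finset.inter_eq_left.2 hS, hc]
    decide
  · have h1 : S ∩ tet i = ∅ := by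
      rw [← Finset.disjoint_iff_inter_eq_empty]
      have h2 : ∀ i : Fin 6, i ≠ 0 → Disjoint (tet 0) (tet i) := by decide +kernel
      exact Finset.disjoint_of_subset_left hS (h2 i hi)
    rw [h1]
    decide

/-- the element of `M24` mapping the sextet of `z` to the sextet of `four` -/
theorem exists_m : ∃ m : M24, F.φ m * F.z * (F.φ m)⁻¹ = F.z * ff F.toFrame 0 1 ∧
    (F.φ m)⁻¹ * ff F.toFrame 2 3 * F.φ m ∈ F.Q := by
  obtain ⟨m, hm⟩ := FinalGen.exists_smul_four (card_tet 0) card_four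
  refine ⟨m, ?_, ?_⟩
  · rw [← ε_four, ← hm, ← F.ε_tet 0]
    exact FinalGen.Compl.conj_ε F m (S := tet 0) (by rw [card_tet]; decide)
  · have h1 := FinalGen.Compl.conj_ε F m⁻¹ (S := {m0 2, m0 3}) (by decide +kernel)
    rw [map_inv, inv_inv] at h1
    unfold ff
    rw [h1]
    apply mem_Q_of_sub
    · intro p hp
      obtain ⟨q, hq, rfl⟩ := Finset.mem_smul_finset.1 hp
      have h2 : q ∈ four := by
        have h3 : ({m0 2, m0 3} : Finset GolayPt) ⊆ four := by decide +kernel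
        exact h3 hq
      rw [← hm] at h2
      obtain ⟨r, hr, rfl⟩ := Finset.mem_smul_finset.1 h2
      have h4 : (m⁻¹ : M24).1 • (m : Equiv.Perm GolayPt) • r = r := by
        rw [← mul_smul]
        show ((m : Equiv.Perm GolayPt)⁻¹ * (m : Equiv.Perm GolayPt)) • r = r
        rw [inv_mul_cancel, one_smul]
      show (m⁻¹ : M24).1 • (m : Equiv.Perm GolayPt) • r ∈ tet 0
      rw [h4]
      exact hr
    · rw [Finset.card_smul_finset]
      decide +kernel

/-- `z` is not conjugate to `z · ff 0 1` in `C(ρ)` -/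
theorem not_conj_s {x : K} (hx : x * F.ρ = F.ρ * x) : x * F.z * x⁻¹ ≠ F.z * ff F.toFrame 0 1 := by
  intro h
  obtain ⟨m, hm, hQ⟩ := exists_m F
  have hc : ((F.φ m)⁻¹ * x) * F.z = F.z * ((F.φ m)⁻¹ * x) := by
    rw [← hm] at h
    have h1 : x * F.z = F.φ m * F.z * (F.φ m)⁻¹ * x := by rw [← h]; group
    rw [mul_assoc, h1]; group
  set c := (F.φ m)⁻¹ * x with hcd
  have hci : c⁻¹ * F.z = F.z * c⁻¹ := (show Commute c F.z from hc).inv_left.eq
  have h1 : x⁻¹ * ff F.toFrame 2 3 * x ∈ F.Q := by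
    have h2 := F.Q_conj c⁻¹ hci _ hQ
    have h3 : c⁻¹ * ((F.φ m)⁻¹ * ff F.toFrame 2 3 * F.φ m) * c⁻¹⁻¹ = x⁻¹ * ff F.toFrame 2 3 * x := by
      rw [hcd]; group
    rwa [h3] at h2
  have h2 : F.ρ * (x⁻¹ * ff F.toFrame 2 3 * x) = x⁻¹ * ff F.toFrame 2 3 * x * F.ρ := by
    have c1 : Commute F.ρ x := (show Commute x F.ρ from hx).symm
    have c2 : Commute F.ρ (ff F.toFrame 2 3) := rho_ff F 2 3 (by decide)
    exact ((c1.inv_right.mul_right c2).mul_right c1).eq
  rcases F.ρ_fix _ h1 h2 with h3 | h3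
  · apply ff_ne F (show (2 : Fin 6) ≠ 3 by decide)
    have h4 : ff F.toFrame 2 3 = x * (x⁻¹ * ff F.toFrame 2 3 * x) * x⁻¹ := by group
    rw [h4, h3]; group
  · have h4 : ff F.toFrame 2 3 = x * F.z * x⁻¹ := by rw [← h3]; group
    apply F.duad_not_conj (m0 2) (m0 3) (fun h => absurd (m0_inj h) (by decide))
    rw [isConj_iff]
    exact ⟨x, h4.symm⟩

theorem rho_pow_eq_one {j : ℕ} (h : F.ρ ^ (2 * j) = 1) : F.ρ ^ j = 1 := by
  have h1 := orderOf_dvd_of_pow_eq_one h
  rw [F.ρ_order] at h1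
  have h2 : 3 ∣ j := (Nat.Coprime.dvd_mul_left (by norm_num)).1 h1
  rw [← orderOf_dvd_iff_pow_eq_one, F.ρ_order]
  exact h2

/-- a product `z ^ i * ρ ^ j * e` of order at most 2 -/
theorem pow_aux {i j : ℕ} {e y : K} (hee : e * e = 1) (hze : e * F.z = F.z * e) (hρe : e * F.ρ = F.ρ * e)
    (hy : y = F.z ^ i * F.ρ ^ j * e) (hyy : y * y = 1) : y = e ∨ y = F.z * e := by
  have c1 : Commute F.z F.ρ := F.ρ_comm.symm
  have c2 : Commute e F.z := hze
  have c3 : Commute e F.ρ := hρe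
  have h1 : y * y = F.ρ ^ (2 * j) := by
    have hz2 : F.z ^ i * F.z ^ i = 1 := by rw [← (Commute.refl F.z).mul_pow, zz, one_pow]
    have d1 : Commute (F.ρ ^ j) (F.z ^ i) := (c1.pow_pow i j).symm
    have d2 : Commute e (F.z ^ i) := c2.pow_right i
    have d3 : Commute e (F.ρ ^ j) := c3.pow_right j
    calc y * y = F.z ^ i * F.ρ ^ j * (e * F.z ^ i) * F.ρ ^ j * e := by rw [hy]; group
      _ = F.z ^ i * (F.ρ ^ j * F.z ^ i) * (e * F.ρ ^ j) * e := by rw [d2.eq]; group
      _ = F.z ^ i * F.z ^ i * (F.ρ ^ j * F.ρ ^ j) * (e * e) := by rw [d1.eq, d3.eq]; group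
      _ = F.ρ ^ (2 * j) := by rw [hz2, hee, one_mul, mul_one, two_mul, pow_add]
  rw [h1] at hyy
  have h2 := rho_pow_eq_one F hyy
  rw [h2, mul_one] at hy
  rcases Nat.even_or_odd' i with ⟨k, rfl | rfl⟩
  · left
    rw [hy, pow_mul, pow_two, zz, one_pow, one_mul]
  · right
    rw [hy, pow_succ, pow_mul, pow_two, zz, one_pow, one_mul]

/-- **involutions of `C(z) ∩ C(ρ)`** -/
theorem inv_D {y : K} (hyy : y * y = 1) (hy1 : y ≠ 1) (hyz : y ≠ F.z) (hρ : y * F.ρ = F.ρ * y)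
    (hz : y * F.z = F.z * y) :
    ∃ d : K, d * F.ρ = F.ρ * d ∧ d * F.z = F.z * d ∧
      (d * y * d⁻¹ = ff F.toFrame 0 1 ∨ d * y * d⁻¹ = F.z * ff F.toFrame 0 1) := by
  have h01 : (0 : Fin 6) ≠ 1 := by decide
  have hone : ∀ {u : K} (h1 : u * F.ρ = F.ρ * u) (h2 : u * F.z = F.z * u), u * u = 1 →
      fM F (mkD F h1 h2) = 1 → u = 1 ∨ u = F.z := by
    intro u h1 h2 huu h
    obtain ⟨i, j, h3⟩ := fM_ker F _ h
    have h4 : u = F.z ^ i * F.ρ ^ j * 1 := by
      rw [mul_one]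
      exact congrArg Subtype.val h3
    rcases pow_aux F (one_mul 1) (by rw [one_mul, mul_one]) (by rw [one_mul, mul_one]) h4 huu with h5 | h5
    · exact Or.inl h5
    · right; rw [h5, mul_one]
  set e := ff F.toFrame 0 1 with he
  have hee : e * e = 1 := ff_sq F.toFrame 0 1 h01
  have he1 : e ≠ 1 := ff_ne F h01
  have heρ : e * F.ρ = F.ρ * e := (rho_ff F 0 1 h01).symm
  have hez : e * F.z = F.z * e := z_ff F 0 1 h01
  have heQ : e ≠ F.z := by
    intro h
    exact ff_not_mem_Q F.toFrame h01 (by rw [← he, h]; exact F.z_mem_Q)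
  have hsq : ∀ {u : K} (h1 : u * F.ρ = F.ρ * u) (h2 : u * F.z = F.z * u), u * u = 1 →
      (fM F (mkD F h1 h2) : Equiv.Perm GolayPt) * (fM F (mkD F h1 h2) : Equiv.Perm GolayPt) = 1 := by
    intro u h1 h2 huu
    rw [← Subgroup.coe_mul, ← map_mul]
    have : mkD F h1 h2 * mkD F h1 h2 = 1 := Subtype.ext (Subtype.ext huu)
    rw [this, map_one]
    rfl
  have hne : ∀ {u : K} (h1 : u * F.ρ = F.ρ * u) (h2 : u * F.z = F.z * u), u * u = 1 → u ≠ 1 → u ≠ F.z →
      (fM F (mkD F h1 h2) : Equiv.Perm GolayPt) ≠ 1 := by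
    intro u h1 h2 huu hu1 huz h
    rcases hone h1 h2 huu (Subtype.ext h) with h3 | h3
    · exact hu1 h3
    · exact huz h3
  obtain ⟨g, hg, h1⟩ := KFacts.MM.InvM22.inv22 _ (fM F (mkD F hρ hz)).2 (hsq hρ hz hyy)
    (hne hρ hz hyy hy1 hyz)
  obtain ⟨g', hg', h2⟩ := KFacts.MM.InvM22.inv22 _ (fM F (mkD F heρ hez)).2 (hsq heρ hez hee)
    (hne heρ hez hee he1 heQ)
  obtain ⟨d, hd⟩ := fM_surj F (⟨g', hg'⟩ * ⟨g, hg⟩⁻¹)
  have h3 : fM F (d * mkD F hρ hz * d⁻¹ * (mkD F heρ hez)⁻¹) = 1 := by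
    rw [map_mul, map_mul, map_mul, map_inv, map_inv, hd, mul_inv_eq_one]
    apply Subtype.ext
    show g' * g⁻¹ * (fM F (mkD F hρ hz) : Equiv.Perm GolayPt) * (g' * g⁻¹)⁻¹ =
      (fM F (mkD F heρ hez) : Equiv.Perm GolayPt)
    rw [h1, h2]; group
  obtain ⟨i, j, h4⟩ := fM_ker F _ h3
  set dK : K := ((d : HH F) : K) with hdK
  have hdρ : dK * F.ρ = F.ρ * dK := mem_centralizer_singleton_iff.1 (d : HH F).2
  have hdz : dK * F.z = F.z * dK := (mem_DD F).1 d.2
  refine ⟨dK, hdρ, hdz, ?_⟩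
  have h5 : dK * y * dK⁻¹ * e⁻¹ = F.z ^ i * F.ρ ^ j := congrArg Subtype.val h4
  rw [mul_inv_eq_iff_eq_mul] at h5
  apply pow_aux F hee hez heρ h5
  have : dK * y * dK⁻¹ * (dK * y * dK⁻¹) = dK * (y * y) * dK⁻¹ := by group
  rw [this, hyy]; group

/-- **`z` is isolated in `C(ρ)`** -/
theorem isolated : IsIsolatedInvolution (zH F) := by
  refine ⟨?_, ?_⟩
  · unfold zH
    rw [Subgroup.orderOf_mk, F.z_order]
  · intro g hg
    by_contra hne
    set y : K := (g : K) * F.z * (g : K)⁻¹ with hy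
    have hgρ : (g : K) * F.ρ = F.ρ * g := mem_centralizer_singleton_iff.1 g.2
    have hyz : y * F.z = F.z * y := (congrArg Subtype.val hg.eq).symm
    have hyρ : y * F.ρ = F.ρ * y := by
      have c1 : Commute (g : K) F.ρ := hgρ
      have c2 : Commute F.z F.ρ := F.ρ_comm.symm
      exact ((c1.mul_left c2).mul_left c1.inv_left).eq
    have hyne : y ≠ F.z := fun h => hne (Subtype.ext h)
    have hyy : y * y = 1 := by
      have : y * y = (g : K) * (F.z * F.z) * (g : K)⁻¹ := by rw [hy]; group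
      rw [this, zz]; group
    have hy1 : y ≠ 1 := by
      intro h
      apply z_ne F
      have : F.z = (g : K)⁻¹ * y * g := by rw [hy]; group
      rw [this, h]; group
    obtain ⟨d, hd1, hd2, hd3⟩ := inv_D F hyy hy1 hyne hyρ hyz
    have hdg : d * y * d⁻¹ = (d * g) * F.z * (d * g)⁻¹ := by rw [hy]; group
    rw [hdg] at hd3
    have hdgρ : (d * g) * F.ρ = F.ρ * (d * g) :=
      ((show Commute d F.ρ from hd1).mul_left (show Commute (g : K) F.ρ from hgρ)).eq
    rcases hd3 with h | h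
    · apply F.duad_not_conj (m0 0) (m0 1) (fun h => absurd (m0_inj h) (by decide))
      rw [isConj_iff]
      exact ⟨d * g, h⟩
    · exact not_conj_s F hdgρ h

section Fin

variable [Finite K]

/-- elements of odd order normalising... : `C_N(ff i j)` centralises `z` -/
theorem duad_aux {N : Subgroup (HH F)} [hN : N.Normal] (hodd : Odd (Nat.card N)) {i j : Fin 6} (hij : i ≠ j)
    {w : HH F} (hw : w ∈ N) (hc : (w : K) * ff F.toFrame i j = ff F.toFrame i j * w) :
    (w : K) * F.z = F.z * w := by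
  have hnorm : (w : K) ∈ normalizer (F.E hex0 : Set K) :=
    DuadCent.duad_cent F.toFrame (fun h => hij (m0_inj h)) hc
  have hzE : F.z ∈ F.E hex0 := F.z_mem_E _ HexMax.hex0_isHex
  set c : HH F := w * zH F * w⁻¹ * (zH F)⁻¹ with hcd
  have hcN : c ∈ N := by
    have h1 : c = w * (zH F * w⁻¹ * (zH F)⁻¹) := by rw [hcd]; group
    rw [h1]
    exact N.mul_mem hw (hN.conj_mem _ (N.inv_mem hw) _)
  have hcE : (c : K) ∈ F.E hex0 := by
    have h1 : (c : K) = (w : K) * F.z * (w : K)⁻¹ * F.z⁻¹ := rfl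
    rw [h1]
    exact (F.E hex0).mul_mem ((mem_normalizer_iff.1 hnorm _).1 hzE) ((F.E hex0).inv_mem hzE)
  have hcc : c * c = 1 := Subtype.ext ((F.E_elem _ HexMax.hex0_isHex).1 _ hcE)
  have hc1 : c = 1 := by
    have h1 : orderOf (⟨c, hcN⟩ : N) ∣ 2 := orderOf_dvd_of_pow_eq_one (by
      rw [pow_two]; exact Subtype.ext hcc)
    have h2 : orderOf (⟨c, hcN⟩ : N) ∣ Nat.card N := orderOf_dvd_natCard _
    have h3 : orderOf (⟨c, hcN⟩ : N) ∣ Nat.gcd 2 (Nat.card N) := Nat.dvd_gcd h1 h2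
    rw [Nat.coprime_two_left.2 hodd] at h3
    exact congrArg Subtype.val (orderOf_eq_one_iff.1 (Nat.dvd_one.1 h3))
  have h4 : (w : K) * F.z * (w : K)⁻¹ * F.z⁻¹ = 1 := congrArg Subtype.val hc1
  rw [mul_inv_eq_one, mul_inv_eq_iff_eq_mul] at h4
  exact h4

theorem exists_N : ∃ N : Subgroup (HH F), N.Normal ∧ Odd (Nat.card N) ∧
    ∀ g : HH F, (zH F * g * (zH F)⁻¹ * g⁻¹) ∈ N := by
  have : Fact (Nat.Prime 2) := ⟨Nat.prime_two⟩
  have hiso := isolated F
  have hp : IsPGroup 2 (zpowers (zH F)) := by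
    apply IsPGroup.of_card (n := 1)
    rw [Nat.card_zpowers, hiso.1, pow_one]
  obtain ⟨P, hP⟩ := hp.exists_le_sylow
  have htP : zH F ∈ P := hP (mem_zpowers _)
  exact Cfsg.Agent.S0215.result P (zH F) hiso.1 htP
    (fun g hg => Cfsg.Agent.S1180.eq_of_conj_mem_isPGroup (zH F) hiso (P : Subgroup (HH F)) P.2 htP g hg)

/-- a normal subgroup of odd order of `C(ρ)` centralises `z` -/
theorem N_le {N : Subgroup (HH F)} [hN : N.Normal] (hodd : Odd (Nat.card N)) :
    N ≤ centralizer ({zH F} : Set (HH F)) := by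
  have h01 : (0 : Fin 6) ≠ 1 := by decide
  let eH : HH F := ⟨ff F.toFrame 0 1, mem_centralizer_singleton_iff.2 (rho_ff F 0 1 h01).symm⟩
  have hze : zH F * eH = eH * zH F := Subtype.ext (z_ff F 0 1 h01).symm
  refine Lib.KleinGen.le_of_klein N _ hodd (zH F) eH (Subtype.ext (zz F))
    (Subtype.ext (ff_sq F.toFrame 0 1 h01)) hze (fun h hh => hN.conj_mem h hh _)
    (fun h hh => hN.conj_mem h hh _) inf_le_right ?_ ?_
  · intro w hw
    rw [mem_inf, mem_centralizer_singleton_iff] at hw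
    rw [mem_DD]
    exact duad_aux F hodd h01 hw.1 (congrArg Subtype.val hw.2)
  · intro w hw
    rw [mem_inf, mem_centralizer_singleton_iff] at hw
    rw [mem_DD]
    obtain ⟨m, hm, hQ⟩ := exists_m F
    have h23 : (2 : Fin 6) ≠ 3 := by decide
    refine duad_aux F hodd h23 hw.1 ?_
    -- `w` commutes with `z ff 0 1 = φ m z φ m⁻¹`
    have hws : (w : K) * (F.z * ff F.toFrame 0 1) = (F.z * ff F.toFrame 0 1) * w :=
      congrArg Subtype.val hw.2
    set u : K := (F.φ m)⁻¹ * w * F.φ m with hu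
    have huz : u * F.z = F.z * u := by
      rw [← hm] at hws
      have h1 : (w : K) * (F.φ m * F.z * (F.φ m)⁻¹) * F.φ m = F.φ m * F.z * (F.φ m)⁻¹ * w * F.φ m := by
        rw [hws]
      calc u * F.z = (F.φ m)⁻¹ * ((w : K) * (F.φ m * F.z * (F.φ m)⁻¹) * F.φ m) := by rw [hu]; group
        _ = (F.φ m)⁻¹ * (F.φ m * F.z * (F.φ m)⁻¹ * w * F.φ m) := by rw [h1]
        _ = F.z * u := by rw [hu]; group
    set q : K := (F.φ m)⁻¹ * ff F.toFrame 2 3 * F.φ m with hq
    have h2 : u * q * u⁻¹ * q⁻¹ ∈ F.Q := F.Q.mul_mem (F.Q_conj u huz q hQ) (F.Q.inv_mem hQ)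
    let fH : HH F := ⟨ff F.toFrame 2 3, mem_centralizer_singleton_iff.2 (rho_ff F 2 3 h23).symm⟩
    set c : HH F := w * fH * w⁻¹ * fH⁻¹ with hcd
    have hcN : c ∈ N := by
      have h1 : c = w * (fH * w⁻¹ * fH⁻¹) := by rw [hcd]; group
      rw [h1]
      exact N.mul_mem hw.1 (hN.conj_mem _ (N.inv_mem hw.1) _)
    have hcv : (c : K) = (w : K) * ff F.toFrame 2 3 * (w : K)⁻¹ * (ff F.toFrame 2 3)⁻¹ := rfl
    have hcc : (F.φ m)⁻¹ * (c : K) * F.φ m = u * q * u⁻¹ * q⁻¹ := by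
      rw [hcv, hu, hq]; group
    have hc1 : c = 1 := by
      obtain ⟨n, hn⟩ := Q2 F.toCent ⟨_, h2⟩
      have hn' : (u * q * u⁻¹ * q⁻¹) ^ 2 ^ n = 1 := congrArg Subtype.val hn
      rw [← hcc] at hn'
      have h3 : (c : K) ^ 2 ^ n = 1 := by
        have h4 : ((F.φ m)⁻¹ * (c : K) * F.φ m) ^ 2 ^ n = (F.φ m)⁻¹ * (c : K) ^ 2 ^ n * F.φ m := by
          have := conj_pow (i := 2 ^ n) (a := (F.φ m)⁻¹) (b := (c : K))
          rwa [inv_inv] at this
        rw [h4] at hn'
        calc (c : K) ^ 2 ^ n = F.φ m * ((F.φ m)⁻¹ * (c : K) ^ 2 ^ n * F.φ m) * (F.φ m)⁻¹ := by group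
          _ = 1 := by rw [hn']; group
      have h4 : orderOf (⟨c, hcN⟩ : N) ∣ 2 ^ n := orderOf_dvd_of_pow_eq_one (Subtype.ext (Subtype.ext h3))
      have h5 : orderOf (⟨c, hcN⟩ : N) ∣ Nat.card N := orderOf_dvd_natCard _
      have h6 : orderOf (⟨c, hcN⟩ : N) ∣ Nat.gcd (2 ^ n) (Nat.card N) := Nat.dvd_gcd h4 h5
      rw [Nat.Coprime.pow_left n (Nat.coprime_two_left.2 hodd)] at h6
      exact congrArg Subtype.val (orderOf_eq_one_iff.1 (Nat.dvd_one.1 h6))
    have h7 : (c : K) = 1 := congrArg Subtype.val hc1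
    rw [hcv, mul_inv_eq_one, mul_inv_eq_iff_eq_mul] at h7
    exact h7

/-- **`C(ρ) ≤ C(z)`** -/
theorem cent_rho {g : K} (hg : g * F.ρ = F.ρ * g) : g * F.z = F.z * g := by
  obtain ⟨N, hN, hodd, hcomm⟩ := exists_N F
  have hle := N_le F hodd
  let gH : HH F := ⟨g, mem_centralizer_singleton_iff.2 hg⟩
  have h1 := hcomm gH
  set n : HH F := zH F * gH * (zH F)⁻¹ * gH⁻¹ with hn
  have h2 : n * zH F = zH F * n := mem_centralizer_singleton_iff.1 (hle h1)
  have hzz : zH F * zH F = 1 := Subtype.ext (zz F)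
  have hzi : (zH F)⁻¹ = zH F := inv_eq_of_mul_eq_one_left hzz
  have h3 : gH * zH F * gH⁻¹ = zH F * n := by
    have h4 : n⁻¹ = gH * zH F * gH⁻¹ * (zH F)⁻¹ := by rw [hn]; group
    have h5 : zH F * n * n = zH F * n * n := rfl
    have h6 : gH * zH F * gH⁻¹ = n⁻¹ * zH F := by rw [h4]; group
    -- squares
    have h7 : (n⁻¹ * zH F) * (n⁻¹ * zH F) = 1 := by
      rw [← h6]
      have : gH * zH F * gH⁻¹ * (gH * zH F * gH⁻¹) = gH * (zH F * zH F) * gH⁻¹ := by group
      rw [this, hzz]; group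
    have h8 : n⁻¹ * zH F = zH F * n⁻¹ := ((show Commute n (zH F) from h2).inv_left).eq
    have h9 : n⁻¹ * n⁻¹ = 1 := by
      calc n⁻¹ * n⁻¹ = n⁻¹ * (zH F * zH F) * n⁻¹ := by rw [hzz]; group
        _ = (n⁻¹ * zH F) * (zH F * n⁻¹) := by group
        _ = 1 := by rw [← h8]; exact h7
    have h10 : n⁻¹ = n := (inv_eq_of_mul_eq_one_left h9).symm.trans (inv_inv n)
    rw [h6, h8, h10]
  have h4 : n * n = 1 := by
    have h5 : (zH F * n) * (zH F * n) = 1 := by
      rw [← h3]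
      have : gH * zH F * gH⁻¹ * (gH * zH F * gH⁻¹) = gH * (zH F * zH F) * gH⁻¹ := by group
      rw [this, hzz]; group
    calc n * n = (zH F * zH F) * n * n := by rw [hzz, one_mul]
      _ = zH F * (zH F * n) * n := by group
      _ = zH F * (n * zH F) * n := by rw [h2]
      _ = (zH F * n) * (zH F * n) := by group
      _ = 1 := h5
  have h5 : n = 1 := by
    have h6 : orderOf (⟨n, h1⟩ : N) ∣ 2 := orderOf_dvd_of_pow_eq_one (by
      rw [pow_two]; exact Subtype.ext h4)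
    have h7 : orderOf (⟨n, h1⟩ : N) ∣ Nat.card N := orderOf_dvd_natCard _
    have h8 : orderOf (⟨n, h1⟩ : N) ∣ Nat.gcd 2 (Nat.card N) := Nat.dvd_gcd h6 h7
    rw [Nat.coprime_two_left.2 hodd] at h8
    exact congrArg Subtype.val (orderOf_eq_one_iff.1 (Nat.dvd_one.1 h8))
  rw [h5, mul_one, mul_inv_eq_iff_eq_mul] at h3
  exact congrArg Subtype.val h3

/-- **`N(⟨ρ⟩) ≤ C(z)`** -/
theorem norm_rho {g : K} (hg : g ∈ normalizer (zpowers F.ρ : Set K)) : g * F.z = F.z * g := by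
  have h01 : (0 : Fin 6) ≠ 1 := by decide
  -- `g` normalises `C(ρ)`
  have hρ : ∀ h ∈ normalizer (zpowers F.ρ : Set K), ∀ {x : K}, x * F.ρ = F.ρ * x →
      (h * x * h⁻¹) * F.ρ = F.ρ * (h * x * h⁻¹) := by
    intro h hh x hx
    have h1 : h⁻¹ * F.ρ * h ∈ zpowers F.ρ := by
      have := (mem_normalizer_iff.1 (inv_mem hh) F.ρ).1 (mem_zpowers _)
      rwa [inv_inv] at this
    obtain ⟨k, hk⟩ := h1
    have hk' : F.ρ = h * F.ρ ^ k * h⁻¹ := by
      have : F.ρ ^ k = h⁻¹ * F.ρ * h := hk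
      rw [this]; group
    have c1 : Commute x (F.ρ ^ k) := (show Commute x F.ρ from hx).zpow_right k
    have h2 : h * x * h⁻¹ * (h * F.ρ ^ k * h⁻¹) = h * F.ρ ^ k * h⁻¹ * (h * x * h⁻¹) := by
      calc h * x * h⁻¹ * (h * F.ρ ^ k * h⁻¹) = h * (x * F.ρ ^ k) * h⁻¹ := by group
        _ = h * (F.ρ ^ k * x) * h⁻¹ := by rw [c1.eq]
        _ = _ := by group
    rwa [← hk'] at h2
  set y := g * F.z * g⁻¹ with hy
  have hycomm : ∀ x : K, x * F.ρ = F.ρ * x → x * y = y * x := by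
    intro x hx
    have h1 := hρ g⁻¹ (inv_mem hg) hx
    rw [inv_inv] at h1
    have h2 := cent_rho F h1
    calc x * y = g * ((g⁻¹ * x * g) * F.z) * g⁻¹ := by rw [hy]; group
      _ = g * (F.z * (g⁻¹ * x * g)) * g⁻¹ := by rw [h2]
      _ = y * x := by rw [hy]; group
  have hzcomm : ∀ x : K, x * F.ρ = F.ρ * x → x * F.z = F.z * x := fun x hx => cent_rho F hx
  have hyρ : y * F.ρ = F.ρ * y := (hycomm F.ρ rfl).symm
  have hyz : y * F.z = F.z * y := (hycomm F.z F.ρ_comm.symm).symm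
  have hyy : y * y = 1 := by
    have : y * y = g * (F.z * F.z) * g⁻¹ := by rw [hy]; group
    rw [this, zz]; group
  have hy1 : y ≠ 1 := by
    intro h
    apply z_ne F
    have : F.z = g⁻¹ * y * g := by rw [hy]; group
    rw [this, h]; group
  by_cases hyne : y = F.z
  · rw [hy, mul_inv_eq_iff_eq_mul] at hyne
    exact hyne
  exfalso
  obtain ⟨d, hd1, hd2, hd3⟩ := inv_D F hyy hy1 hyne hyρ hyz
  have h1 : d * y * d⁻¹ = y := by rw [hycomm d hd1, mul_inv_cancel_right]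
  rw [h1] at hd3
  -- `ff 0 1` is central in `C(ρ)`
  have h2 : ∀ x : K, x * F.ρ = F.ρ * x → x * ff F.toFrame 0 1 = ff F.toFrame 0 1 * x := by
    intro x hx
    rcases hd3 with h | h
    · rw [← h]; exact hycomm x hx
    · have h3 : ff F.toFrame 0 1 = F.z * y := by rw [h, ← mul_assoc, zz, one_mul]
      rw [h3]
      exact ((show Commute x F.z from hzcomm x hx).mul_right (show Commute x y from hycomm x hx)).eq
  have h3 := h2 (F.φ m1) (phi_rho F comm1)
  have h4 := conj_ff F (m := m1) (i := 0) (j := 1) (i' := 1) (j' := 2) (m1_mog 0 0) (m1_mog 1 0) h01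
  rw [h3, mul_inv_cancel_right] at h4
  have h5 := ff_mul F.toFrame (i := 0) (j := 1) (k := 2) (by decide) (by decide) (by decide)
  rw [← h4, ff_sq F.toFrame 0 1 h01] at h5
  exact ff_ne F (show (0 : Fin 6) ≠ 2 by decide) h5.symm

end Fin

end Cfsg.Agent.H856.CentRho
end
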