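import Mathlib
import Cfsg.Prelude.Def_Transfer
import Cfsg.Agent.J2Type.ExtCube
set_option linter.all false

/-!
# Extraspecial groups of order 27 and exponent 3 from generators

`Rel a b w` : `a`, `b`, `w` of order dividing 3, `w ≠ 1` central, `b a = a b w`.
The subgroup `gp h` they generate has order 27, exponent 3 and centre `⟨w⟩`.
-/

set_option autoImplicit false

namespace Cfsg.Agent.H856.Heis

open Subgroup

variable {G : Type*} [Group G]

structure Rel (a b w : G) : Prop where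
  a3 : a ^ 3 = 1
  b3 : b ^ 3 = 1
  w3 : w ^ 3 = 1
  aw : a * w = w * a
  bw : b * w = w * b
  ba : b * a = a * b * w
  w1 : w ≠ 1

variable {a b w : G}

theorem Rel.ba1 (h : Rel a b w) (j : ℕ) : b ^ j * a = a * b ^ j * w ^ j := by
  induction j with
  | zero => simp
  | succ j ih =>
    have c : Commute (w ^ j) b := (show Commute w b from h.bw.symm).pow_left j
    calc b ^ (j + 1) * a = b ^ j * (b * a) := by rw [pow_succ, mul_assoc]
      _ = (b ^ j * a) * b * w := by rw [h.ba]; group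
      _ = a * b ^ j * (w ^ j * b) * w := by rw [ih]; group
      _ = a * b ^ (j + 1) * w ^ (j + 1) := by rw [c.eq, pow_succ, pow_succ]; group

theorem Rel.ba2 (h : Rel a b w) (j i : ℕ) : b ^ j * a ^ i = a ^ i * b ^ j * w ^ (j * i) := by
  induction i with
  | zero => simp
  | succ i ih =>
    have c : Commute (w ^ (j * i)) a := (show Commute w a from h.aw.symm).pow_left _
    calc b ^ j * a ^ (i + 1) = (b ^ j * a ^ i) * a := by rw [pow_succ, mul_assoc]
      _ = a ^ i * b ^ j * (w ^ (j * i) * a) := by rw [ih]; group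
      _ = a ^ i * (b ^ j * a) * w ^ (j * i) := by rw [c.eq]; group
      _ = a ^ (i + 1) * b ^ j * w ^ (j * (i + 1)) := by
        rw [h.ba1, pow_succ a, mul_add, mul_one, add_comm, pow_add]; group

theorem Rel.mul (h : Rel a b w) (i j k i' j' k' : ℕ) :
    (a ^ i * b ^ j * w ^ k) * (a ^ i' * b ^ j' * w ^ k') = a ^ (i + i') * b ^ (j + j') * w ^ (k + k' + j * i') := by
  have c1 : Commute (w ^ k) (a ^ i') := (show Commute w a from h.aw.symm).pow_pow _ _
  have c2 : Commute (w ^ k) (b ^ j') := (show Commute w b from h.bw.symm).pow_pow _ _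
  have c3 : Commute (w ^ (j * i')) (b ^ j') := (show Commute w b from h.bw.symm).pow_pow _ _
  calc (a ^ i * b ^ j * w ^ k) * (a ^ i' * b ^ j' * w ^ k')
      = a ^ i * b ^ j * (w ^ k * a ^ i') * b ^ j' * w ^ k' := by group
    _ = a ^ i * (b ^ j * a ^ i') * (w ^ k * b ^ j') * w ^ k' := by rw [c1.eq]; group
    _ = a ^ i * a ^ i' * b ^ j * (w ^ (j * i') * b ^ j') * w ^ k * w ^ k' := by rw [c2.eq, h.ba2]; group
    _ = a ^ i * a ^ i' * (b ^ j * b ^ j') * (w ^ (j * i') * w ^ k * w ^ k') := by rw [c3.eq]; group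
    _ = _ := by
      rw [← pow_add, ← pow_add, ← pow_add, ← pow_add]
      congr 2
      ring

theorem pow_red {a : G} (ha : a ^ 3 = 1) (n : ℕ) : a ^ n = a ^ (n % 3) := by
  conv_lhs => rw [← Nat.div_add_mod n 3, pow_add, pow_mul, ha, one_pow, one_mul]

theorem pow_eq_one_of {a : G} (ha : a ^ 3 = 1) {n : ℕ} (h : 3 ∣ n) : a ^ n = 1 := by
  obtain ⟨m, rfl⟩ := h
  rw [pow_mul, ha, one_pow]

/-- the group generated by `a`, `b`, `w` -/
def gp (h : Rel a b w) : Subgroup G where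
  carrier := {g | ∃ i j k : ℕ, g = a ^ i * b ^ j * w ^ k}
  one_mem' := ⟨0, 0, 0, by simp⟩
  mul_mem' := by
    rintro _ _ ⟨i, j, k, rfl⟩ ⟨i', j', k', rfl⟩
    exact ⟨_, _, _, h.mul i j k i' j' k'⟩
  inv_mem' := by
    rintro _ ⟨i, j, k, rfl⟩
    refine ⟨2 * i, 2 * j, 2 * k + j * i, ?_⟩
    rw [inv_eq_iff_mul_eq_one, h.mul, pow_eq_one_of h.a3 ⟨i, by ring⟩, pow_eq_one_of h.b3 ⟨j, by ring⟩,
      pow_eq_one_of h.w3 ⟨k + j * i, by ring⟩, one_mul, one_mul]

theorem mem_gp (h : Rel a b w) {g : G} : g ∈ gp h ↔ ∃ i j k : ℕ, g = a ^ i * b ^ j * w ^ k := Iff.rfl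

theorem a_mem (h : Rel a b w) : a ∈ gp h := ⟨1, 0, 0, by simp⟩
theorem b_mem (h : Rel a b w) : b ∈ gp h := ⟨0, 1, 0, by simp⟩
theorem w_mem (h : Rel a b w) : w ∈ gp h := ⟨0, 0, 1, by simp⟩

theorem gp_le (h : Rel a b w) {H : Subgroup G} (ha : a ∈ H) (hb : b ∈ H) (hw : w ∈ H) : gp h ≤ H := by
  rintro _ ⟨i, j, k, rfl⟩
  exact mul_mem (mul_mem (pow_mem ha i) (pow_mem hb j)) (pow_mem hw k)

theorem cube (h : Rel a b w) {g : G} (hg : g ∈ gp h) : g ^ 3 = 1 := by
  obtain ⟨i, j, k, rfl⟩ := hg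
  rw [pow_succ, pow_two, h.mul, h.mul, pow_eq_one_of h.a3 ⟨i, by ring⟩, pow_eq_one_of h.b3 ⟨j, by ring⟩,
    pow_eq_one_of h.w3 ⟨k + j * i, by ring⟩, one_mul, one_mul]

theorem isPGroup (h : Rel a b w) : IsPGroup 3 (gp h) := fun g => ⟨1, Subtype.ext (cube h g.2)⟩

theorem not_comm (h : Rel a b w) : b * a ≠ a * b := by
  intro e
  apply h.w1
  have h1 := h.ba
  rw [e] at h1
  exact (mul_eq_left.1 h1.symm)

theorem finite_gp (h : Rel a b w) : Finite (gp h) := by
  let f : Fin 3 × Fin 3 × Fin 3 → gp h := fun x =>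
    ⟨a ^ (x.1 : ℕ) * b ^ (x.2.1 : ℕ) * w ^ (x.2.2 : ℕ), _, _, _, rfl⟩
  apply Finite.of_surjective f
  rintro ⟨_, i, j, k, rfl⟩
  refine ⟨(⟨i % 3, Nat.mod_lt _ (by norm_num)⟩, ⟨j % 3, Nat.mod_lt _ (by norm_num)⟩,
    ⟨k % 3, Nat.mod_lt _ (by norm_num)⟩), Subtype.ext ?_⟩
  change a ^ (i % 3) * b ^ (j % 3) * w ^ (k % 3) = _
  rw [← pow_red h.a3, ← pow_red h.b3, ← pow_red h.w3]

theorem card_le (h : Rel a b w) : Nat.card (gp h) ≤ 27 := by
  let f : Fin 3 × Fin 3 × Fin 3 → gp h := fun x =>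
    ⟨a ^ (x.1 : ℕ) * b ^ (x.2.1 : ℕ) * w ^ (x.2.2 : ℕ), _, _, _, rfl⟩
  have hf : Function.Surjective f := by
    rintro ⟨_, i, j, k, rfl⟩
    refine ⟨(⟨i % 3, Nat.mod_lt _ (by norm_num)⟩, ⟨j % 3, Nat.mod_lt _ (by norm_num)⟩,
      ⟨k % 3, Nat.mod_lt _ (by norm_num)⟩), Subtype.ext ?_⟩
    change a ^ (i % 3) * b ^ (j % 3) * w ^ (k % 3) = _
    rw [← pow_red h.a3, ← pow_red h.b3, ← pow_red h.w3]
  have h1 := Nat.card_le_card_of_surjective f hf
  rwa [Nat.card_prod, Nat.card_prod, Nat.card_fin] at h1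

theorem card (h : Rel a b w) : Nat.card (gp h) = 27 := by
  have hp : Fact (Nat.Prime 3) := ⟨Nat.prime_three⟩
  have := finite_gp h
  obtain ⟨n, hn⟩ := IsPGroup.iff_card.1 (isPGroup h)
  have h1 := card_le h
  have h2 : n ≤ 3 := by
    by_contra hcon
    have h3 : 3 ^ 4 ≤ 3 ^ n := Nat.pow_le_pow_right (by norm_num) (by omega)
    omega
  have hcomm : ∀ (f : ∀ x y : gp h, x * y = y * x), False := fun f =>
    not_comm h (congrArg Subtype.val (f ⟨b, b_mem h⟩ ⟨a, a_mem h⟩))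
  interval_cases n
  · exfalso
    apply hcomm
    intro x y
    have h3 : Subsingleton (gp h) := (Nat.card_eq_one_iff_unique.1 hn).1
    exact Subsingleton.elim _ _
  · exfalso
    have h3 : IsCyclic (gp h) := isCyclic_of_prime_card (p := 3) hn
    exact hcomm fun x y => (IsCyclic.isMulCommutative (α := gp h)).is_comm.comm x y
  · exfalso
    exact hcomm fun x y => (IsPGroup.isMulCommutative_of_card_eq_prime_sq (p := 3) hn).is_comm.comm x y
  · exact hn

/-- a nonabelian group of order 27 in which all cubes are trivial -/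
theorem extraspecial {R : Type*} [Group R] (hc : Nat.card R = 27) (hne : ∃ x y : R, x * y ≠ y * x) (h3 : ∀ x : R, x ^ 3 = 1) :
    Cfsg.IsExtraspecial 3 R ∧ Monoid.exponent R = 3 := by
  have hp : Fact (Nat.Prime 3) := ⟨Nat.prime_three⟩
  have : Finite R := Nat.finite_of_card_ne_zero (by rw [hc]; norm_num)
  refine ⟨Cfsg.Agent.J2Type.ExtCube.isExtraspecial_of_card_cube (by rw [hc]; norm_num) hne, ?_⟩
  have h1 : Monoid.exponent R ∣ 3 := Monoid.exponent_dvd_of_forall_pow_eq_one h3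
  rcases (Nat.dvd_prime Nat.prime_three).1 h1 with h2 | h2
  · exfalso
    obtain ⟨x, y, hxy⟩ := hne
    have h4 : ∀ g : R, g = 1 := fun g => by
      have h5 := Monoid.pow_exponent_eq_one g
      rwa [h2, pow_one] at h5
    exact hxy (by rw [h4 x, h4 y])
  · exact h2

/-- the centre -/
theorem center_le (h : Rel a b w) {g : G} (hg : g ∈ gp h) (hc : ∀ x ∈ gp h, g * x = x * g) : g ∈ zpowers w := by
  have hp : Fact (Nat.Prime 3) := ⟨Nat.prime_three⟩
  have := finite_gp h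
  have h1 := (Cfsg.Agent.J2Type.ExtCube.isExtraspecial_of_card_cube (P := gp h) (p := 3) (by rw [card h]; norm_num)
    ⟨⟨b, b_mem h⟩, ⟨a, a_mem h⟩, fun e => not_comm h (congrArg Subtype.val e)⟩).2
  have hw : (⟨w, w_mem h⟩ : gp h) ∈ center (gp h) := by
    rw [mem_center_iff]
    rintro ⟨_, i, j, k, rfl⟩
    apply Subtype.ext
    change a ^ i * b ^ j * w ^ k * w = w * (a ^ i * b ^ j * w ^ k)
    have c1 : Commute w (a ^ i) := (show Commute w a from h.aw.symm).pow_right i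
    have c2 : Commute w (b ^ j) := (show Commute w b from h.bw.symm).pow_right j
    have c3 : Commute w (w ^ k) := (Commute.refl w).pow_right k
    exact ((c1.mul_right c2).mul_right c3).eq.symm
  have h2 : zpowers (⟨w, w_mem h⟩ : gp h) = center (gp h) := by
    apply eq_of_le_of_card_ge
    · rw [zpowers_le]; exact hw
    · rw [h1, Nat.card_zpowers]
      have h3 : orderOf (⟨w, w_mem h⟩ : gp h) = 3 := orderOf_eq_prime (Subtype.ext h.w3) fun e =>
        h.w1 (congrArg Subtype.val e)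
      rw [h3]
  have h3 : (⟨g, hg⟩ : gp h) ∈ center (gp h) := by
    rw [mem_center_iff]
    rintro ⟨x, hx⟩
    exact Subtype.ext (hc x hx).symm
  rw [← h2] at h3
  obtain ⟨n, hn⟩ := mem_zpowers_iff.1 h3
  exact mem_zpowers_iff.2 ⟨n, congrArg Subtype.val hn⟩

theorem w_comm (h : Rel a b w) {x : G} (hx : x ∈ gp h) : w * x = x * w := by
  obtain ⟨i, j, k, rfl⟩ := hx
  have c1 : Commute w (a ^ i) := (show Commute w a from h.aw.symm).pow_right i
  have c2 : Commute w (b ^ j) := (show Commute w b from h.bw.symm).pow_right j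
  have c3 : Commute w (w ^ k) := (Commute.refl w).pow_right k
  exact ((c1.mul_right c2).mul_right c3).eq

/-- the normaliser of `gp h` normalises `⟨w⟩` -/
theorem norm_le (h : Rel a b w) : normalizer (gp h : Set G) ≤ normalizer (zpowers w : Set G) := by
  have key : ∀ g ∈ normalizer (gp h : Set G), g * w * g⁻¹ ∈ zpowers w := by
    intro g hg
    have hg' := inv_mem hg
    apply center_le h ((mem_normalizer_iff.1 hg w).1 (w_mem h))
    intro x hx
    have h1 : g⁻¹ * x * g ∈ gp h := by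
      have h2 := (mem_normalizer_iff.1 hg' x).1 hx
      rwa [inv_inv] at h2
    have h2 := w_comm h h1
    calc g * w * g⁻¹ * x = g * (w * (g⁻¹ * x * g)) * g⁻¹ := by group
      _ = g * (g⁻¹ * x * g * w) * g⁻¹ := by rw [h2]
      _ = x * (g * w * g⁻¹) := by group
  have key2 : ∀ g ∈ normalizer (gp h : Set G), ∀ x ∈ zpowers w, g * x * g⁻¹ ∈ zpowers w := by
    intro g hg x hx
    obtain ⟨n, rfl⟩ := mem_zpowers_iff.1 hx
    rw [← conj_zpow]
    exact zpow_mem (key g hg) n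
  intro g hg
  rw [mem_normalizer_iff]
  intro x
  refine ⟨fun hx => key2 g hg x hx, fun hx => ?_⟩
  have h1 := key2 g⁻¹ (inv_mem hg) _ hx
  have h2 : g⁻¹ * (g * x * g⁻¹) * g⁻¹⁻¹ = x := by group
  rwa [h2] at h1

end Cfsg.Agent.H856.Heis
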