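import Cfsg.Prelude.Def_JankoFourType
import Cfsg.Agent.J4Type.IsPOf
import Cfsg.Agent.J2.ExtQuot
import Cfsg.Agent.Lib.Cores
import Cfsg.Agent.H856.Plus
import Cfsg.Agent.H856.AutM22
set_option linter.all false

/-!
# Janko-four type gives the hypotheses `J4Type.Hyp`

`exists_hyp` : from `IsOfJankoFourTypeWith z P` (in a finite group) the structure `J4Type.Hyp z Q N M`,
with `Q` mapping onto `twoCoreOfCentralizer z`.
-/

set_option autoImplicit false
set_option linter.unusedSectionVars false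

namespace Cfsg.Agent.H856.ToHyp

open Cfsg Cfsg.Agent.J4Type Cfsg.Agent.BabyM.DuadGen
open Cfsg.Agent.SporadicA.MathieuRecog (mem_M22_iff card_M22 simple_M22)
open Cfsg.Agent.H856.AutM22
open scoped commutatorElement

theorem commutator_M22 : commutator Spor.M22 = ⊤ := by
  have := simple_M22
  rcases (inferInstance : (commutator Spor.M22).Normal).eq_bot_or_eq_top with h | h
  · exfalso
    have h1 : ∀ a b : Spor.M22, a * b = b * a := by
      intro a b
      have h2 : ⁅a, b⁆ ∈ commutator Spor.M22 := by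
        rw [commutator_def]
        exact Subgroup.commutator_mem_commutator (Subgroup.mem_top _) (Subgroup.mem_top _)
      rw [h, Subgroup.mem_bot, commutatorElement_eq_one_iff_mul_comm] at h2
      exact h2
    have h4 : (Nat.card Spor.M22).Prime := by
      let _ : CommGroup Spor.M22 := { (inferInstance : Group Spor.M22) with mul_comm := h1 }
      exact IsSimpleGroup.prime_card
    rw [card_M22] at h4
    norm_num at h4
  · exact h

theorem comm_self_M22 : ⁅Spor.M22, Spor.M22⁆ = Spor.M22 := by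
  have h := congrArg (Subgroup.map Spor.M22.subtype) commutator_M22
  rw [commutator_def, Subgroup.map_commutator, ← MonoidHom.range_eq_map, Subgroup.range_subtype] at h
  exact h

/-! ### Abstract part: a group `C` with `Q ≤ N` and a surjection onto `M22:2` -/

section

variable {C : Type*} [Group C] [Finite C] (Q N : Subgroup C) [hQn : Q.Normal] [hNn : N.Normal]
  (f : C →* Equiv.Perm GolayPt)

/-- the inverse image of `M22` -/
def MM : Subgroup C := Spor.M22.comap f

theorem mem_MM {c : C} : c ∈ MM f ↔ f c ∈ Spor.M22 := Iff.rfl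

theorem index_MM (hf : f.range = duad) : (MM f).index = 2 := by
  rw [MM, Subgroup.index_comap, hf, relIndex_M22]

theorem MM_le (hk : f.ker = N) (hf : f.range = duad) : MM f ≤ ⁅MM f, MM f⁆ ⊔ N := by
  intro m hm
  have h1 : (MM f).map f = Spor.M22 := by
    rw [MM, Subgroup.map_comap_eq, inf_eq_right, hf]
    exact J4Type.OuterM22.M22_le_duad
  have h2 : (⁅MM f, MM f⁆).map f = Spor.M22 := by
    rw [Subgroup.map_commutator, h1, comm_self_M22]
  have h3 : f m ∈ (⁅MM f, MM f⁆).map f := by rw [h2]; exact hm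
  obtain ⟨m', hm', he⟩ := h3
  rw [Subgroup.mem_sup_of_normal_right]
  refine ⟨m', hm', m'⁻¹ * m, ?_, by group⟩
  rw [← hk, MonoidHom.mem_ker, map_mul, map_inv, he, inv_mul_cancel]

variable {Q N f}

theorem mem_N_iff (hQN : Q ≤ N) (hN : Nat.card N = 3 * Nat.card Q) {p : C} (hpN : p ∈ N)
    (hpQ : p ∉ Q) : N = Q ⊔ Subgroup.zpowers p := by
  have h1 : Q ⊔ Subgroup.zpowers p ≤ N := sup_le hQN (by rwa [Subgroup.zpowers_le])
  have h2 : Q.relIndex N = 3 := by
    have h := (Q.subgroupOf N).card_mul_index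
    rw [Nat.card_congr (Subgroup.subgroupOfEquivOfLe hQN).toEquiv, hN, mul_comm 3] at h
    exact Nat.eq_of_mul_eq_mul_left Nat.card_pos h
  have h3 := Subgroup.relIndex_mul_relIndex Q (Q ⊔ Subgroup.zpowers p) N le_sup_left h1
  rw [h2] at h3
  have h4 : (Q ⊔ Subgroup.zpowers p).relIndex N ∣ 3 := Dvd.intro_left _ h3
  rcases (Nat.dvd_prime Nat.prime_three).1 h4 with h5 | h5
  · exact le_antisymm (Subgroup.relIndex_eq_one.1 h5) h1
  · exfalso
    rw [h5] at h3
    have h6 : Q.relIndex (Q ⊔ Subgroup.zpowers p) = 1 := by omega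
    exact hpQ (Subgroup.relIndex_eq_one.1 h6 (Subgroup.mem_sup_right (Subgroup.mem_zpowers p)))

/-- the action on `N / Q` -/
theorem act_N (hQN : Q ≤ N) (hN : Nat.card N = 3 * Nat.card Q) {p : C} (hpN : p ∈ N)
    (hpQ : p ∉ Q) (hp3 : p ^ 3 = 1) (c : C) :
    (QuotientGroup.mk' Q c * QuotientGroup.mk' Q p * (QuotientGroup.mk' Q c)⁻¹ = QuotientGroup.mk' Q p) ∨
    (QuotientGroup.mk' Q c * QuotientGroup.mk' Q p * (QuotientGroup.mk' Q c)⁻¹ =
      (QuotientGroup.mk' Q p)⁻¹) := by
  have h1 : c * p * c⁻¹ ∈ N := hNn.conj_mem p hpN c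
  rw [mem_N_iff hQN hN hpN hpQ, Subgroup.mem_sup_of_normal_left] at h1
  obtain ⟨q, hq, _, ⟨i, rfl⟩, h2⟩ := h1
  have h3 : QuotientGroup.mk' Q c * QuotientGroup.mk' Q p * (QuotientGroup.mk' Q c)⁻¹ =
      (QuotientGroup.mk' Q p) ^ i := by
    rw [← map_mul, ← map_inv, ← map_mul, ← h2, map_mul, map_zpow]
    have : QuotientGroup.mk' Q q = 1 := (QuotientGroup.eq_one_iff q).2 hq
    rw [this, one_mul]
  rw [h3]
  have h4 : (QuotientGroup.mk' Q p) ^ 3 = 1 := by rw [← map_pow, hp3, map_one]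
  have h5 : QuotientGroup.mk' Q p ≠ 1 := fun h => hpQ ((QuotientGroup.eq_one_iff p).1 h)
  have h6 : (QuotientGroup.mk' Q p) ^ (3 : ℤ) = 1 := by
    rw [show (3 : ℤ) = ((3 : ℕ) : ℤ) from rfl, zpow_natCast]; exact h4
  set r := QuotientGroup.mk' Q p with hr
  have h7 : r ^ i = r ^ (i % 3) := by
    conv_lhs => rw [← Int.emod_add_mul_ediv i 3, zpow_add, zpow_mul, h6, one_zpow, mul_one]
  have h8 : i % 3 = 0 ∨ i % 3 = 1 ∨ i % 3 = 2 := by omega
  rcases h8 with h8 | h8 | h8
  · exfalso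
    rw [h7, h8, zpow_zero] at h3
    apply h5
    rw [mul_inv_eq_one] at h3
    exact mul_left_cancel (h3.trans (mul_one _).symm)
  · left; rw [h7, h8, zpow_one]
  · right
    rw [h7, h8, show (2 : ℤ) = ((2 : ℕ) : ℤ) from rfl, zpow_natCast]
    exact eq_inv_of_mul_eq_one_left (by rw [← pow_succ, h4])

/-- the subgroup acting trivially on `N / Q` -/
def KK (Q : Subgroup C) [Q.Normal] (p : C) : Subgroup C :=
  (Subgroup.centralizer ({QuotientGroup.mk' Q p} : Set (C ⧸ Q))).comap (QuotientGroup.mk' Q)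

theorem mem_KK {p c : C} : c ∈ KK Q p ↔
    QuotientGroup.mk' Q c * QuotientGroup.mk' Q p = QuotientGroup.mk' Q p * QuotientGroup.mk' Q c := by
  rw [KK, Subgroup.mem_comap, Subgroup.mem_centralizer_singleton_iff]

theorem comm_le_KK (hQN : Q ≤ N) (hN : Nat.card N = 3 * Nat.card Q) {p : C} (hpN : p ∈ N)
    (hpQ : p ∉ Q) (hp3 : p ^ 3 = 1) (M : Subgroup C) : ⁅M, M⁆ ≤ KK Q p := by
  rw [Subgroup.commutator_le]
  intro a _ b _
  rw [mem_KK]
  set r := QuotientGroup.mk' Q p with hr
  have ha := act_N hQN hN hpN hpQ hp3 a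
  have hb := act_N hQN hN hpN hpQ hp3 b
  rw [map_commutatorElement]
  set x := QuotientGroup.mk' Q a
  set y := QuotientGroup.mk' Q b
  have inv1 : ∀ {u : C ⧸ Q}, u * r * u⁻¹ = r → u⁻¹ * r * u = r := by
    intro u h
    conv_lhs => rw [← h]
    group
  have inv2 : ∀ {u : C ⧸ Q}, u * r * u⁻¹ = r⁻¹ → u⁻¹ * r * u = r⁻¹ := by
    intro u h
    have h' := congrArg (·⁻¹) h
    simp only [mul_inv_rev, inv_inv] at h'
    have h2 : r = u * (r⁻¹ * u⁻¹) := h'.symm
    conv_lhs => rw [h2]
    group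
  have inv3 : ∀ {u : C ⧸ Q}, u * r * u⁻¹ = r → u * r⁻¹ * u⁻¹ = r⁻¹ := by
    intro u h
    have h' := congrArg (·⁻¹) h
    simp only [mul_inv_rev, inv_inv] at h'
    rw [mul_assoc]; exact h'
  have inv4 : ∀ {u : C ⧸ Q}, u * r * u⁻¹ = r⁻¹ → u * r⁻¹ * u⁻¹ = r := by
    intro u h
    have h' := congrArg (·⁻¹) h
    simp only [mul_inv_rev, inv_inv] at h'
    rw [mul_assoc]; exact h'
  have inv5 : ∀ {u : C ⧸ Q}, u * r * u⁻¹ = r → u⁻¹ * r⁻¹ * u = r⁻¹ := by
    intro u h
    have h' := congrArg (·⁻¹) (inv1 h)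
    simp only [mul_inv_rev, inv_inv] at h'
    rw [mul_assoc]; exact h'
  have inv6 : ∀ {u : C ⧸ Q}, u * r * u⁻¹ = r⁻¹ → u⁻¹ * r⁻¹ * u = r := by
    intro u h
    have h' := congrArg (·⁻¹) (inv2 h)
    simp only [mul_inv_rev, inv_inv] at h'
    rw [mul_assoc]; exact h'
  have e : ⁅x, y⁆ * r * ⁅x, y⁆⁻¹ = x * (y * (x⁻¹ * (y⁻¹ * r * y) * x) * y⁻¹) * x⁻¹ := by
    rw [commutatorElement_def]; group
  have h : ⁅x, y⁆ * r * ⁅x, y⁆⁻¹ = r := by
    rw [e]
    rcases ha with ha | ha <;> rcases hb with hb | hb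
    · rw [inv1 hb, inv1 ha, hb, ha]
    · rw [inv2 hb, inv5 ha, inv4 hb, ha]
    · rw [inv1 hb, inv2 ha, inv3 hb, inv4 ha]
    · rw [inv2 hb, inv6 ha, hb, inv4 ha]
  rwa [mul_inv_eq_iff_eq_mul] at h

theorem N_le_KK (hQN : Q ≤ N) (hN : Nat.card N = 3 * Nat.card Q) {p : C} (hpN : p ∈ N)
    (hpQ : p ∉ Q) : N ≤ KK Q p := by
  rw [mem_N_iff hQN hN hpN hpQ]
  refine sup_le ?_ ?_
  · intro q hq
    rw [mem_KK]
    have : QuotientGroup.mk' Q q = 1 := (QuotientGroup.eq_one_iff q).2 hq
    rw [this, one_mul, mul_one]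
  · rw [Subgroup.zpowers_le, mem_KK]

/-- `M` centralises `N` modulo `Q` -/
theorem comm_le_Q (hQN : Q ≤ N) (hN : Nat.card N = 3 * Nat.card Q) {p : C} (hpN : p ∈ N)
    (hpQ : p ∉ Q) {M : Subgroup C} (hM : M ≤ KK Q p) : ⁅M, N⁆ ≤ Q := by
  rw [Subgroup.commutator_le]
  intro m hm n hn
  have h1 := hM hm
  rw [mem_KK] at h1
  rw [mem_N_iff hQN hN hpN hpQ, Subgroup.mem_sup_of_normal_left] at hn
  obtain ⟨q, hq, _, ⟨i, rfl⟩, rfl⟩ := hn
  rw [← QuotientGroup.eq_one_iff]
  show QuotientGroup.mk' Q _ = 1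
  rw [map_commutatorElement, commutatorElement_eq_one_iff_mul_comm, map_mul]
  have : QuotientGroup.mk' Q q = 1 := (QuotientGroup.eq_one_iff q).2 hq
  rw [this, one_mul]
  show QuotientGroup.mk' Q m * QuotientGroup.mk' Q (p ^ i) = QuotientGroup.mk' Q (p ^ i) * QuotientGroup.mk' Q m
  rw [map_zpow]
  exact (show Commute _ _ from h1).zpow_right i

theorem eq_of_index_two {M K : Subgroup C} (hMK : M ≤ K) (hM : M.index = 2) (hK : K ≠ ⊤) : M = K := by
  have h1 := Subgroup.relIndex_mul_index hMK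
  rw [hM] at h1
  have h2 : K.index ∣ 2 := Dvd.intro_left _ h1
  rcases (Nat.dvd_prime Nat.prime_two).1 h2 with h3 | h3
  · exact absurd (Subgroup.index_eq_one.1 h3) hK
  · rw [h3] at h1
    have h4 : M.relIndex K = 1 := by omega
    exact le_antisymm hMK (Subgroup.relIndex_eq_one.1 h4)

end

/-! ### The bridge -/

variable {G : Type*} [Group G] [Finite G] {z : G} {P : Subgroup G}

/-- **Bridge.** Janko-four type gives `J4Type.Hyp`. -/
theorem exists_hyp (h : IsOfJankoFourTypeWith z P) :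
    ∃ Q N M : Subgroup (Subgroup.centralizer ({z} : Set G)), Hyp z Q N M ∧
      Q.map (Subgroup.centralizer ({z} : Set G)).subtype = twoCoreOfCentralizer z ∧
      P ≤ N.map (Subgroup.centralizer ({z} : Set G)).subtype := by
  obtain ⟨hz, hext, hcard, hself, ⟨N₀, hQN, hNC, hCN, hNcard, ⟨hNn, ⟨e⟩⟩, hPN⟩, hP3, hfix, hne, hPc⟩ := h
  set C := Subgroup.centralizer ({z} : Set G) with hC
  set Q : Subgroup C := pCore 2 C with hQ
  have hQmap : Q.map C.subtype = twoCoreOfCentralizer z := rfl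
  set N : Subgroup C := N₀.subgroupOf C with hN
  have hNmap : N.map C.subtype = N₀ := by
    rw [hN, Subgroup.subgroupOf_map_subtype, inf_eq_left.2 hNC]
  have hmemQ : ∀ x : C, x ∈ Q ↔ (x : G) ∈ twoCoreOfCentralizer z := by
    intro x
    rw [← hQmap, Subgroup.mem_map]
    constructor
    · intro h; exact ⟨x, h, rfl⟩
    · rintro ⟨y, hy, hyx⟩
      have : y = x := Subtype.ext hyx
      rwa [← this]
  have hmemN : ∀ x : C, x ∈ N ↔ (x : G) ∈ N₀ := fun x => Subgroup.mem_subgroupOf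
  have hQn : Q.Normal := Cfsg.Agent.Lib.Cores.pCore_normal 2
  have hQNs : Q ≤ N := fun x hx => (hmemN x).2 (hQN ((hmemQ x).1 hx))
  have eQ : Nonempty (Q ≃* twoCoreOfCentralizer z) := by
    rw [← hQmap]
    exact ⟨Q.equivMapOfInjective _ (Subgroup.subtype_injective _)⟩
  obtain ⟨eQ⟩ := eQ
  have hcardQ : Nat.card Q = 2 ^ 13 := by
    rw [← hcard]; exact Nat.card_congr eQ.toEquiv
  have hcardN : Nat.card N = 3 * Nat.card Q := by
    rw [hcardQ, ← hcard, ← hNcard]
    exact Nat.card_congr (Subgroup.subgroupOfEquivOfLe hNC).toEquiv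
  have hextQ : IsExtraspecial 2 Q := by
    have : Finite (twoCoreOfCentralizer z) := inferInstance
    exact Cfsg.Agent.J2.ExtQuot.isExtraspecial_of_equiv eQ.symm hext
  -- the homomorphism
  set f : C →* Equiv.Perm GolayPt :=
    autHom.comp (e.toMonoidHom.comp (QuotientGroup.mk' N)) with hf
  have hker : f.ker = N := by
    ext c
    rw [MonoidHom.mem_ker]
    show autHom (e (QuotientGroup.mk' N c)) = 1 ↔ _
    rw [map_eq_one_iff _ autHom_injective, map_eq_one_iff e e.injective]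
    exact QuotientGroup.eq_one_iff c
  have hrange : f.range = duad := by
    rw [← autHom_range]
    ext g
    constructor
    · rintro ⟨c, rfl⟩
      exact ⟨_, rfl⟩
    · rintro ⟨α, rfl⟩
      obtain ⟨c, hc⟩ := QuotientGroup.mk'_surjective N (e.symm α)
      refine ⟨c, ?_⟩
      show autHom (e (QuotientGroup.mk' N c)) = autHom α
      rw [hc, MulEquiv.apply_symm_apply]
  set M := MM f with hM
  have hMi : M.index = 2 := index_MM f hrange
  have hMn : M.Normal := Subgroup.normal_of_index_eq_two hMi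
  have hNM : N ≤ M := by
    intro n hn
    rw [← hker, MonoidHom.mem_ker] at hn
    rw [hM, mem_MM, hn]
    exact one_mem _
  -- a generator of `P`
  have : Fact (Nat.Prime 3) := ⟨Nat.prime_three⟩
  obtain ⟨p₀, hp₀⟩ : ∃ p₀ : P, p₀ ≠ 1 := by
    have : Nontrivial P := by
      rw [← Finite.one_lt_card_iff_nontrivial, hP3]; norm_num
    exact exists_ne 1
  have hPz : P = Subgroup.zpowers (p₀ : G) := by
    have h1 : Subgroup.zpowers (p₀ : G) ≤ P := by rw [Subgroup.zpowers_le]; exact p₀.2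
    have h2 : orderOf (p₀ : G) = 3 := by
      rw [Subgroup.orderOf_coe]
      have h3 : orderOf p₀ ∣ 3 := by rw [← hP3]; exact orderOf_dvd_natCard p₀
      rcases (Nat.dvd_prime Nat.prime_three).1 h3 with h4 | h4
      · exact absurd (orderOf_eq_one_iff.1 h4) hp₀
      · exact h4
    symm
    apply Subgroup.eq_of_le_of_card_ge h1
    rw [hP3, Nat.card_zpowers, h2]
  have hpC : (p₀ : G) ∈ C := hNC (hPN p₀.2)
  set p : C := ⟨p₀, hpC⟩ with hp
  have hp3 : p ^ 3 = 1 := by
    apply Subtype.ext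
    show (p₀ : G) ^ 3 = 1
    have h1 : p₀ ^ 3 = 1 := by rw [← hP3]; exact pow_card_eq_one'
    exact congrArg Subtype.val h1
  have hp1 : p ≠ 1 := fun h => hp₀ (Subtype.ext (congrArg (fun x : C => (x : G)) h))
  have hpN : p ∈ N := (hmemN p).2 (hPN p₀.2)
  have hpQ : p ∉ Q := by
    intro h
    have h1 : orderOf (⟨p, h⟩ : Q) ∣ 2 ^ 13 := by rw [← hcardQ]; exact orderOf_dvd_natCard _
    have h2 : orderOf (⟨p, h⟩ : Q) = 3 := by
      apply orderOf_eq_prime
      · exact Subtype.ext hp3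
      · intro h3
        exact hp1 (congrArg Subtype.val h3)
    rw [h2] at h1
    norm_num at h1
  have hMK : M ≤ KK Q p :=
    (MM_le N f hker hrange).trans (sup_le (comm_le_KK hQNs hcardN hpN hpQ hp3 _)
      (N_le_KK hQNs hcardN hpN hpQ))
  -- `KK ≠ ⊤`
  have hKtop : KK Q p ≠ ⊤ := by
    intro htop
    apply hne
    apply le_antisymm
    · intro c hc
      rw [Subgroup.mem_inf] at hc
      refine Subgroup.mem_inf.2 ⟨hc.1, ?_⟩
      have hcK : (⟨c, hc.1⟩ : C) ∈ KK Q p := by rw [htop]; trivial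
      rw [mem_KK, ← map_mul, ← map_mul] at hcK
      have h1 : (p * ⟨c, hc.1⟩)⁻¹ * (⟨c, hc.1⟩ * p) ∈ Q := by
        rw [← QuotientGroup.eq_one_iff]
        show QuotientGroup.mk' Q _ = 1
        rw [map_mul, map_inv, hcK, inv_mul_cancel]
      have h2 : (c : G)⁻¹ * (p₀ : G)⁻¹ * c * p₀ ∈ twoCoreOfCentralizer z := by
        have := (hmemQ _).1 h1
        have e1 : (((p * ⟨c, hc.1⟩)⁻¹ * (⟨c, hc.1⟩ * p) : C) : G) = (c : G)⁻¹ * (p₀ : G)⁻¹ * c * p₀ := by
          show ((p₀ : G) * c)⁻¹ * (c * p₀) = _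
          group
        rwa [e1] at this
      have h3 : (c : G)⁻¹ * (p₀ : G)⁻¹ * c * p₀ ∈ P := by
        refine P.mul_mem ?_ p₀.2
        have h4 := (Subgroup.mem_normalizer_iff.1 (Subgroup.inv_mem _ hc.2) ((p₀ : G)⁻¹)).1 (P.inv_mem p₀.2)
        rw [inv_inv] at h4
        exact h4
      have h5 : (c : G)⁻¹ * (p₀ : G)⁻¹ * c * p₀ = 1 := by
        have h6 := congrArg (fun x : P => (x : G)) (show (⟨_, h3⟩ : P) ^ 3 = 1 by
          rw [← hP3]; exact pow_card_eq_one')
        by_contra hne1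
        have h7 : orderOf (⟨_, h2⟩ : twoCoreOfCentralizer z) = 3 :=
          orderOf_eq_prime (Subtype.ext h6) (fun h => hne1 (congrArg Subtype.val h))
        have h8 := orderOf_dvd_natCard (⟨_, h2⟩ : twoCoreOfCentralizer z)
        rw [h7, hcard] at h8
        norm_num at h8
      have h9 : (c : G) * p₀ = p₀ * c := by
        have h10 : (c : G)⁻¹ * (p₀ : G)⁻¹ * c * p₀ = ((p₀ : G) * c)⁻¹ * (c * p₀) := by group
        rw [h10, inv_mul_eq_one] at h5
        exact h5.symm
      rw [hPz, Subgroup.mem_centralizer_iff]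
      rintro _ ⟨i, rfl⟩
      exact ((show Commute (c : G) p₀ from h9).zpow_right i).eq.symm
    · refine inf_le_inf_left _ ?_
      exact Subgroup.centralizer_le_normalizer _
  have hMeq : M = KK Q p := eq_of_index_two hMK hMi hKtop
  have hcent : ⁅M, N⁆ ≤ Q := comm_le_Q hQNs hcardN hpN hpQ hMK
  have hpM : p ∈ ⁅M, M⁆ := by
    have h1 : C ⊓ Subgroup.centralizer (P : Set G) ≤ M.map C.subtype := by
      intro c hc
      rw [Subgroup.mem_inf] at hc
      refine ⟨⟨c, hc.1⟩, ?_, rfl⟩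
      show (⟨c, hc.1⟩ : C) ∈ M
      rw [hMeq, mem_KK, ← map_mul, ← map_mul]
      congr 1
      apply Subtype.ext
      exact ((Subgroup.mem_centralizer_iff.1 hc.2) p₀ p₀.2).symm
    have h2 := hPc.trans (Subgroup.commutator_mono h1 h1)
    rw [← Subgroup.map_commutator] at h2
    obtain ⟨y, hy, hyp⟩ := h2 p₀.2
    have : y = p := Subtype.ext hyp
    rwa [← this]
  have hperf : M ≤ ⁅M, M⁆ ⊔ Q := by
    refine (MM_le N f hker hrange).trans (sup_le le_sup_left ?_)
    rw [mem_N_iff hQNs hcardN hpN hpQ]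
    exact sup_le le_sup_right (by rw [Subgroup.zpowers_le]; exact Subgroup.mem_sup_left hpM)
  have hselfQ : Subgroup.centralizer (Q : Set C) ≤ Q := by
    intro c hc
    rw [hmemQ]
    apply hself
    refine Subgroup.mem_inf.2 ⟨c.2, ?_⟩
    rw [Subgroup.mem_centralizer_iff]
    rintro _ ⟨x, hx, rfl⟩
    exact congrArg Subtype.val ((Subgroup.mem_centralizer_iff.1 hc) x hx)
  -- the central involution
  have hzC : ∀ c : C, c * tC z = tC z * c := tC_comm
  have hzQ : tC z ∈ Q := by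
    apply hselfQ
    rw [Subgroup.mem_centralizer_iff]
    intro x _
    exact hzC x
  have hzz : z * z = 1 := by rw [← pow_two, ← hz]; exact pow_orderOf_eq_one z
  have hz1 : z ≠ 1 := by
    intro h
    rw [h, orderOf_one] at hz
    exact absurd hz (by norm_num)
  set zQ : Q := ⟨tC z, hzQ⟩ with hzQd
  have hzQ1 : zQ ≠ 1 := fun h => hz1 (congrArg (fun y : Q => ((y : C) : G)) h)
  have hzQc : ∀ x : Q, x * zQ = zQ * x := fun x => Subtype.ext (hzC x)
  have hcen : ∀ x : Q, x ∈ Subgroup.center Q → x = 1 ∨ x = zQ := by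
    intro x hx
    have hzc : zQ ∈ Subgroup.center Q := Subgroup.mem_center_iff.2 hzQc
    obtain ⟨a, b, hab, huniv⟩ := Nat.card_eq_two_iff.1 hextQ.2
    have hall : ∀ y : Subgroup.center Q, y = a ∨ y = b := by
      intro y
      have : y ∈ ({a, b} : Set (Subgroup.center Q)) := by rw [huniv]; trivial
      simpa using this
    have h0 : (⟨zQ, hzc⟩ : Subgroup.center Q) ≠ 1 := fun h => hzQ1 (congrArg Subtype.val h)
    have h2 : ∀ y : Subgroup.center Q, y = 1 ∨ y = ⟨zQ, hzc⟩ := by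
      intro y
      rcases hall y with hy | hy <;> rcases hall 1 with h | h <;>
        rcases hall ⟨zQ, hzc⟩ with h' | h'
      · left; rw [hy, h]
      · left; rw [hy, h]
      · right; rw [hy, h']
      · exact absurd (h'.trans h.symm) h0
      · exact absurd (h'.trans h.symm) h0
      · right; rw [hy, h']
      · left; rw [hy, h]
      · left; rw [hy, h]
    rcases h2 ⟨x, hx⟩ with h | h
    · exact Or.inl (congrArg Subtype.val h)
    · exact Or.inr (congrArg Subtype.val h)
  have : Fact (Nat.Prime 2) := ⟨Nat.prime_two⟩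
  have hsq : ∀ x : Q, x * x = 1 ∨ x * x = zQ := by
    intro x
    have := hcen _ (Cfsg.Agent.Transfer.Extraspecial.pow_mem_center hextQ x)
    rwa [pow_two] at this
  have hzzQ : zQ * zQ = 1 := Subtype.ext (Subtype.ext hzz)
  have hcomm : ∀ x y : Q, x * y = y * x ∨ x * y = zQ * (y * x) := by
    intro x y
    have h1 : ⁅x, y⁆ ∈ Subgroup.center Q := by
      rw [← hextQ.1.2.2]
      exact Subgroup.commutator_mem_commutator (Subgroup.mem_top x) (Subgroup.mem_top y)
    rcases hcen _ h1 with h | h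
    · left
      exact commutatorElement_eq_one_iff_mul_comm.1 h
    · right
      rw [commutatorElement_def, mul_inv_eq_iff_eq_mul, mul_inv_eq_iff_eq_mul, mul_assoc] at h
      exact h
  have hplus : ∃ E : Subgroup Q, IsElementaryAbelian 2 E ∧ Nat.card E = 2 ^ 7 := by
    refine Plus.exists_plus (MulAut.conjNormal p : MulAut Q) hzzQ hzQ1 hzQc hsq hcomm ?_ ?_ ?_ hcardQ
    · apply Subtype.ext
      rw [MulAut.conjNormal_apply]
      show p * tC z * p⁻¹ = tC z
      rw [hzC, mul_inv_cancel_right]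
    · intro x
      apply Subtype.ext
      rw [MulAut.conjNormal_apply, MulAut.conjNormal_apply, MulAut.conjNormal_apply]
      have hppp : p * p * p = 1 := by rw [← pow_two, ← pow_succ]; exact hp3
      have e1 : p * (p * (p * (x : C) * p⁻¹) * p⁻¹) * p⁻¹ = (p * p * p) * x * (p * p * p)⁻¹ := by
        simp only [mul_assoc, mul_inv_rev]
      rw [e1, hppp, one_mul, inv_one, mul_one]
    · intro x hx
      have h1 := congrArg (Subtype.val) hx
      rw [MulAut.conjNormal_apply, mul_inv_eq_iff_eq_mul] at h1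
      have h2 : (p₀ : G) * (x : C) = (x : C) * p₀ := congrArg Subtype.val h1
      have h3 : ((x : C) : G) ∈ twoCoreOfCentralizer z ⊓ Subgroup.centralizer (P : Set G) := by
        refine Subgroup.mem_inf.2 ⟨(hmemQ _).1 x.2, ?_⟩
        rw [hPz, Subgroup.mem_centralizer_iff]
        rintro _ ⟨i, rfl⟩
        exact ((show Commute (p₀ : G) (x : C) from h2).zpow_left i).eq
      rw [hfix] at h3
      obtain ⟨i, hi⟩ := h3
      have h4 : zQ ^ i = x := Subtype.ext (Subtype.ext hi)
      rcases Int.even_or_odd' i with ⟨j, rfl | rfl⟩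
      · left
        rw [← h4, zpow_mul, show zQ ^ (2 : ℤ) = 1 by rw [zpow_ofNat, pow_two, hzzQ], one_zpow]
      · right
        rw [← h4, zpow_add, zpow_mul, show zQ ^ (2 : ℤ) = 1 by rw [zpow_ofNat, pow_two, hzzQ],
          one_zpow, one_mul, zpow_one]
  refine ⟨Q, N, M, ?_, hQmap, by rw [hNmap]; exact hPN⟩
  exact
    { ht := hz
      Qn := hQn
      Nn := hNn
      Mn := hMn
      QN := hQNs
      NM := hNM
      index_M := hMi
      extra := hextQ
      card_Q := hcardQ
      plus := hplus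
      card_N := hcardN
      cent := hcent
      perf := hperf
      self := hselfQ
      out := by
        intro c hc
        have hfc : f c = 1 := by
          apply J4Type.OuterM22.eq_one_of_cent
          · rw [← hrange]; exact ⟨c, rfl⟩
          · intro g hg
            have hg' : g ∈ f.range := by rw [hrange]; exact J4Type.OuterM22.M22_le_duad hg
            obtain ⟨m, rfl⟩ := hg'
            have h1 := hc m hg
            rw [← hker, MonoidHom.mem_ker, map_mul, map_mul, map_mul, map_inv, map_inv,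
              mul_inv_eq_one] at h1
            exact h1
        rw [hM, mem_MM, hfc]
        exact one_mem _
      pi := by
        refine ⟨(f.comp M.subtype).codRestrict Spor.M22 (fun m => m.2), ?_, ?_⟩
        · rintro ⟨g, hg⟩
          have hg' : g ∈ f.range := by rw [hrange]; exact J4Type.OuterM22.M22_le_duad hg
          obtain ⟨m, rfl⟩ := hg'
          exact ⟨⟨m, hg⟩, rfl⟩
        · intro m
          rw [← hker, MonoidHom.mem_ker]
          exact Subtype.ext_iff }

end Cfsg.Agent.H856.ToHyp
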