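import Mathlib
import Cfsg.Agent.Prune
set_option linter.all false

section
prune_inst 0x7ffffffffffffbfffffffffffefffffdffbbbfffe6fffdcbffefebffcb9f5fbbcfefffff8bfbbafedfffea5d94fffbc3fbffffffea6ffc7ffffdfff79ffbffffffffb50c71fcbcbe1ffe6fff9bf07f8e7f3fffffffffffffffffffffffffffffffbfffffffff

-- part: H179/G2Pf
section
set_option linter.all false

/-!
# Pfaffians of small size and trilinear alternating forms in seven variables

`pf4`, `pf6` are the Pfaffians of a function `A : α → α → R` on 4 and 6 arguments; `pf21 A B` is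
the part of `pf6 (A + B)` which is quadratic in `A` and linear in `B`.  If `φ` is an alternating
function of three indices in `Fin 7`, the Pfaffian of the matrix `∑ l, x l * φ l i j` with row and
column `k` omitted is `(-1)^k * x k * qf φ x`, `qf φ x` a quadratic form in `x`.
-/

namespace Cfsg.Agent.H179.G2

variable {α R : Type*} [CommRing R]

/-- the Pfaffian on four arguments -/
def pf4 (A : α → α → R) (a b c d : α) : R := A a b * A c d - A a c * A b d + A a d * A b c

/-- the Pfaffian on six arguments -/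
def pf6 (A : α → α → R) (a b c d e f : α) : R :=
  A a b * pf4 A c d e f - A a c * pf4 A b d e f + A a d * pf4 A b c e f
    - A a e * pf4 A b c d f + A a f * pf4 A b c d e

/-- the part of `pf6 (A + B)` quadratic in `A` and linear in `B` -/
def pf21 (A B : α → α → R) (a b c d e f : α) : R :=
  B a b * pf4 A c d e f - B a c * pf4 A b d e f + B a d * pf4 A b c e f
    - B a e * pf4 A b c d f + B a f * pf4 A b c d e
    + B b c * pf4 A a d e f - B b d * pf4 A a c e f + B b e * pf4 A a c d f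
    - B b f * pf4 A a c d e
    + B c d * pf4 A a b e f - B c e * pf4 A a b d f + B c f * pf4 A a b d e
    + B d e * pf4 A a b c f - B d f * pf4 A a b c e
    + B e f * pf4 A a b c d

theorem pf6_add (A B : α → α → R) (a b c d e f : α) :
    pf6 (fun i j => A i j + B i j) a b c d e f =
      pf6 A a b c d e f + pf21 A B a b c d e f + pf21 B A a b c d e f + pf6 B a b c d e f := by
  simp only [pf6, pf21, pf4]; ring

theorem pf6_smul (t : R) (A : α → α → R) (a b c d e f : α) :
    pf6 (fun i j => t * A i j) a b c d e f = t ^ 3 * pf6 A a b c d e f := by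
  simp only [pf6, pf4]; ring

end Cfsg.Agent.H179.G2

private theorem dce_574e4e2e3722 : _root_.True := by
  try have : _root_.True := by simp only [_root_.Cfsg.Agent.H179.G2.pf6.eq_1]
  try have : _root_.True := by simp only [_root_.Cfsg.Agent.H179.G2.pf21.eq_1]
  try have : _root_.True := by simp only [_root_.Cfsg.Agent.H179.G2.pf4.eq_1]
  exact _root_.True.intro
end

-- part: H179/G2Qf
section
prune_inst 0x4000000000001000000004040000900003400001400142000442000000064044101000000a041000010040000001100030000000000400000000000086180034240200080006001003180c00000000000000000000000000000004000000000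
set_option linter.all false
open scoped Cfsg.Agent.FastGrp

/-!
# The quadratic form of an alternating function of three indices in `Fin 7`

`pf6_omit`: the Pfaffian of `MM φ x` with row and column `k` omitted is `(-1)^k * x k * qf φ x`.
-/

namespace Cfsg.Agent.H179.G2

variable {R : Type*} [CommRing R] {φ : Fin 7 → Fin 7 → Fin 7 → R}

/-- `φ` is an alternating function of three indices -/
structure IsAlt (φ : Fin 7 → Fin 7 → Fin 7 → R) : Prop where
  self : ∀ i j, φ i i j = 0
  z23 : ∀ i j, φ i j j = 0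
  swap12 : ∀ i j k, φ i j k = - φ j i k
  swap23 : ∀ i j k, φ i j k = - φ i k j

theorem IsAlt.z13 (h : IsAlt φ) (i j : Fin 7) : φ i j i = 0 := by
  rw [h.swap23, h.self, neg_zero]

theorem IsAlt.rot (h : IsAlt φ) (i j k : Fin 7) : φ i j k = φ j k i := by
  rw [h.swap12, h.swap23 j i k, neg_neg]

/-- the matrix of the 2-form `φ x` -/
def MM (φ : Fin 7 → Fin 7 → Fin 7 → R) (x : Fin 7 → R) (i j : Fin 7) : R := ∑ l, x l * φ l i j

/-- the part of `MM φ x` without `x 0` -/
def Phi (φ : Fin 7 → Fin 7 → Fin 7 → R) (x : Fin 7 → R) (i j : Fin 7) : R :=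
  ∑ l : Fin 6, x l.succ * φ l.succ i j

/-- the quadratic form of `φ` -/
def qf (φ : Fin 7 → Fin 7 → Fin 7 → R) (x : Fin 7 → R) : R :=
  x 0 ^ 2 * pf6 (φ 0) 1 2 3 4 5 6 + x 0 * pf21 (φ 0) (Phi φ x) 1 2 3 4 5 6
    + pf21 (Phi φ x) (φ 0) 1 2 3 4 5 6

theorem MM_apply (x : Fin 7 → R) (i j : Fin 7) : MM φ x i j =
    x 0 * φ 0 i j + x 1 * φ 1 i j + x 2 * φ 2 i j + x 3 * φ 3 i j + x 4 * φ 4 i j
      + x 5 * φ 5 i j + x 6 * φ 6 i j := by
  simp only [MM, Fin.sum_univ_succ, Fin.sum_univ_zero]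
  change x 0 * φ 0 i j + (x 1 * φ 1 i j + (x 2 * φ 2 i j + (x 3 * φ 3 i j + (x 4 * φ 4 i j
      + (x 5 * φ 5 i j + (x 6 * φ 6 i j + 0)))))) = _
  ring

theorem Phi_apply (x : Fin 7 → R) (i j : Fin 7) : Phi φ x i j =
    x 1 * φ 1 i j + x 2 * φ 2 i j + x 3 * φ 3 i j + x 4 * φ 4 i j
      + x 5 * φ 5 i j + x 6 * φ 6 i j := by
  simp only [Phi, Fin.sum_univ_succ, Fin.sum_univ_zero]
  change (x 1 * φ 1 i j + (x 2 * φ 2 i j + (x 3 * φ 3 i j + (x 4 * φ 4 i j
      + (x 5 * φ 5 i j + (x 6 * φ 6 i j + 0)))))) = _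
  ring

theorem Phi12 (h : IsAlt φ) (x : Fin 7 → R) :
    Phi φ x 1 2 = x 3 * φ 1 2 3 + x 4 * φ 1 2 4 + x 5 * φ 1 2 5 + x 6 * φ 1 2 6 := by
  rw [Phi_apply, h.self 1 2, h.z13 2 1, h.rot 3 1 2, h.rot 4 1 2, h.rot 5 1 2, h.rot 6 1 2]; ring

theorem Phi13 (h : IsAlt φ) (x : Fin 7 → R) :
    Phi φ x 1 3 = - x 2 * φ 1 2 3 + x 4 * φ 1 3 4 + x 5 * φ 1 3 5 + x 6 * φ 1 3 6 := by
  rw [Phi_apply, h.self 1 3, h.swap12 2 1 3, h.z13 3 1, h.rot 4 1 3, h.rot 5 1 3, h.rot 6 1 3]; ring

theorem Phi14 (h : IsAlt φ) (x : Fin 7 → R) :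
    Phi φ x 1 4 = - x 2 * φ 1 2 4 - x 3 * φ 1 3 4 + x 5 * φ 1 4 5 + x 6 * φ 1 4 6 := by
  rw [Phi_apply, h.self 1 4, h.swap12 2 1 4, h.swap12 3 1 4, h.z13 4 1, h.rot 5 1 4, h.rot 6 1 4]; ring

theorem Phi15 (h : IsAlt φ) (x : Fin 7 → R) :
    Phi φ x 1 5 = - x 2 * φ 1 2 5 - x 3 * φ 1 3 5 - x 4 * φ 1 4 5 + x 6 * φ 1 5 6 := by
  rw [Phi_apply, h.self 1 5, h.swap12 2 1 5, h.swap12 3 1 5, h.swap12 4 1 5, h.z13 5 1, h.rot 6 1 5]; ring

theorem Phi16 (h : IsAlt φ) (x : Fin 7 → R) :
    Phi φ x 1 6 = - x 2 * φ 1 2 6 - x 3 * φ 1 3 6 - x 4 * φ 1 4 6 - x 5 * φ 1 5 6 := by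
  rw [Phi_apply, h.self 1 6, h.swap12 2 1 6, h.swap12 3 1 6, h.swap12 4 1 6, h.swap12 5 1 6, h.z13 6 1]; ring

theorem Phi23 (h : IsAlt φ) (x : Fin 7 → R) :
    Phi φ x 2 3 = x 1 * φ 1 2 3 + x 4 * φ 2 3 4 + x 5 * φ 2 3 5 + x 6 * φ 2 3 6 := by
  rw [Phi_apply, h.self 2 3, h.z13 3 2, h.rot 4 2 3, h.rot 5 2 3, h.rot 6 2 3]; ring

theorem Phi24 (h : IsAlt φ) (x : Fin 7 → R) :
    Phi φ x 2 4 = x 1 * φ 1 2 4 - x 3 * φ 2 3 4 + x 5 * φ 2 4 5 + x 6 * φ 2 4 6 := by
  rw [Phi_apply, h.self 2 4, h.swap12 3 2 4, h.z13 4 2, h.rot 5 2 4, h.rot 6 2 4]; ring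

theorem Phi25 (h : IsAlt φ) (x : Fin 7 → R) :
    Phi φ x 2 5 = x 1 * φ 1 2 5 - x 3 * φ 2 3 5 - x 4 * φ 2 4 5 + x 6 * φ 2 5 6 := by
  rw [Phi_apply, h.self 2 5, h.swap12 3 2 5, h.swap12 4 2 5, h.z13 5 2, h.rot 6 2 5]; ring

theorem Phi26 (h : IsAlt φ) (x : Fin 7 → R) :
    Phi φ x 2 6 = x 1 * φ 1 2 6 - x 3 * φ 2 3 6 - x 4 * φ 2 4 6 - x 5 * φ 2 5 6 := by
  rw [Phi_apply, h.self 2 6, h.swap12 3 2 6, h.swap12 4 2 6, h.swap12 5 2 6, h.z13 6 2]; ring

theorem Phi34 (h : IsAlt φ) (x : Fin 7 → R) :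
    Phi φ x 3 4 = x 1 * φ 1 3 4 + x 2 * φ 2 3 4 + x 5 * φ 3 4 5 + x 6 * φ 3 4 6 := by
  rw [Phi_apply, h.self 3 4, h.z13 4 3, h.rot 5 3 4, h.rot 6 3 4]; ring

theorem Phi35 (h : IsAlt φ) (x : Fin 7 → R) :
    Phi φ x 3 5 = x 1 * φ 1 3 5 + x 2 * φ 2 3 5 - x 4 * φ 3 4 5 + x 6 * φ 3 5 6 := by
  rw [Phi_apply, h.self 3 5, h.swap12 4 3 5, h.z13 5 3, h.rot 6 3 5]; ring

theorem Phi36 (h : IsAlt φ) (x : Fin 7 → R) :
    Phi φ x 3 6 = x 1 * φ 1 3 6 + x 2 * φ 2 3 6 - x 4 * φ 3 4 6 - x 5 * φ 3 5 6 := by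
  rw [Phi_apply, h.self 3 6, h.swap12 4 3 6, h.swap12 5 3 6, h.z13 6 3]; ring

theorem Phi45 (h : IsAlt φ) (x : Fin 7 → R) :
    Phi φ x 4 5 = x 1 * φ 1 4 5 + x 2 * φ 2 4 5 + x 3 * φ 3 4 5 + x 6 * φ 4 5 6 := by
  rw [Phi_apply, h.self 4 5, h.z13 5 4, h.rot 6 4 5]; ring

theorem Phi46 (h : IsAlt φ) (x : Fin 7 → R) :
    Phi φ x 4 6 = x 1 * φ 1 4 6 + x 2 * φ 2 4 6 + x 3 * φ 3 4 6 - x 5 * φ 4 5 6 := by
  rw [Phi_apply, h.self 4 6, h.swap12 5 4 6, h.z13 6 4]; ring

theorem Phi56 (h : IsAlt φ) (x : Fin 7 → R) :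
    Phi φ x 5 6 = x 1 * φ 1 5 6 + x 2 * φ 2 5 6 + x 3 * φ 3 5 6 + x 4 * φ 4 5 6 := by
  rw [Phi_apply, h.self 5 6, h.z13 6 5]; ring

theorem MM_eq (x : Fin 7 → R) (i j : Fin 7) : MM φ x i j = x 0 * φ 0 i j + Phi φ x i j := by
  rw [MM_apply, Phi_apply]; ring

theorem pf6_Phi (h : IsAlt φ) (x : Fin 7 → R) : pf6 (Phi φ x) 1 2 3 4 5 6 = 0 := by
  simp only [pf6, pf4, Phi12 h, Phi13 h, Phi14 h, Phi15 h, Phi16 h, Phi23 h, Phi24 h, Phi25 h,
    Phi26 h, Phi34 h, Phi35 h, Phi36 h, Phi45 h, Phi46 h, Phi56 h]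
  ring

theorem omit0 (h : IsAlt φ) (x : Fin 7 → R) :
    pf6 (MM φ x) 1 2 3 4 5 6 = x 0 * qf φ x := by
  have e : MM φ x = fun i j => x 0 * φ 0 i j + Phi φ x i j := by
    ext i j; exact MM_eq x i j
  rw [e, pf6_add (fun i j => x 0 * φ 0 i j), pf6_Phi h, pf6_smul, qf]
  simp only [pf21, pf4]
  ring

private theorem alt_perm (h : IsAlt φ) (σ : Equiv.Perm (Fin 7)) : IsAlt fun i j k => φ (σ i) (σ j) (σ k) :=
  ⟨fun _ _ => h.self _ _, fun _ _ => h.z23 _ _, fun _ _ _ => h.swap12 _ _ _, fun _ _ _ => h.swap23 _ _ _⟩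

private theorem MM_perm (x : Fin 7 → R) (σ : Equiv.Perm (Fin 7)) :
    MM (fun i j k => φ (σ i) (σ j) (σ k)) (fun i => x (σ i)) = fun i j => MM φ x (σ i) (σ j) :=
  funext fun i => funext fun j => Equiv.sum_comp σ fun l => x l * φ l (σ i) (σ j)

private theorem qf_swap (h : IsAlt φ) (x : Fin 7 → R) (σ : Equiv.Perm (Fin 7)) (h0 : σ 0 = 1) (h1 : σ 1 = 0)
    (h2 : σ 2 = 2) (h3 : σ 3 = 3) (h4 : σ 4 = 4) (h5 : σ 5 = 5) (h6 : σ 6 = 6) :
    qf (fun i j k => φ (σ i) (σ j) (σ k)) (fun i => x (σ i)) = - qf φ x := by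
  have g := alt_perm h σ
  simp only [qf, pf21, pf6, pf4, Phi12 g, Phi13 g, Phi14 g, Phi15 g, Phi16 g, Phi23 g, Phi24 g, Phi25 g, Phi26 g, Phi34 g, Phi35 g, Phi36 g, Phi45 g, Phi46 g, Phi56 g,
    h0, h1, h2, h3, h4, h5, h6, h.swap12 1 0,
    Phi12 h, Phi13 h, Phi14 h, Phi15 h, Phi16 h, Phi23 h, Phi24 h, Phi25 h, Phi26 h, Phi34 h, Phi35 h, Phi36 h, Phi45 h, Phi46 h, Phi56 h]
  ring

theorem omit1 (h : IsAlt φ) (x : Fin 7 → R) :
    pf6 (MM φ x) 0 2 3 4 5 6 = -(x 1 * qf φ x) := by
  have e := omit0 (alt_perm h (Equiv.swap (0 : Fin 7) 1)) fun i => x (Equiv.swap (0 : Fin 7) 1 i)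
  rw [MM_perm, qf_swap h x _ (by decide) (by decide) (by decide) (by decide) (by decide) (by decide) (by decide),
    mul_neg] at e
  exact e

/-- the expression of `qf` -/
private def qq (A B : Fin 7 → Fin 7 → R) (t : R) (a b c d e f : Fin 7) : R :=
  t ^ 2 * pf6 A a b c d e f + t * pf21 A B a b c d e f + pf21 B A a b c d e f

private theorem pf6_sw0 {A : Fin 7 → Fin 7 → R} (hA : ∀ i j, A i j = - A j i) (a b c d e f : Fin 7) :
    pf6 A b a c d e f = - pf6 A a b c d e f := by
  simp only [pf6, pf4]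
  rw [hA b a]
  ring

private theorem pf21_sw0 {A B : Fin 7 → Fin 7 → R} (hA : ∀ i j, A i j = - A j i) (hB : ∀ i j, B i j = - B j i)
    (a b c d e f : Fin 7) : pf21 A B b a c d e f = - pf21 A B a b c d e f := by
  simp only [pf21, pf4]
  rw [hA b a, hB b a]
  ring

private theorem qq_sw0 {A B : Fin 7 → Fin 7 → R} (hA : ∀ i j, A i j = - A j i) (hB : ∀ i j, B i j = - B j i)
    (t : R) (a b c d e f : Fin 7) : qq A B t b a c d e f = - qq A B t a b c d e f := by
  rw [qq, qq, pf6_sw0 hA, pf21_sw0 hA hB, pf21_sw0 hB hA]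
  ring

private theorem pf6_sw1 {A : Fin 7 → Fin 7 → R} (hA : ∀ i j, A i j = - A j i) (a b c d e f : Fin 7) :
    pf6 A a c b d e f = - pf6 A a b c d e f := by
  simp only [pf6, pf4]
  rw [hA c b]
  ring

private theorem pf21_sw1 {A B : Fin 7 → Fin 7 → R} (hA : ∀ i j, A i j = - A j i) (hB : ∀ i j, B i j = - B j i)
    (a b c d e f : Fin 7) : pf21 A B a c b d e f = - pf21 A B a b c d e f := by
  simp only [pf21, pf4]
  rw [hA c b, hB c b]
  ring

private theorem qq_sw1 {A B : Fin 7 → Fin 7 → R} (hA : ∀ i j, A i j = - A j i) (hB : ∀ i j, B i j = - B j i)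
    (t : R) (a b c d e f : Fin 7) : qq A B t a c b d e f = - qq A B t a b c d e f := by
  rw [qq, qq, pf6_sw1 hA, pf21_sw1 hA hB, pf21_sw1 hB hA]
  ring

private theorem pf6_sw2 {A : Fin 7 → Fin 7 → R} (hA : ∀ i j, A i j = - A j i) (a b c d e f : Fin 7) :
    pf6 A a b d c e f = - pf6 A a b c d e f := by
  simp only [pf6, pf4]
  rw [hA d c]
  ring

private theorem pf21_sw2 {A B : Fin 7 → Fin 7 → R} (hA : ∀ i j, A i j = - A j i) (hB : ∀ i j, B i j = - B j i)
    (a b c d e f : Fin 7) : pf21 A B a b d c e f = - pf21 A B a b c d e f := by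
  simp only [pf21, pf4]
  rw [hA d c, hB d c]
  ring

private theorem qq_sw2 {A B : Fin 7 → Fin 7 → R} (hA : ∀ i j, A i j = - A j i) (hB : ∀ i j, B i j = - B j i)
    (t : R) (a b c d e f : Fin 7) : qq A B t a b d c e f = - qq A B t a b c d e f := by
  rw [qq, qq, pf6_sw2 hA, pf21_sw2 hA hB, pf21_sw2 hB hA]
  ring

private theorem pf6_sw3 {A : Fin 7 → Fin 7 → R} (hA : ∀ i j, A i j = - A j i) (a b c d e f : Fin 7) :
    pf6 A a b c e d f = - pf6 A a b c d e f := by
  simp only [pf6, pf4]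
  rw [hA e d]
  ring

private theorem pf21_sw3 {A B : Fin 7 → Fin 7 → R} (hA : ∀ i j, A i j = - A j i) (hB : ∀ i j, B i j = - B j i)
    (a b c d e f : Fin 7) : pf21 A B a b c e d f = - pf21 A B a b c d e f := by
  simp only [pf21, pf4]
  rw [hA e d, hB e d]
  ring

private theorem qq_sw3 {A B : Fin 7 → Fin 7 → R} (hA : ∀ i j, A i j = - A j i) (hB : ∀ i j, B i j = - B j i)
    (t : R) (a b c d e f : Fin 7) : qq A B t a b c e d f = - qq A B t a b c d e f := by
  rw [qq, qq, pf6_sw3 hA, pf21_sw3 hA hB, pf21_sw3 hB hA]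
  ring

private theorem pf6_sw4 {A : Fin 7 → Fin 7 → R} (hA : ∀ i j, A i j = - A j i) (a b c d e f : Fin 7) :
    pf6 A a b c d f e = - pf6 A a b c d e f := by
  simp only [pf6, pf4]
  rw [hA f e]
  ring

private theorem pf21_sw4 {A B : Fin 7 → Fin 7 → R} (hA : ∀ i j, A i j = - A j i) (hB : ∀ i j, B i j = - B j i)
    (a b c d e f : Fin 7) : pf21 A B a b c d f e = - pf21 A B a b c d e f := by
  simp only [pf21, pf4]
  rw [hA f e, hB f e]
  ring

private theorem qq_sw4 {A B : Fin 7 → Fin 7 → R} (hA : ∀ i j, A i j = - A j i) (hB : ∀ i j, B i j = - B j i)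
    (t : R) (a b c d e f : Fin 7) : qq A B t a b c d f e = - qq A B t a b c d e f := by
  rw [qq, qq, pf6_sw4 hA, pf21_sw4 hA hB, pf21_sw4 hB hA]
  ring

private theorem Phi_skew (h : IsAlt φ) (x : Fin 7 → R) (i j : Fin 7) : Phi φ x i j = - Phi φ x j i := by
  rw [Phi, Phi, ← Finset.sum_neg_distrib]
  exact Finset.sum_congr rfl fun l _ => by rw [h.swap23 l.succ i j, mul_neg]

/-- `omit1` after a permutation of the indices -/
private theorem omit_perm (h : IsAlt φ) (x : Fin 7 → R) (σ : Equiv.Perm (Fin 7)) {a b c d e f : Fin 7} (h0 : σ 0 = 0)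
    (h1 : σ 1 = a) (h2 : σ 2 = b) (h3 : σ 3 = c) (h4 : σ 4 = d) (h5 : σ 5 = e) (h6 : σ 6 = f) :
    pf6 (MM φ x) 0 b c d e f = -(x a * qq (φ 0) (Phi φ x) (x 0) a b c d e f) := by
  have hσ := alt_perm h σ
  have e1 := MM_perm (φ := φ) x σ
  have e2 : Phi (fun i j k => φ (σ i) (σ j) (σ k)) (fun i => x (σ i)) = fun i j => Phi φ x (σ i) (σ j) := by
    funext i j
    have e3 := congrFun (congrFun e1 i) j
    rw [MM_eq, MM_eq, h0] at e3
    exact add_left_cancel e3
  have e4 := omit1 hσ fun i => x (σ i)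
  rw [qf, e1, e2] at e4
  subst h1 h2 h3 h4 h5 h6
  have e5 : pf6 (MM φ x) (σ 0) (σ 2) (σ 3) (σ 4) (σ 5) (σ 6) =
    -(x (σ 1) * qq (φ (σ 0)) (Phi φ x) (x (σ 0)) (σ 1) (σ 2) (σ 3) (σ 4) (σ 5) (σ 6)) := e4
  rwa [h0] at e5

theorem omit2 (h : IsAlt φ) (x : Fin 7 → R) :
    pf6 (MM φ x) 0 1 3 4 5 6 = (x 2 * qf φ x) := by
  rw [omit_perm h x (Equiv.swap (1 : Fin 7) 2) (a := 2) (by decide) (by decide) (by decide) (by decide) (by decide) (by decide) (by decide),
    qq_sw0 (h.swap23 0) (Phi_skew h x) (x 0) 1 2 3 4 5 6]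
  simp only [neg_neg, mul_neg]
  rfl

theorem omit3 (h : IsAlt φ) (x : Fin 7 → R) :
    pf6 (MM φ x) 0 1 2 4 5 6 = -(x 3 * qf φ x) := by
  rw [omit_perm h x (Equiv.swap (2 : Fin 7) 3 * Equiv.swap (1 : Fin 7) 2) (a := 3) (by decide) (by decide) (by decide) (by decide) (by decide) (by decide) (by decide),
    qq_sw0 (h.swap23 0) (Phi_skew h x) (x 0) 1 3 2 4 5 6,
    qq_sw1 (h.swap23 0) (Phi_skew h x) (x 0) 1 2 3 4 5 6]
  simp only [neg_neg, mul_neg]
  rfl

theorem omit4 (h : IsAlt φ) (x : Fin 7 → R) :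
    pf6 (MM φ x) 0 1 2 3 5 6 = (x 4 * qf φ x) := by
  rw [omit_perm h x (Equiv.swap (3 : Fin 7) 4 * Equiv.swap (2 : Fin 7) 3 * Equiv.swap (1 : Fin 7) 2) (a := 4) (by decide) (by decide) (by decide) (by decide) (by decide) (by decide) (by decide),
    qq_sw0 (h.swap23 0) (Phi_skew h x) (x 0) 1 4 2 3 5 6,
    qq_sw1 (h.swap23 0) (Phi_skew h x) (x 0) 1 2 4 3 5 6,
    qq_sw2 (h.swap23 0) (Phi_skew h x) (x 0) 1 2 3 4 5 6]
  simp only [neg_neg, mul_neg]
  rfl

theorem omit5 (h : IsAlt φ) (x : Fin 7 → R) :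
    pf6 (MM φ x) 0 1 2 3 4 6 = -(x 5 * qf φ x) := by
  rw [omit_perm h x (Equiv.swap (4 : Fin 7) 5 * Equiv.swap (3 : Fin 7) 4 * Equiv.swap (2 : Fin 7) 3 * Equiv.swap (1 : Fin 7) 2) (a := 5) (by decide) (by decide) (by decide) (by decide) (by decide) (by decide) (by decide),
    qq_sw0 (h.swap23 0) (Phi_skew h x) (x 0) 1 5 2 3 4 6,
    qq_sw1 (h.swap23 0) (Phi_skew h x) (x 0) 1 2 5 3 4 6,
    qq_sw2 (h.swap23 0) (Phi_skew h x) (x 0) 1 2 3 5 4 6,
    qq_sw3 (h.swap23 0) (Phi_skew h x) (x 0) 1 2 3 4 5 6]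
  simp only [neg_neg, mul_neg]
  rfl

theorem omit6 (h : IsAlt φ) (x : Fin 7 → R) :
    pf6 (MM φ x) 0 1 2 3 4 5 = (x 6 * qf φ x) := by
  rw [omit_perm h x (Equiv.swap (5 : Fin 7) 6 * Equiv.swap (4 : Fin 7) 5 * Equiv.swap (3 : Fin 7) 4 * Equiv.swap (2 : Fin 7) 3 * Equiv.swap (1 : Fin 7) 2) (a := 6) (by decide) (by decide) (by decide) (by decide) (by decide) (by decide) (by decide),
    qq_sw0 (h.swap23 0) (Phi_skew h x) (x 0) 1 6 2 3 4 5,
    qq_sw1 (h.swap23 0) (Phi_skew h x) (x 0) 1 2 6 3 4 5,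
    qq_sw2 (h.swap23 0) (Phi_skew h x) (x 0) 1 2 3 6 4 5,
    qq_sw3 (h.swap23 0) (Phi_skew h x) (x 0) 1 2 3 4 6 5,
    qq_sw4 (h.swap23 0) (Phi_skew h x) (x 0) 1 2 3 4 5 6]
  simp only [neg_neg, mul_neg]
  rfl

/-- the Pfaffian of `MM φ x` with row and column `k` omitted -/
theorem pf6_omit (h : IsAlt φ) (x : Fin 7 → R) (k : Fin 7) :
    pf6 (MM φ x) (k.succAbove 0) (k.succAbove 1) (k.succAbove 2) (k.succAbove 3)
      (k.succAbove 4) (k.succAbove 5) = (-1) ^ (k : ℕ) * (x k * qf φ x) := by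
  fin_cases k
  · exact (omit0 h x).trans (show x 0 * qf φ x = (-1) ^ 0 * (x 0 * qf φ x) by ring)
  · exact (omit1 h x).trans (show -(x 1 * qf φ x) = (-1) ^ 1 * (x 1 * qf φ x) by ring)
  · exact (omit2 h x).trans (show x 2 * qf φ x = (-1) ^ 2 * (x 2 * qf φ x) by ring)
  · exact (omit3 h x).trans (show -(x 3 * qf φ x) = (-1) ^ 3 * (x 3 * qf φ x) by ring)
  · exact (omit4 h x).trans (show x 4 * qf φ x = (-1) ^ 4 * (x 4 * qf φ x) by ring)
  · exact (omit5 h x).trans (show -(x 5 * qf φ x) = (-1) ^ 5 * (x 5 * qf φ x) by ring)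
  · exact (omit6 h x).trans (show x 6 * qf φ x = (-1) ^ 6 * (x 6 * qf φ x) by ring)

theorem Phi_add (x y : Fin 7 → R) (i j : Fin 7) : Phi φ (x + y) i j = Phi φ x i j + Phi φ y i j := by
  simp only [Phi_apply, Pi.add_apply]; ring

theorem Phi_smul (t : R) (x : Fin 7 → R) (i j : Fin 7) : Phi φ (t • x) i j = t * Phi φ x i j := by
  simp only [Phi_apply, Pi.smul_apply, smul_eq_mul]; ring

private theorem p4_add (x x' y : Fin 7 → R) (a b c d : Fin 7) :
    pf4 (Phi φ (x + x' + y)) a b c d = pf4 (Phi φ (x + x')) a b c d + pf4 (Phi φ (x + y)) a b c d +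
      pf4 (Phi φ (x' + y)) a b c d - pf4 (Phi φ x) a b c d - pf4 (Phi φ x') a b c d - pf4 (Phi φ y) a b c d := by
  simp only [pf4, Phi_add]; ring

private theorem p4_smul (t : R) (x : Fin 7 → R) (a b c d : Fin 7) :
    pf4 (Phi φ (t • x)) a b c d = t * t * pf4 (Phi φ x) a b c d := by
  simp only [pf4, Phi_smul]; ring

private theorem p4_pol (t : R) (x y : Fin 7 → R) (a b c d : Fin 7) :
    pf4 (Phi φ (t • x + y)) a b c d = t * t * pf4 (Phi φ x) a b c d + pf4 (Phi φ y) a b c d +
      t * (pf4 (Phi φ (x + y)) a b c d - pf4 (Phi φ x) a b c d - pf4 (Phi φ y) a b c d) := by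
  simp only [pf4, Phi_add, Phi_smul]; ring

private theorem l_add (A : Fin 7 → Fin 7 → R) (x y : Fin 7 → R) :
    pf21 A (Phi φ (x + y)) 1 2 3 4 5 6 = pf21 A (Phi φ x) 1 2 3 4 5 6 + pf21 A (Phi φ y) 1 2 3 4 5 6 := by
  simp only [pf21, Phi_add]; ring

private theorem l_smul (A : Fin 7 → Fin 7 → R) (t : R) (x : Fin 7 → R) :
    pf21 A (Phi φ (t • x)) 1 2 3 4 5 6 = t * pf21 A (Phi φ x) 1 2 3 4 5 6 := by
  simp only [pf21, Phi_smul]; ring

private theorem n_add (A : Fin 7 → Fin 7 → R) (x x' y : Fin 7 → R) :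
    pf21 (Phi φ (x + x' + y)) A 1 2 3 4 5 6 = pf21 (Phi φ (x + x')) A 1 2 3 4 5 6 + pf21 (Phi φ (x + y)) A 1 2 3 4 5 6 +
      pf21 (Phi φ (x' + y)) A 1 2 3 4 5 6 - pf21 (Phi φ x) A 1 2 3 4 5 6 - pf21 (Phi φ x') A 1 2 3 4 5 6 -
      pf21 (Phi φ y) A 1 2 3 4 5 6 := by
  simp only [pf21, p4_add]; ring

private theorem n_smul (A : Fin 7 → Fin 7 → R) (t : R) (x : Fin 7 → R) :
    pf21 (Phi φ (t • x)) A 1 2 3 4 5 6 = t * t * pf21 (Phi φ x) A 1 2 3 4 5 6 := by
  simp only [pf21, p4_smul]; ring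

private theorem n_pol (A : Fin 7 → Fin 7 → R) (t : R) (x y : Fin 7 → R) :
    pf21 (Phi φ (t • x + y)) A 1 2 3 4 5 6 = t * t * pf21 (Phi φ x) A 1 2 3 4 5 6 + pf21 (Phi φ y) A 1 2 3 4 5 6 +
      t * (pf21 (Phi φ (x + y)) A 1 2 3 4 5 6 - pf21 (Phi φ x) A 1 2 3 4 5 6 - pf21 (Phi φ y) A 1 2 3 4 5 6) := by
  simp only [pf21, p4_pol]; ring

/-- the quadratic form of an alternating function of three indices -/
def qform (φ : Fin 7 → Fin 7 → Fin 7 → R) : QuadraticForm R (Fin 7 → R) :=
  QuadraticMap.ofPolar (qf φ)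
    (fun t x => by
      simp only [qf, l_smul, n_smul, Pi.smul_apply, smul_eq_mul]; ring)
    (fun x x' y => by
      simp only [QuadraticMap.polar, qf, l_add, n_add, Pi.add_apply]; ring)
    (fun t x y => by
      simp only [QuadraticMap.polar, qf, l_add, l_smul, n_smul, n_pol, Pi.add_apply, Pi.smul_apply,
        smul_eq_mul]; ring)

@[simp] theorem qform_apply (x : Fin 7 → R) : qform φ x = qf φ x := rfl

end Cfsg.Agent.H179.G2

private theorem dce_e87ad61a4d8f : _root_.True := by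
  try have : _root_.True := by simp only [_root_.Cfsg.Agent.H179.G2.MM.eq_1]
  try have : _root_.True := by simp only [_root_.Cfsg.Agent.H179.G2.Phi.eq_1]
  try have : _root_.True := by simp only [_root_.Cfsg.Agent.H179.G2.qf.eq_1]
  exact _root_.True.intro
end

-- part: H179/G2H
section
prune_inst 0x4000000000030000000002040204400000000600400000000052000000010000000000100000000000000000000000000000000000000000000000000000000000000000000000000000000000000000000000000
set_option linter.all false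
open scoped Cfsg.Agent.FastGrp

/-!
# Alternating 3-forms in dimension 7: the fundamental identity

For an alternating trilinear form `f` on a space with a basis `e` of seven vectors there is a
quadratic form `Qf e f` with
`pf6 (f x) c₀ ... c₅ = Qf e f x * e.det (x, c₀, ..., c₅)` for all `x` and `c` (`pf6_eq`).
-/

namespace Cfsg.Agent.H179.G2

open Equiv

variable {F V : Type*} [Field F] [AddCommGroup V] [Module F V]

/-- an alternating trilinear form -/
structure IsAltForm (f : V →ₗ[F] V →ₗ[F] V →ₗ[F] F) : Prop where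
  self : ∀ x y, f x x y = 0
  z23 : ∀ x y, f x y y = 0

namespace IsAltForm

variable {f : V →ₗ[F] V →ₗ[F] V →ₗ[F] F}

theorem swap12 (h : IsAltForm f) (x y z : V) : f x y z = - f y x z := by
  have := h.self (x + y) z
  simp only [map_add, LinearMap.add_apply, h.self, zero_add, add_zero] at this
  exact eq_neg_of_add_eq_zero_right this

theorem swap23 (h : IsAltForm f) (x y z : V) : f x y z = - f x z y := by
  have := h.z23 x (y + z)
  simp only [map_add, LinearMap.add_apply, h.z23, zero_add, add_zero] at this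
  exact eq_neg_of_add_eq_zero_right this

theorem z13 (h : IsAltForm f) (x y : V) : f x y x = 0 := by
  rw [h.swap23, h.self, neg_zero]

theorem rot (h : IsAltForm f) (x y z : V) : f x y z = f y z x := by
  rw [h.swap12, h.swap23 y x z, neg_neg]

end IsAltForm

/-- `pf6` of an alternating bilinear form as an alternating map -/
def pfAlt (w : V →ₗ[F] V →ₗ[F] F) (h : ∀ u, w u u = 0) : V [⋀^Fin 6]→ₗ[F] F where
  toFun c := pf6 (fun u v => w u v) (c 0) (c 1) (c 2) (c 3) (c 4) (c 5)
  map_update_add' := by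
    intro inst c i x y
    have : inst = instDecidableEqFin 6 := Subsingleton.elim _ _
    subst this
    (revert i; simp only [Function.update, pf6, pf4, _root_.Fin.forall_fin_succ, Fin.isValue, _root_.eq_rec_constant, _root_.dite_eq_ite, ↓reduceIte, _root_.map_add, _root_.one_ne_zero, _root_.LinearMap.add_apply, Fin.reduceEq, _root_.Fin.succ_zero_eq_one, _root_.zero_ne_one, _root_.Fin.succ_one_eq_two, Fin.reduceSucc, _root_.IsEmpty.forall_iff, _root_.and_true]) <;> (repeat' with_reducible apply And.intro) <;> ring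
  map_update_smul' := by
    intro inst c i t x
    have : inst = instDecidableEqFin 6 := Subsingleton.elim _ _
    subst this
    (revert i; simp only [Function.update, pf6, pf4, _root_.Fin.forall_fin_succ, Fin.isValue, _root_.eq_rec_constant, _root_.dite_eq_ite, _root_.smul_eq_mul, ↓reduceIte, _root_.map_smul, _root_.one_ne_zero, _root_.LinearMap.smul_apply, Fin.reduceEq, _root_.Fin.succ_zero_eq_one, _root_.zero_ne_one, _root_.Fin.succ_one_eq_two, Fin.reduceSucc, _root_.IsEmpty.forall_iff, _root_.and_true]) <;> (repeat' with_reducible apply And.intro) <;> ring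
  map_eq_zero_of_eq' := by
    have hs : ∀ u v, w u v = - w v u := by
      intro u v
      have := h (u + v)
      simp only [map_add, LinearMap.add_apply, h, zero_add, add_zero] at this
      exact eq_neg_of_add_eq_zero_right this
    have key : ∀ (c : Fin 6 → V) (i j : Fin 6), i < j → c i = c j →
        pf6 (fun u v => w u v) (c 0) (c 1) (c 2) (c 3) (c 4) (c 5) = 0 := by
      intro c i j hij hc
      fin_cases i <;> fin_cases j <;> first | exact absurd hij (by decide) | skip
      · have hc' : c 0 = c 1 := hc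
        simp only [hc', pf6, pf4, h]
        ring
      · have hc' : c 0 = c 2 := hc
        simp only [hc', pf6, pf4, h, hs (c 2) (c 1)]
        ring
      · have hc' : c 0 = c 3 := hc
        simp only [hc', pf6, pf4, h, hs (c 3) (c 1), hs (c 3) (c 2)]
        ring
      · have hc' : c 0 = c 4 := hc
        simp only [hc', pf6, pf4, h, hs (c 4) (c 1), hs (c 4) (c 2), hs (c 4) (c 3)]
        ring
      · have hc' : c 0 = c 5 := hc
        simp only [hc', pf6, pf4, h, hs (c 5) (c 1), hs (c 5) (c 2), hs (c 5) (c 3), hs (c 5) (c 4)]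
        ring
      · have hc' : c 1 = c 2 := hc
        simp only [hc', pf6, pf4, h]
        ring
      · have hc' : c 1 = c 3 := hc
        simp only [hc', pf6, pf4, h, hs (c 3) (c 2)]
        ring
      · have hc' : c 1 = c 4 := hc
        simp only [hc', pf6, pf4, h, hs (c 4) (c 2), hs (c 4) (c 3)]
        ring
      · have hc' : c 1 = c 5 := hc
        simp only [hc', pf6, pf4, h, hs (c 5) (c 2), hs (c 5) (c 3), hs (c 5) (c 4)]
        ring
      · have hc' : c 2 = c 3 := hc
        simp only [hc', pf6, pf4, h]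
        ring
      · have hc' : c 2 = c 4 := hc
        simp only [hc', pf6, pf4, h, hs (c 4) (c 3)]
        ring
      · have hc' : c 2 = c 5 := hc
        simp only [hc', pf6, pf4, h, hs (c 5) (c 3), hs (c 5) (c 4)]
        ring
      · have hc' : c 3 = c 4 := hc
        simp only [hc', pf6, pf4, h]
        ring
      · have hc' : c 3 = c 5 := hc
        simp only [hc', pf6, pf4, h, hs (c 5) (c 4)]
        ring
      · have hc' : c 4 = c 5 := hc
        simp only [hc', pf6, pf4, h]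
        ring
    intro c i j hc hij
    rcases lt_or_gt_of_ne hij with h1 | h1
    · exact key c i j h1 hc
    · exact key c j i h1 hc.symm

@[simp] theorem pfAlt_apply (w : V →ₗ[F] V →ₗ[F] F) (h : ∀ u, w u u = 0) (c : Fin 6 → V) :
    pfAlt w h c = pf6 (fun u v => w u v) (c 0) (c 1) (c 2) (c 3) (c 4) (c 5) := rfl

/-- the coordinates of a trilinear form -/
noncomputable def coord (e : Module.Basis (Fin 7) F V) (f : V →ₗ[F] V →ₗ[F] V →ₗ[F] F) (i j k : Fin 7) : F :=
  f (e i) (e j) (e k)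

theorem coord_isAlt (e : Module.Basis (Fin 7) F V) {f : V →ₗ[F] V →ₗ[F] V →ₗ[F] F}
    (h : IsAltForm f) : IsAlt (coord e f) :=
  ⟨fun _ _ => h.self _ _, fun _ _ => h.z23 _ _, fun _ _ _ => h.swap12 _ _ _,
    fun _ _ _ => h.swap23 _ _ _⟩

/-- the quadratic form of an alternating 3-form -/
noncomputable def Qf (e : Module.Basis (Fin 7) F V) (f : V →ₗ[F] V →ₗ[F] V →ₗ[F] F) : QuadraticForm F V :=
  (qform (coord e f)).comp (e.equivFun : V →ₗ[F] (Fin 7 → F))

theorem Qf_apply (e : Module.Basis (Fin 7) F V) (f : V →ₗ[F] V →ₗ[F] V →ₗ[F] F) (x : V) :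
    Qf e f x = qf (coord e f) (e.repr x) := rfl

theorem MM_coord (e : Module.Basis (Fin 7) F V) (f : V →ₗ[F] V →ₗ[F] V →ₗ[F] F) (x : V)
    (i j : Fin 7) : MM (coord e f) (e.repr x) i j = f x (e i) (e j) := by
  have : f x = ∑ l, e.repr x l • f (e l) := by
    conv_lhs => rw [← e.sum_repr x]
    simp only [map_sum, map_smul]
  rw [this]
  simp only [MM, coord, LinearMap.sum_apply, _root_.LinearMap.smul_apply, _root_.smul_eq_mul]

theorem det_cons (e : Module.Basis (Fin 7) F V) (x : V) (k : Fin 7) :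
    e.det (Matrix.vecCons x (e ∘ k.succAbove)) = (-1) ^ (k : ℕ) * e.repr x k := by
  have h1 : e.det (Matrix.vecCons x (e ∘ k.succAbove)) =
      (e.det.curryLeft x) (e ∘ k.succAbove) := (AlternatingMap.curryLeft_apply_apply _ _ _).symm
  let L : V →ₗ[F] F :=
    { toFun := fun y => e.det.curryLeft y (e ∘ k.succAbove)
      map_add' := fun a b => by rw [map_add, AlternatingMap.add_apply]
      map_smul' := fun a b => by rw [map_smul, AlternatingMap.smul_apply, RingHom.id_apply] }
  have h0 : e.det.curryLeft x (e ∘ k.succAbove) =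
      ∑ l, e.repr x l * e.det.curryLeft (e l) (e ∘ k.succAbove) := by
    change L x = ∑ l, e.repr x l * L (e l)
    conv_lhs => rw [← e.sum_repr x]
    simp only [map_sum, map_smul, smul_eq_mul]
  rw [h1, h0, Finset.sum_eq_single k]
  · have h2 : (e.det.curryLeft (e k)) (e ∘ k.succAbove) = e.det (e ∘ (k.cycleRange.symm)) := by
      rw [AlternatingMap.curryLeft_apply_apply]
      congr 1
      funext i
      refine Fin.cases ?_ (fun j => ?_) i
      · simp
      · simp
    rw [h2, AlternatingMap.map_perm, e.det_self]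
    simp only [mul_comm, Units.smul_def, _root_.Equiv.Perm.sign_symm, _root_.Fin.sign_cycleRange, _root_.Units.val_pow_eq_pow_val, _root_.Units.val_neg, _root_.Units.val_one, _root_.Int.reduceNeg, _root_.zsmul_eq_mul, _root_.Int.cast_pow, _root_.Int.cast_neg, _root_.Int.cast_one, _root_.one_mul]
  · intro i _ hik
    obtain ⟨j, rfl⟩ := Fin.exists_succAbove_eq hik
    have : (e.det.curryLeft (e (k.succAbove j))) (e ∘ k.succAbove) = 0 := by
      rw [AlternatingMap.curryLeft_apply_apply]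
      refine e.det.map_eq_zero_of_eq (i := 0) (j := j.succ) _ ?_ (Fin.succ_ne_zero j).symm
      simp
    rw [this, mul_zero]
  · intro h; exact absurd (Finset.mem_univ k) h

theorem exists_perm {v : Fin 6 → Fin 7} (hv : Function.Injective v) :
    ∃ (k : Fin 7) (s : Perm (Fin 6)), v = k.succAbove ∘ s := by
  have hns : ¬ Function.Surjective v := by
    intro hs
    have := Fintype.card_le_of_surjective v hs
    simp at this
  simp only [Function.Surjective, not_forall, not_exists] at hns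
  obtain ⟨k, hk⟩ := hns
  choose g hg using fun i => Fin.exists_succAbove_eq (hk i)
  have hinj : Function.Injective g := by
    intro a b hab
    apply hv
    rw [← hg a, ← hg b, hab]
  refine ⟨k, Equiv.ofBijective g (Finite.injective_iff_bijective.1 hinj), ?_⟩
  funext i
  simp [hg]

/-- **the fundamental identity** -/
theorem pf6_eq (e : Module.Basis (Fin 7) F V) {f : V →ₗ[F] V →ₗ[F] V →ₗ[F] F}
    (h : IsAltForm f) (x : V) (c : Fin 6 → V) :
    pf6 (fun u v => f x u v) (c 0) (c 1) (c 2) (c 3) (c 4) (c 5) =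
      Qf e f x * e.det (Matrix.vecCons x c) := by
  have key : pfAlt (f x) (h.z23 x) = Qf e f x • e.det.curryLeft x := by
    refine Module.Basis.ext_alternating e ?_
    intro v hv
    obtain ⟨k, s, rfl⟩ := exists_perm hv
    have e1 : (fun i => e ((k.succAbove ∘ s) i)) = (e ∘ k.succAbove) ∘ s := rfl
    rw [e1, AlternatingMap.map_perm, AlternatingMap.map_perm]
    congr 1
    rw [AlternatingMap.smul_apply, AlternatingMap.curryLeft_apply_apply, det_cons, pfAlt_apply,
      Qf_apply, smul_eq_mul]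
    have := pf6_omit (coord_isAlt e h) (e.repr x) k
    simp only [pf6, pf4, MM_coord] at this
    simp only [pf6, pf4, Function.comp_apply]
    rw [this]; ring
  have := congrArg (fun g => g c) key
  simpa using this

end Cfsg.Agent.H179.G2

private theorem dce_6cd6c8ca2a0d : _root_.True := by
  try have : _root_.True := by simp only [_root_.Cfsg.Agent.H179.G2.coord.eq_1]
  try have : _root_.True := by simp only [_root_.Cfsg.Agent.H179.G2.pfAlt.congr_simp]
  exact _root_.True.intro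
end

-- part: H856/Tri
section
prune_inst 0x40000000000010000000004000010000004000004003020a00000000000000001010000018049000000040000001000028000020000400000000000084180034240200080006002000000000000000000000000000000000000004000000000
set_option linter.all false
open scoped Cfsg.Agent.FastGrp

/-!
# Alternating 3-forms: constructions (helper856)

* `mk3` : a trilinear form from a function;
* `ofTable` : `∑ T a b c · φ a x · φ b y · φ c z`;
* `descend` : an invariant form over an extension field gives one over the ground field.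
-/

set_option autoImplicit false
set_option linter.unusedSectionVars false

namespace Cfsg.Agent.H856.Tri

open Cfsg.Agent.H179.G2

section mk3

variable {F : Type*} [Field F] {V : Type*} [AddCommGroup V] [Module F V]

/-- a trilinear form from a function -/
def mk3 (f : V → V → V → F) (a1 : ∀ x x' y z, f (x + x') y z = f x y z + f x' y z)
    (s1 : ∀ (c : F) x y z, f (c • x) y z = c * f x y z)
    (a2 : ∀ x y y' z, f x (y + y') z = f x y z + f x y' z)
    (s2 : ∀ (c : F) x y z, f x (c • y) z = c * f x y z)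
    (a3 : ∀ x y z z', f x y (z + z') = f x y z + f x y z')
    (s3 : ∀ (c : F) x y z, f x y (c • z) = c * f x y z) : V →ₗ[F] V →ₗ[F] V →ₗ[F] F :=
  LinearMap.mk₂ F (fun x y => ({ toFun := fun z => f x y z
                                 map_add' := fun z z' => a3 x y z z'
                                 map_smul' := fun c z => s3 c x y z } : V →ₗ[F] F))
    (fun x x' y => LinearMap.ext fun z => a1 x x' y z)
    (fun c x y => LinearMap.ext fun z => s1 c x y z)
    (fun x y y' => LinearMap.ext fun z => a2 x y y' z)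
    (fun c x y => LinearMap.ext fun z => s2 c x y z)

@[simp] theorem mk3_apply (f : V → V → V → F) (a1 s1 a2 s2 a3 s3) (x y z : V) :
    mk3 f a1 s1 a2 s2 a3 s3 x y z = f x y z := rfl

variable {X : Type*} [Fintype X]

/-- the form of a table -/
def ofTable (T : X → X → X → F) (φ : X → V →ₗ[F] F) : V →ₗ[F] V →ₗ[F] V →ₗ[F] F :=
  mk3 (fun x y z => ∑ a, ∑ b, ∑ c, T a b c * (φ a x * φ b y * φ c z))
    (fun x x' y z => by
      simp only [map_add, ← Finset.sum_add_distrib]
      exact Finset.sum_congr rfl fun a _ => Finset.sum_congr rfl fun b _ => Finset.sum_congr rfl fun c _ => by ring)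
    (fun r x y z => by
      simp only [map_smul, smul_eq_mul, Finset.mul_sum]
      exact Finset.sum_congr rfl fun a _ => Finset.sum_congr rfl fun b _ => Finset.sum_congr rfl fun c _ => by ring)
    (fun x y y' z => by
      simp only [map_add, ← Finset.sum_add_distrib]
      exact Finset.sum_congr rfl fun a _ => Finset.sum_congr rfl fun b _ => Finset.sum_congr rfl fun c _ => by ring)
    (fun r x y z => by
      simp only [map_smul, smul_eq_mul, Finset.mul_sum]
      exact Finset.sum_congr rfl fun a _ => Finset.sum_congr rfl fun b _ => Finset.sum_congr rfl fun c _ => by ring)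
    (fun x y z z' => by
      simp only [map_add, ← Finset.sum_add_distrib]
      exact Finset.sum_congr rfl fun a _ => Finset.sum_congr rfl fun b _ => Finset.sum_congr rfl fun c _ => by ring)
    (fun r x y z => by
      simp only [map_smul, smul_eq_mul, Finset.mul_sum]
      exact Finset.sum_congr rfl fun a _ => Finset.sum_congr rfl fun b _ => Finset.sum_congr rfl fun c _ => by ring)

theorem ofTable_apply (T : X → X → X → F) (φ : X → V →ₗ[F] F) (x y z : V) :
    ofTable T φ x y z = ∑ a, ∑ b, ∑ c, T a b c * (φ a x * φ b y * φ c z) := rfl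

theorem ofTable_isAlt (h2 : (2 : F) ≠ 0) {T : X → X → X → F} (φ : X → V →ₗ[F] F)
    (h12 : ∀ a b c, T b a c = - T a b c) (h23 : ∀ a b c, T a c b = - T a b c) : IsAltForm (ofTable T φ) where
  self x y := by
    have h : ofTable T φ x x y = - ofTable T φ x x y := by
      conv_lhs => rw [ofTable_apply, Finset.sum_comm]
      rw [ofTable_apply]
      simp only [← Finset.sum_neg_distrib]
      exact Finset.sum_congr rfl fun a _ => Finset.sum_congr rfl fun b _ => Finset.sum_congr rfl fun c _ => by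
        rw [h12]; ring
    have h3 : 2 * ofTable T φ x x y = 0 := by linear_combination h
    exact (mul_eq_zero.1 h3).resolve_left h2
  z23 x y := by
    have h : ofTable T φ x y y = - ofTable T φ x y y := by
      conv_lhs => rw [ofTable_apply]
      rw [ofTable_apply]
      simp only [← Finset.sum_neg_distrib]
      refine Finset.sum_congr rfl fun a _ => ?_
      rw [Finset.sum_comm]
      exact Finset.sum_congr rfl fun b _ => Finset.sum_congr rfl fun c _ => by
        rw [h23]; ring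
    have h3 : 2 * ofTable T φ x y y = 0 := by linear_combination h
    exact (mul_eq_zero.1 h3).resolve_left h2

/-- invariance -/
theorem ofTable_inv {T : X → X → X → F} {φ : X → V →ₗ[F] F} {g : V →ₗ[F] V} (σ : X ≃ X) (ε : X → F)
    (hφ : ∀ a x, φ a (g x) = ε a * φ (σ a) x)
    (hT : ∀ a b c, ε a * ε b * ε c * T a b c = T (σ a) (σ b) (σ c)) (x y z : V) :
    ofTable T φ (g x) (g y) (g z) = ofTable T φ x y z := by
  rw [ofTable_apply, ofTable_apply]
  conv_rhs => rw [← Equiv.sum_comp σ]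
  refine Finset.sum_congr rfl fun a _ => ?_
  conv_rhs => rw [← Equiv.sum_comp σ]
  refine Finset.sum_congr rfl fun b _ => ?_
  conv_rhs => rw [← Equiv.sum_comp σ]
  refine Finset.sum_congr rfl fun c _ => ?_
  rw [hφ, hφ, hφ, ← hT]
  ring

end mk3

section descend

variable {F : Type*} [Field F] {k : Type*} [Field k] [Algebra F k] {V : Type*} [AddCommGroup V] [Module F V]
  {W : Type*} [AddCommGroup W] [Module k W] [Module F W] [IsScalarTower F k W]

/-- an invariant form over an extension gives one over the ground field -/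
theorem descend {f : W →ₗ[k] W →ₗ[k] W →ₗ[k] k} (hf : IsAltForm f) (hf0 : f ≠ 0) (c : V →ₗ[F] W)
    (hc : Submodule.span k (Set.range c) = ⊤) :
    ∃ f' : V →ₗ[F] V →ₗ[F] V →ₗ[F] F, IsAltForm f' ∧ f' ≠ 0 ∧
      ∀ x y z x' y' z' : V, f (c x) (c y) (c z) = f (c x') (c y') (c z') → f' x y z = f' x' y' z' := by
  -- a nonzero value on the image
  obtain ⟨x, y, z, hxyz⟩ : ∃ x y z, f (c x) (c y) (c z) ≠ 0 := by
    by_contra hcon
    push Not at hcon
    apply hf0
    have h1 : ∀ x y (z : W), f (c x) (c y) z = 0 := by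
      intro x y z
      have hz : z ∈ Submodule.span k (Set.range c) := by rw [hc]; trivial
      induction hz using Submodule.span_induction with
      | mem z hz => obtain ⟨z, rfl⟩ := hz; exact hcon x y z
      | zero => rw [map_zero]
      | add a b _ _ ha hb => rw [map_add, ha, hb, add_zero]
      | smul r a _ ha => rw [map_smul, ha, smul_zero]
    have h2 : ∀ x (y z : W), f (c x) y z = 0 := by
      intro x y z
      have hy : y ∈ Submodule.span k (Set.range c) := by rw [hc]; trivial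
      induction hy using Submodule.span_induction with
      | mem y hy => obtain ⟨y, rfl⟩ := hy; exact h1 x y z
      | zero => rw [map_zero, LinearMap.zero_apply]
      | add a b _ _ ha hb => rw [map_add, LinearMap.add_apply, ha, hb, add_zero]
      | smul r a _ ha => rw [map_smul, LinearMap.smul_apply, ha, smul_zero]
    ext x y z
    have hx : x ∈ Submodule.span k (Set.range c) := by rw [hc]; trivial
    induction hx using Submodule.span_induction with
    | mem x hx => obtain ⟨x, rfl⟩ := hx; exact h2 x y z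
    | zero => simp
    | add a b _ _ ha hb =>
      rw [map_add, LinearMap.add_apply, LinearMap.add_apply, ha, hb]
      simp
    | smul r a _ ha =>
      rw [map_smul, LinearMap.smul_apply, LinearMap.smul_apply, ha]
      simp
  obtain ⟨l, hl⟩ : ∃ l : k →ₗ[F] F, l (f (c x) (c y) (c z)) ≠ 0 := by
    by_contra hcon
    push Not at hcon
    exact hxyz ((Module.forall_dual_apply_eq_zero_iff F _).1 hcon)
  have hs : ∀ (a : F) (w : W), a • w = algebraMap F k a • w := fun a w => (algebraMap_smul k a w).symm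
  have hl' : ∀ (a : F) (w : k), l (algebraMap F k a * w) = a * l w := by
    intro a w
    rw [← Algebra.smul_def, map_smul, smul_eq_mul]
  refine ⟨mk3 (fun x y z => l (f (c x) (c y) (c z))) ?_ ?_ ?_ ?_ ?_ ?_, ⟨?_, ?_⟩, ?_, ?_⟩
  · intro x x' y z
    rw [map_add, map_add, LinearMap.add_apply, LinearMap.add_apply, map_add]
  · intro a x y z
    rw [map_smul, hs, map_smul, LinearMap.smul_apply, LinearMap.smul_apply, smul_eq_mul, hl']
  · intro x y y' z
    rw [map_add, map_add, LinearMap.add_apply, map_add]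
  · intro a x y z
    rw [map_smul, hs, map_smul, LinearMap.smul_apply, smul_eq_mul, hl']
  · intro x y z z'
    rw [map_add, map_add, map_add]
  · intro a x y z
    rw [map_smul, hs, map_smul, smul_eq_mul, hl']
  · intro x y
    rw [mk3_apply, hf.self, map_zero]
  · intro x y
    rw [mk3_apply, hf.z23, map_zero]
  · intro h
    apply hl
    have h1 := congrArg (fun g : V →ₗ[F] V →ₗ[F] V →ₗ[F] F => g x y z) h
    simpa using h1
  · intro x y z x' y' z' h
    rw [mk3_apply, mk3_apply, h]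

end descend

end Cfsg.Agent.H856.Tri

private theorem dce_0c3cb8439e7c : _root_.True := by
  try have : _root_.True := by simp only [_root_.Cfsg.Agent.H856.Tri.mk3.congr_simp]
  exact _root_.True.intro
end
end
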