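import Cfsg.Agent.UThreeGen.Recog
import Cfsg.Agent.H906.U3Def
import Cfsg.Agent.H659.SevenU42_m3
import Cfsg.Agent.H856.Tri
import Mathlib
import Cfsg.Agent.H464.L2Num_m3
import Cfsg.Agent.H464.L2StageOne_m3
import Cfsg.Agent.H906.Cover_m3
import Cfsg.Agent.H95.StemCover
import Cfsg.Agent.S2089
import Cfsg.Agent.LieClassical.FieldTransfer
import Cfsg.Agent.Lib.Refl
import Cfsg.Agent.H179.G2Std_m3
import Cfsg.Agent.H925.OrthBasic
import Cfsg.Agent.H922.OddBase
import Cfsg.Agent.H856.Sx1_m3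
import Cfsg.Agent.SporadicB.J1.Main
import Cfsg.Agent.H882.Del.Stein
import Cfsg.Agent.H1.TJ1
import Cfsg.Agent.H879.Nine.Ctx_m3
import Cfsg.Agent.H48.SporSeven
import Cfsg.Agent.H871.Par8
import Cfsg.Agent.H936.List12c
import Cfsg.Agent.H937.T2Rep_m3
import Cfsg.Agent.H637.SevenA8_m3
import Cfsg.Agent.H614.AMod.Main
import Cfsg.Agent.H814.SzEightCore
import Cfsg.Agent.H916.T8
import Cfsg.Agent.H875.TwoQuad
import Cfsg.Agent.H392.TD.Main
import Cfsg.Agent.H925.U52Form
import Cfsg.Agent.H905.Sp4Final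
import Cfsg.Agent.H876.D3.FourFive
import Cfsg.Agent.H879.Nine.RowPSL
import Cfsg.Agent.H141.ReeK.Main
import Cfsg.Agent.H922.OmKill
import Cfsg.Agent.H927.G2Main
import Cfsg.Agent.H4.JT.Two
import Cfsg.Agent.H638.G2Iso
import Cfsg.Agent.H161.G2Emb
import Cfsg.Agent.H933.O10.Base_m3
import Cfsg.Agent.FastGrp
import Cfsg.Agent.Prune
set_option linter.all false

section
prune_inst 0x7ffeadf9ebb839dfdfff7e7fa6dccffc3b911fffa4dff94bffe061ff2b9f330209c56b8d09e012fe1e96421410a87843fffffeffe06ffc7ffffdfff41ffbee4fe5f73508519c88b40fbc0ff703f0778a7f3fffffffffffffffffffffffffffbeffbfffffffff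

-- part: H856/U33f
section
prune_inst 0x1000000080000000000008021001c428200042200080000008000000480084000000820200000100000000500300000000000800000000000000000011800800000000000000000000080000080000000000000000000000000000000000000000000000
set_option linter.all false
open scoped Cfsg.Agent.FastGrp

-- part: H856/U33a
section
/-!
# The field with nine elements and the alternating function of triples of isotropic vectors
-/

set_option autoImplicit false

namespace Cfsg.Agent.H856.U33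

open Cfsg.Agent.UThreeGen.MatGroup Matrix

/-- the field with nine elements -/
abbrev K9 : Type := QuadraticAlgebra (ZMod 3) 2 0

instance fact9 : Fact (∀ r : ZMod 3, r ^ 2 ≠ 2 + 0 * r) := ⟨by decide⟩

instance : Fintype K9 := Fintype.ofEquiv _ (QuadraticAlgebra.equivProd (R := ZMod 3) 2 0).symm

theorem forall9 {p : K9 → Prop} (h : ∀ a b : ZMod 3, p ⟨a, b⟩) : ∀ x, p x := fun x => h x.re x.im

/-- conjugation -/
def s9 : K9 →+* K9 where
  toFun x := ⟨x.re, -x.im⟩
  map_one' := by decide +kernel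
  map_mul' := by
    apply forall9; intro a b; apply forall9; revert a b; decide +kernel
  map_zero' := by decide +kernel
  map_add' := by
    apply forall9; intro a b; apply forall9; revert a b; decide +kernel

theorem s9_pow (x : K9) : s9 x = x ^ 3 := by
  revert x; apply forall9; decide +kernel

instance : Fact (∀ x, s9 (s9 x) = x) := ⟨by apply forall9; decide +kernel⟩

theorem card9 : Fintype.card K9 = 9 := by
  rw [Fintype.card_congr (QuadraticAlgebra.equivProd (R := ZMod 3) 2 0)]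
  rfl

/-- signs -/
def ss (a : ZMod 3) : ℤ := if a = 0 then 0 else if a = 1 then 1 else -1

/-- the quadratic character -/
def ch (x : K9) : ℤ := if x = 0 then 0 else if x ^ 4 = 1 then 1 else -1

/-- the quadratic character, with value one at zero -/
def chh (x : K9) : ℤ := if x = 0 then 1 else ch x

/-- the odd function -/
def J (x : K9) : ℤ := if x.re = 0 then 2 * ss x.im else ss x.re * ss x.im

theorem ch_mul : ∀ x y : K9, ch (x * y) = ch x * ch y := by
  apply forall9; intro a b; apply forall9; revert a b; decide +kernel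

theorem ch_neg : ∀ x : K9, ch (-x) = ch x := by
  apply forall9; decide +kernel

theorem chh_neg : ∀ x : K9, chh (-x) = chh x := by
  apply forall9; decide +kernel

theorem ch_s9 : ∀ x : K9, ch (s9 x) = ch x := by
  apply forall9; decide +kernel

theorem ch_sq : ∀ x : K9, x ≠ 0 → ch x * ch x = 1 := by
  apply forall9; decide +kernel

theorem J_s9 : ∀ x : K9, J (s9 x) = - J x := by
  apply forall9; decide +kernel

theorem J_zero : J 0 = 0 := by decide +kernel

theorem homog : ∀ t d α : K9, t ≠ 0 → α + s9 α = d * s9 d →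
    chh (t * d) * J (t * s9 t * α) = ch t * (chh d * J α) := by
  apply forall9; intro a b; apply forall9; intro c d; apply forall9; revert a b c d; (set_option synthInstance.maxSize 100000 in exact Cfsg.Agent.Lib.Refl.of (by decide +kernel))

/-! ### The group of order 27 -/

/-- the pairs -/
def hgE : HG s9 ≃ {p : K9 × K9 // p.2 + s9 p.2 = p.1 * s9 p.1} where
  toFun x := ⟨(x.a, x.b), x.h⟩
  invFun p := ⟨p.1.1, p.1.2, p.2⟩
  left_inv _ := rfl
  right_inv _ := rfl

instance : Fintype (HG s9) := Fintype.ofEquiv _ hgE.symm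

theorem card_hg : Fintype.card (HG s9) = 27 := by
  rw [Fintype.card_congr hgE]
  decide +kernel

theorem sum_hg (f : K9 → K9 → ℤ) : ∑ x : HG s9, f x.a x.b =
    ∑ a : K9, ∑ b : K9, if b + s9 b = a * s9 a then f a b else 0 := by
  rw [← Equiv.sum_comp hgE.symm, ← Fintype.sum_prod_type']
  have h1 : ∀ p : {p : K9 × K9 // p.2 + s9 p.2 = p.1 * s9 p.1}, f (hgE.symm p).a (hgE.symm p).b =
    (fun p : K9 × K9 => f p.1 p.2) p.1 := fun _ => rfl
  rw [Finset.sum_congr rfl fun p _ => h1 p, ← Finset.sum_filter]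
  exact (Finset.sum_subtype _ (by simp) (fun p : K9 × K9 => f p.1 p.2)).symm

theorem sum_ch : ∑ x : HG s9, ch x.b = -6 := by
  rw [sum_hg (fun _ b => ch b)]
  decide +kernel

/-- the values of the alternating function on `e, n e, u n e` -/
def T0 (a b : K9) : ℤ := - (chh a * J b)

theorem sum_T0 : ∑ x : HG s9, T0 x.a x.b = 0 := by
  rw [sum_hg T0]
  decide +kernel

theorem eigen_aux : ∀ c d : K9, d + s9 d = c * s9 c → (∑ a : K9, ∑ b : K9,
    if b + s9 b = a * s9 a then T0 a b * ch (s9 b + d + -a * s9 c) else 0) = -9 * T0 c d := by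
  have e : ∀ x : K9, ch x = ss (x.re * x.re + x.im * x.im) := by apply forall9; decide +kernel
  simp only [e]
  apply forall9; intro a b; apply forall9; revert a b; (set_option synthInstance.maxSize 100000 in exact Cfsg.Agent.Lib.Refl.of (by decide +kernel))

theorem eigen (y : HG s9) : ∑ x : HG s9, T0 x.a x.b * ch (x⁻¹ * y).b = -9 * T0 y.a y.b := by
  rw [← eigen_aux y.a y.b y.h, ← sum_hg (fun a b => T0 a b * ch (s9 b + y.b + -a * s9 y.a))]
  rfl

end Cfsg.Agent.H856.U33
end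

-- part: H856/U33b
section
/-!
# The alternating function of triples of elements of `SU₃(3)`
-/

set_option autoImplicit false

namespace Cfsg.Agent.H856.U33

open Cfsg.Agent.UThreeGen.MatGroup Cfsg.Agent.LieRecognition.RankOneAbstract Matrix

/-- the hermitian form -/
def form (x y : Fin 3 → K9) : K9 := x 0 * s9 (y 2) - x 1 * s9 (y 1) + x 2 * s9 (y 0)

/-- the determinant -/
def dt (x y z : Fin 3 → K9) : K9 :=
  x 0 * (y 1 * z 2 - y 2 * z 1) - x 1 * (y 0 * z 2 - y 2 * z 0) + x 2 * (y 0 * z 1 - y 1 * z 0)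

theorem s9s9 (x : K9) : s9 (s9 x) = x := sig x

theorem s9_form (x y : Fin 3 → K9) : s9 (form x y) = form y x := by
  simp only [form, map_add, map_sub, map_mul, s9s9]; ring

/-- the alternating function -/
def TT (x y z : Fin 3 → K9) : ℤ := chh (dt x y z) * J (form x y * form y z * form z x)

theorem TT12 (x y z : Fin 3 → K9) : TT y x z = - TT x y z := by
  have h1 : dt y x z = - dt x y z := by simp only [dt]; ring
  have h2 : form y x * form x z * form z y = s9 (form x y * form y z * form z x) := by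
    rw [map_mul, map_mul, s9_form, s9_form, s9_form]; ring
  rw [TT, TT, h1, h2, chh_neg, J_s9, mul_neg]

theorem TT23 (x y z : Fin 3 → K9) : TT x z y = - TT x y z := by
  have h1 : dt x z y = - dt x y z := by simp only [dt]; ring
  have h2 : form x z * form z y * form y x = s9 (form x y * form y z * form z x) := by
    rw [map_mul, map_mul, s9_form, s9_form, s9_form]; ring
  rw [TT, TT, h1, h2, chh_neg, J_s9, mul_neg]

theorem gram {x y z : Fin 3 → K9} (hx : form x x = 0) (hy : form y y = 0) (hz : form z z = 0) :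
    form x y * form y z * form z x + s9 (form x y * form y z * form z x) = dt x y z * s9 (dt x y z) := by
  rw [map_mul, map_mul, s9_form, s9_form, s9_form]
  have h : dt x y z * s9 (dt x y z) = form x x * form y y * form z z + form x y * form y z * form z x +
      form y x * form z y * form x z - form x x * form y z * form z y - form y y * form x z * form z x -
      form z z * form x y * form y x := by
    simp only [dt, form, map_add, map_sub, map_mul]
    ring
  rw [h, hx, hy, hz]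
  ring

theorem TT_smul {x y z : Fin 3 → K9} (hx : form x x = 0) (hy : form y y = 0) (hz : form z z = 0) {t : K9}
    (ht : t ≠ 0) : TT (t • x) y z = ch t * TT x y z := by
  have h1 : dt (t • x) y z = t * dt x y z := by simp only [dt, Pi.smul_apply, smul_eq_mul]; ring
  have h2 : form (t • x) y * form y z * form z (t • x) = t * s9 t * (form x y * form y z * form z x) := by
    simp only [form, Pi.smul_apply, smul_eq_mul, map_mul]; ring
  rw [TT, TT, h1, h2, homog t _ _ ht (gram hx hy hz)]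

/-- the first column -/
def col (g : SUG s9) : Fin 3 → K9 := fun i => g.1.1 i 0

theorem col_iso (g : SUG s9) : form (col g) (col g) = 0 := by
  have h := entry_of_mem_SUG g.2 0 0
  have h2 : Gm K9 0 0 = 0 := rfl
  rw [h2] at h
  exact h

theorem form_mul (k : SUG s9) (x y : Fin 3 → K9) : form (k.1.1 *ᵥ x) (k.1.1 *ᵥ y) = form x y := by
  have e := entry_of_mem_SUG k.2
  have e00 := e 0 0
  have e01 := e 0 1
  have e02 := e 0 2
  have e10 := e 1 0
  have e11 := e 1 1
  have e12 := e 1 2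
  have e20 := e 2 0
  have e21 := e 2 1
  have e22 := e 2 2
  simp only [Gm, _root_.Fin.isValue, _root_.Cfsg.Agent.UThreeGen.MatGroup.Gm, _root_.Matrix.of_apply, _root_.Matrix.cons_val', _root_.Matrix.cons_val_zero, _root_.Matrix.cons_val_fin_one, _root_.Matrix.cons_val_one, _root_.Matrix.cons_val] at e00 e01 e02 e10 e11 e12 e20 e21 e22
  simp only [form, Matrix.mulVec, dotProduct, Fin.sum_univ_three, map_add, map_mul]
  linear_combination x 0 * s9 (y 0) * e00 + x 0 * s9 (y 1) * e01 + x 0 * s9 (y 2) * e02 +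
    x 1 * s9 (y 0) * e10 + x 1 * s9 (y 1) * e11 + x 1 * s9 (y 2) * e12 +
    x 2 * s9 (y 0) * e20 + x 2 * s9 (y 1) * e21 + x 2 * s9 (y 2) * e22

theorem dt_mul (k : SUG s9) (x y z : Fin 3 → K9) : dt (k.1.1 *ᵥ x) (k.1.1 *ᵥ y) (k.1.1 *ᵥ z) = dt x y z := by
  have hd : k.1.1.det = 1 := k.1.2
  rw [Matrix.det_fin_three] at hd
  simp only [dt, Matrix.mulVec, dotProduct, Fin.sum_univ_three]
  linear_combination (x 0 * (y 1 * z 2 - y 2 * z 1) - x 1 * (y 0 * z 2 - y 2 * z 0) +
    x 2 * (y 0 * z 1 - y 1 * z 0)) * hd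

theorem col_mul (k g : SUG s9) : col (k * g) = k.1.1 *ᵥ col g := by
  funext i
  show (k * g).1.1 i 0 = _
  rw [coe_mul_SUG, Matrix.mul_apply]
  rfl

/-- the alternating function on triples of group elements -/
def T3 (g₁ g₂ g₃ : SUG s9) : ℤ := TT (col g₁) (col g₂) (col g₃)

theorem T3_left (k g₁ g₂ g₃ : SUG s9) : T3 (k * g₁) (k * g₂) (k * g₃) = T3 g₁ g₂ g₃ := by
  rw [T3, T3, col_mul, col_mul, col_mul, TT, TT, form_mul, form_mul, form_mul, dt_mul]

theorem T3_12 (g₁ g₂ g₃ : SUG s9) : T3 g₂ g₁ g₃ = - T3 g₁ g₂ g₃ := TT12 _ _ _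

theorem T3_23 (g₁ g₂ g₃ : SUG s9) : T3 g₁ g₃ g₂ = - T3 g₁ g₂ g₃ := TT23 _ _ _

theorem col_borel {b : SUG s9} (hb : b ∈ _root_.Cfsg.Agent.UThreeGen.MatGroup.borel s9) (g : SUG s9) : col (g * b) = b.1.1 0 0 • col g := by
  funext i
  show (g * b).1.1 i 0 = b.1.1 0 0 * g.1.1 i 0
  rw [coe_mul_SUG, Matrix.mul_apply, Fin.sum_univ_three, hb.1, hb.2]
  ring

theorem borel_ne {b : SUG s9} (hb : b ∈ _root_.Cfsg.Agent.UThreeGen.MatGroup.borel s9) : b.1.1 0 0 ≠ 0 := by
  intro h0
  have hdet : b.1.1.det = 1 := b.1.2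
  rw [Matrix.det_fin_three, hb.1, hb.2, h0] at hdet
  simp at hdet

theorem T3_b1 {b : SUG s9} (hb : b ∈ _root_.Cfsg.Agent.UThreeGen.MatGroup.borel s9) (g₁ g₂ g₃ : SUG s9) :
    T3 (g₁ * b) g₂ g₃ = ch (b.1.1 0 0) * T3 g₁ g₂ g₃ := by
  rw [T3, col_borel hb, TT_smul (col_iso _) (col_iso _) (col_iso _) (borel_ne hb)]
  rfl

theorem T3_b2 {b : SUG s9} (hb : b ∈ _root_.Cfsg.Agent.UThreeGen.MatGroup.borel s9) (g₁ g₂ g₃ : SUG s9) :
    T3 g₁ (g₂ * b) g₃ = ch (b.1.1 0 0) * T3 g₁ g₂ g₃ := by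
  rw [T3_12, T3_b1 hb, T3_12]; ring

theorem T3_b3 {b : SUG s9} (hb : b ∈ _root_.Cfsg.Agent.UThreeGen.MatGroup.borel s9) (g₁ g₂ g₃ : SUG s9) :
    T3 g₁ g₂ (g₃ * b) = ch (b.1.1 0 0) * T3 g₁ g₂ g₃ := by
  rw [T3_23, T3_b2 hb, T3_23]; ring

theorem T3_bb {b : SUG s9} (hb : b ∈ _root_.Cfsg.Agent.UThreeGen.MatGroup.borel s9) (g : SUG s9) : T3 1 b g = 0 := by
  have h1 : col b = b.1.1 0 0 • col 1 := by
    have := col_borel hb 1
    rwa [one_mul] at this
  have h2 : form (col 1) (col b) = 0 := by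
    have h3 : form (col 1) (b.1.1 0 0 • col 1) = s9 (b.1.1 0 0) * form (col 1) (col 1) := by
      simp only [form, Pi.smul_apply, smul_eq_mul, map_mul]; ring
    rw [h1, h3, col_iso, mul_zero]
  rw [T3, TT, h2, zero_mul, zero_mul, J_zero, mul_zero]

theorem col_one : col 1 = ![1, 0, 0] := by
  funext i
  fin_cases i <;> rfl

theorem col_wel : col (wel s9) = ![0, 0, -1] := by
  funext i
  fin_cases i <;> rfl

theorem col_emb_wel (x : HG s9) : col (emb s9 x * wel s9) = ![-x.b, -s9 x.a, -1] := by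
  rw [col_mul, col_wel, emb_val]
  funext i
  (revert i; simp only [umat, Matrix.mulVec, dotProduct, Fin.sum_univ_three, _root_.Fin.forall_fin_succ, _root_.Matrix.of_apply, _root_.Matrix.cons_val', _root_.Matrix.cons_val_fin_one, _root_.Nat.succ_eq_add_one, Nat.reduceAdd, Fin.isValue, _root_.Matrix.cons_val_zero, _root_.MulZeroClass.mul_zero, _root_.Matrix.cons_val_one, _root_.add_zero, _root_.Matrix.cons_val, _root_.mul_neg, _root_.mul_one, _root_.zero_add, _root_.Matrix.cons_val_succ, _root_.implies_true, _root_.and_self])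

theorem T3_emb (x : HG s9) : T3 1 (wel s9) (emb s9 x * wel s9) = T0 x.a x.b := by
  rw [T3, col_one, col_wel, col_emb_wel, TT]
  have h1 : dt ![1, 0, 0] ![0, 0, -1] ![-x.b, -s9 x.a, -1] = -s9 x.a := by
    simp [dt]
  have h2 : form ![1, 0, 0] ![0, 0, -1] * form ![0, 0, -1] ![-x.b, -s9 x.a, -1] *
      form ![-x.b, -s9 x.a, -1] ![1, 0, 0] = s9 x.b := by
    simp [form]
  rw [h1, h2, chh_neg, J_s9, T0]
  have h3 : chh (s9 x.a) = chh x.a := by
    have : ∀ x : K9, chh (s9 x) = chh x := by apply forall9; decide +kernel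
    exact this _
  rw [h3]
  ring

end Cfsg.Agent.H856.U33
end

-- part: H856/U33c
section
/-!
# Sums over `SU₃(3)`; the contraction identity
-/

set_option autoImplicit false

namespace Cfsg.Agent.H856.U33

open Cfsg.Agent.UThreeGen.MatGroup Cfsg.Agent.LieRecognition.RankOneAbstract Matrix

theorem emb_mem_borel (x : HG s9) : emb s9 x ∈ _root_.Cfsg.Agent.UThreeGen.MatGroup.borel s9 := data_SUG.le ⟨x, rfl⟩

/-- the Bruhat decomposition -/
noncomputable def bru : (borel s9 ⊕ (HG s9 × borel s9)) ≃ SUG s9 :=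
  Equiv.ofBijective (fun z => match z with
    | Sum.inl b => (b : SUG s9)
    | Sum.inr (x, b) => emb s9 x * wel s9 * b) (by
    have hnot : ∀ (x : HG s9) (b : borel s9), emb s9 x * wel s9 * b ∉ _root_.Cfsg.Agent.UThreeGen.MatGroup.borel s9 := by
      intro x b h
      apply (data_SUG (σ := s9)).w_not_mem
      have h1 : wel s9 = (emb s9 x)⁻¹ * (emb s9 x * wel s9 * b) * (b : SUG s9)⁻¹ := by group
      rw [h1]
      exact (_root_.Cfsg.Agent.UThreeGen.MatGroup.borel s9).mul_mem ((_root_.Cfsg.Agent.UThreeGen.MatGroup.borel s9).mul_mem ((_root_.Cfsg.Agent.UThreeGen.MatGroup.borel s9).inv_mem (emb_mem_borel x)) h)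
        ((_root_.Cfsg.Agent.UThreeGen.MatGroup.borel s9).inv_mem b.2)
    constructor
    · rintro (b | ⟨x, b⟩) (b' | ⟨x', b'⟩) h
      · exact congrArg Sum.inl (Subtype.ext h)
      · exact absurd (by rw [← (show (b : SUG s9) = emb s9 x' * wel s9 * b' from h)]; exact b.2) (hnot x' b')
      · exact absurd (by rw [(show emb s9 x * wel s9 * b = (b' : SUG s9) from h)]; exact b'.2) (hnot x b)
      · have h' : emb s9 x * wel s9 * b = emb s9 x' * wel s9 * b' := h
        have h1 : (wel s9)⁻¹ * emb s9 (x'⁻¹ * x) * wel s9 ∈ _root_.Cfsg.Agent.UThreeGen.MatGroup.borel s9 := by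
          have h2 : (wel s9)⁻¹ * emb s9 (x'⁻¹ * x) * wel s9 = (b' : SUG s9) * (b : SUG s9)⁻¹ := by
            rw [map_mul, map_inv, eq_mul_inv_iff_mul_eq]
            have h3 : (wel s9)⁻¹ * ((emb s9 x')⁻¹ * emb s9 x) * wel s9 * b =
              (wel s9)⁻¹ * (emb s9 x')⁻¹ * (emb s9 x * wel s9 * b) := by group
            rw [h3, h']
            group
          rw [h2]
          exact (_root_.Cfsg.Agent.UThreeGen.MatGroup.borel s9).mul_mem b'.2 ((_root_.Cfsg.Agent.UThreeGen.MatGroup.borel s9).inv_mem b.2)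
        have h3 := data_SUG.inter _ ⟨_, rfl⟩ h1
        have h4 : x'⁻¹ * x = 1 := emb_injective (h3.trans (map_one _).symm)
        have h5 : x = x' := (inv_mul_eq_one.1 h4).symm
        subst h5
        have h6 : b = b' := Subtype.ext (mul_left_cancel h')
        rw [h6]
    · intro g
      by_cases hg : g ∈ _root_.Cfsg.Agent.UThreeGen.MatGroup.borel s9
      · exact ⟨Sum.inl ⟨g, hg⟩, rfl⟩
      · obtain ⟨_, ⟨x, rfl⟩, h⟩ := data_SUG.bruhat g hg
        exact ⟨Sum.inr (x, ⟨_, h⟩), by show emb s9 x * wel s9 * ((emb s9 x * wel s9)⁻¹ * g) = g; group⟩)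

theorem bru_inl (b : borel s9) : bru (Sum.inl b) = b := rfl
theorem bru_inr (x : HG s9) (b : borel s9) : bru (Sum.inr (x, b)) = emb s9 x * wel s9 * b := rfl

theorem emb_tor_00 (x : HG s9) (c : K9ˣ) : (emb s9 x * H906.tor s9 c).1.1 0 0 = c := by
  rw [coe_mul_SUG, emb_val, H906.tor_val]
  simp [umat, Matrix.mul_apply, Fin.sum_univ_three]

/-- the Borel subgroup as pairs -/
noncomputable def borE : (HG s9 × K9ˣ) ≃ borel s9 :=
  Equiv.ofBijective (fun z => ⟨emb s9 z.1 * H906.tor s9 z.2,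
    (_root_.Cfsg.Agent.UThreeGen.MatGroup.borel s9).mul_mem (emb_mem_borel _) (H906.tor_mem_borel _)⟩) (by
    constructor
    · rintro ⟨x, c⟩ ⟨x', c'⟩ h
      have h1 : emb s9 x * H906.tor s9 c = emb s9 x' * H906.tor s9 c' := congrArg Subtype.val h
      have h2 : c = c' := Units.ext (by rw [← emb_tor_00 x c, h1, emb_tor_00])
      subst h2
      have h3 := emb_injective (mul_right_cancel h1)
      rw [h3]
    · rintro ⟨b, hb⟩
      obtain ⟨_, ⟨x, rfl⟩, c, rfl⟩ := H906.borel_eq b hb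
      exact ⟨(x, c), rfl⟩)

noncomputable instance : Fintype (borel s9) := Fintype.ofEquiv _ borE

theorem card_borel : Fintype.card (borel s9) = 216 := by
  rw [← Fintype.card_congr borE, Fintype.card_prod, card_hg, Fintype.card_units, card9]

noncomputable instance : Fintype (SUG s9) := Fintype.ofEquiv _ bru

section sums

variable {A : Type*} [Field A]

/-- sums over the group of functions on the cosets of the Borel subgroup -/
theorem sum_G (ψ : SUG s9 → A) (hψ : ∀ g, ∀ b ∈ _root_.Cfsg.Agent.UThreeGen.MatGroup.borel s9, ψ (g * b) = ψ g) :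
    ∑ g, ψ g = 216 * (ψ 1 + ∑ x : HG s9, ψ (emb s9 x * wel s9)) := by
  rw [← Equiv.sum_comp bru, Fintype.sum_sum_type]
  have h1 : ∀ b : borel s9, ψ (bru (Sum.inl b)) = ψ 1 := fun b => by
    rw [bru_inl, ← hψ 1 b b.2, one_mul]
  have h2 : ∀ z : HG s9 × borel s9, ψ (bru (Sum.inr z)) = ψ (emb s9 z.1 * wel s9) := by
    rintro ⟨x, b⟩
    rw [bru_inr, hψ _ b b.2]
  rw [Finset.sum_congr rfl fun b _ => h1 b, Finset.sum_congr rfl fun z _ => h2 z, Fintype.sum_prod_type]
  simp only [Finset.sum_const, Finset.card_univ, card_borel, nsmul_eq_mul]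
  rw [← Finset.mul_sum]
  push_cast
  ring

/-- the matrix coefficient -/
structure Co (Φ : SUG s9 → A) (c : A) : Prop where
  c3 : 3 * c = -1
  mem : ∀ g ∈ _root_.Cfsg.Agent.UThreeGen.MatGroup.borel s9, Φ g = ((ch (g.1.1 0 0) : ℤ) : A)
  not_mem : ∀ g ∉ _root_.Cfsg.Agent.UThreeGen.MatGroup.borel s9, Φ g = c * ((ch (g.1.1 2 0) : ℤ) : A)

variable {Φ : SUG s9 → A} {c : A} (hΦ : Co Φ c)

include hΦ

theorem Co.mul_b {b : SUG s9} (hb : b ∈ _root_.Cfsg.Agent.UThreeGen.MatGroup.borel s9) (g : SUG s9) : Φ (g * b) = ((ch (b.1.1 0 0) : ℤ) : A) * Φ g := by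
  have hc : ∀ i, (g * b).1.1 i 0 = b.1.1 0 0 * g.1.1 i 0 := fun i => congrFun (col_borel hb g) i
  by_cases hg : g ∈ _root_.Cfsg.Agent.UThreeGen.MatGroup.borel s9
  · rw [hΦ.mem _ ((_root_.Cfsg.Agent.UThreeGen.MatGroup.borel s9).mul_mem hg hb), hΦ.mem _ hg, hc, ch_mul]
    push_cast
    ring
  · have hgb : g * b ∉ _root_.Cfsg.Agent.UThreeGen.MatGroup.borel s9 := fun h => hg (by
      have h1 : g = g * b * b⁻¹ := by group
      rw [h1]
      exact (_root_.Cfsg.Agent.UThreeGen.MatGroup.borel s9).mul_mem h ((_root_.Cfsg.Agent.UThreeGen.MatGroup.borel s9).inv_mem hb))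
    rw [hΦ.not_mem _ hgb, hΦ.not_mem _ hg, hc, ch_mul]
    push_cast
    ring

theorem Co.b_mul {b : SUG s9} (hb : b ∈ _root_.Cfsg.Agent.UThreeGen.MatGroup.borel s9) (g : SUG s9) : Φ (b * g) = ((ch (b.1.1 0 0) : ℤ) : A) * Φ g := by
  by_cases hg : g ∈ _root_.Cfsg.Agent.UThreeGen.MatGroup.borel s9
  · have hc : (b * g).1.1 0 0 = g.1.1 0 0 * b.1.1 0 0 := congrFun (col_borel hg b) 0
    rw [hΦ.mem _ ((_root_.Cfsg.Agent.UThreeGen.MatGroup.borel s9).mul_mem hb hg), hΦ.mem _ hg, hc, ch_mul]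
    push_cast
    ring
  · have hgb : b * g ∉ _root_.Cfsg.Agent.UThreeGen.MatGroup.borel s9 := fun h => hg (by
      have h1 : g = b⁻¹ * (b * g) := by group
      rw [h1]
      exact (_root_.Cfsg.Agent.UThreeGen.MatGroup.borel s9).mul_mem ((_root_.Cfsg.Agent.UThreeGen.MatGroup.borel s9).inv_mem hb) h)
    have hc : ch ((b * g).1.1 2 0) = ch (b.1.1 0 0) * ch (g.1.1 2 0) := by
      obtain ⟨_, ⟨x, rfl⟩, a, rfl⟩ := H906.borel_eq b hb
      rw [emb_tor_00]
      have h2 : (emb s9 x * H906.tor s9 a * g).1.1 2 0 = (s9 (a : K9))⁻¹ * g.1.1 2 0 := by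
        rw [coe_mul_SUG, coe_mul_SUG, emb_val, H906.tor_val]
        simp only [umat, Matrix.mul_apply, Fin.sum_univ_three, _root_.Cfsg.Agent.UThreeGen.MatGroup.umat, _root_.Matrix.cons_mul, _root_.Nat.succ_eq_add_one, _root_.Nat.reduceAdd, _root_.Matrix.vecMul_cons, _root_.Matrix.head_cons, _root_.one_smul, _root_.Matrix.tail_cons, _root_.Matrix.smul_cons, _root_.smul_eq_mul, _root_.MulZeroClass.mul_zero, _root_.Matrix.smul_empty, _root_.Matrix.empty_vecMul, _root_.add_zero, _root_.Matrix.add_cons, _root_.zero_add, _root_.Matrix.empty_add_empty, _root_.zero_smul, _root_.Matrix.empty_mul, _root_.Equiv.symm_apply_apply, _root_.Fin.isValue, _root_.Matrix.mul_apply, _root_.Matrix.of_apply, _root_.Matrix.cons_val', _root_.Matrix.cons_val_fin_one, _root_.Matrix.cons_val, _root_.Matrix.cons_val_one, _root_.Fin.sum_univ_three, _root_.Matrix.cons_val_zero, _root_.MulZeroClass.zero_mul]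
      rw [h2, ch_mul]
      congr 1
      have h3 : ∀ x : K9, x ≠ 0 → ch ((s9 x)⁻¹) = ch x := by
        intro x hx
        have h4 := ch_mul (s9 x) (s9 x)⁻¹
        have h5 : s9 x ≠ 0 := (map_ne_zero s9).2 hx
        rw [mul_inv_cancel₀ h5, ch_s9] at h4
        have h6 : ch (1 : K9) = 1 := by decide +kernel
        rw [h6] at h4
        have h7 := ch_sq x hx
        have h8 : ch x ≠ 0 := fun h => by rw [h, zero_mul] at h7; exact zero_ne_one h7
        exact mul_left_cancel₀ h8 (h4.symm.trans h7.symm)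
      exact h3 _ a.ne_zero
    rw [hΦ.not_mem _ hgb, hΦ.not_mem _ hg, hc]
    push_cast
    ring

omit [Field A] hΦ in
theorem ch_inv_borel {b : SUG s9} (hb : b ∈ _root_.Cfsg.Agent.UThreeGen.MatGroup.borel s9) : ch (b.1.1 0 0) * ch ((b⁻¹).1.1 0 0) = 1 := by
  have h1 : (b⁻¹ * b).1.1 0 0 = b.1.1 0 0 * (b⁻¹).1.1 0 0 := congrFun (col_borel hb b⁻¹) 0
  rw [inv_mul_cancel] at h1
  have h2 : ((1 : SUG s9).1.1 : Matrix (Fin 3) (Fin 3) K9) 0 0 = 1 := by
    show (1 : Matrix (Fin 3) (Fin 3) K9) 0 0 = 1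
    simp
  rw [← ch_mul, ← h1, h2]
  decide +kernel

instance : DecidableEq (HG s9) := hgE.decidableEq

theorem Co.wxw (x : HG s9) : Φ ((wel s9)⁻¹ * emb s9 x * wel s9) =
    (if x = 1 then 1 else 0) + c * ((ch x.b : ℤ) : A) := by
  by_cases hx : x = 1
  · rw [if_pos hx, hx, map_one, mul_one, inv_mul_cancel, hΦ.mem 1 (_root_.Cfsg.Agent.UThreeGen.MatGroup.borel s9).one_mem]
    have h2 : ((1 : SUG s9).1.1 : Matrix (Fin 3) (Fin 3) K9) 0 0 = 1 := by
      show (1 : Matrix (Fin 3) (Fin 3) K9) 0 0 = 1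
      simp
    have h3 : ch (1 : K9) = 1 := by decide +kernel
    have h4 : ch (1 : HG s9).b = 0 := by rw [one_b]; decide +kernel
    rw [h2, h3, h4]
    simp
  · rw [if_neg hx, zero_add, hΦ.not_mem]
    · have h1 : ((wel s9)⁻¹ * emb s9 x * wel s9).1.1 2 0 = x.b := by
        rw [wel_inv, coe_mul_SUG, coe_mul_SUG, wel_val, emb_val]
        simp [umat, Wm, Matrix.mul_apply, Fin.sum_univ_three]
      rw [h1]
    · intro h
      exact hx (emb_injective ((data_SUG.inter _ ⟨_, rfl⟩ h).trans (map_one _).symm))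

theorem Co.xw_inv (x : HG s9) : Φ ((emb s9 x * wel s9)⁻¹) = c := by
  have h1 : ((emb s9 x * wel s9)⁻¹).1.1 2 0 = -1 := by
    rw [_root_.mul_inv_rev, wel_inv, ← map_inv, coe_mul_SUG, wel_val, emb_val]
    simp [umat, Wm, Matrix.mul_apply, Fin.sum_univ_three]
  rw [hΦ.not_mem, h1]
  · have : ch (-1 : K9) = 1 := by decide +kernel
    rw [this, Int.cast_one, mul_one]
  · intro h
    rw [h.2] at h1
    revert h1
    decide +kernel

/-- the contraction -/
theorem Co.contr0 (h : SUG s9) : ∑ g, ((T3 1 (wel s9) g : ℤ) : A) * Φ (g⁻¹ * h) = 864 * ((T3 1 (wel s9) h : ℤ) : A) := by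
  have hT1 : T3 1 (wel s9) 1 = 0 := by
    rw [T3_23, T3_bb (_root_.Cfsg.Agent.UThreeGen.MatGroup.borel s9).one_mem, neg_zero]
  have hψ : ∀ h g, ∀ b ∈ _root_.Cfsg.Agent.UThreeGen.MatGroup.borel s9, ((T3 1 (wel s9) (g * b) : ℤ) : A) * Φ ((g * b)⁻¹ * h) =
      ((T3 1 (wel s9) g : ℤ) : A) * Φ (g⁻¹ * h) := by
    intro h g b hb
    rw [T3_b3 hb, _root_.mul_inv_rev, mul_assoc b⁻¹, hΦ.b_mul ((by exact (_root_.Cfsg.Agent.UThreeGen.MatGroup.borel s9).inv_mem hb))]
    have h1 := congrArg (Int.cast : ℤ → A) (ch_inv_borel hb)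
    push_cast at h1 ⊢
    linear_combination ((T3 1 (wel s9) g : ℤ) : A) * Φ (g⁻¹ * h) * h1
  have key1 : ∑ g, ((T3 1 (wel s9) g : ℤ) : A) * Φ (g⁻¹ * 1) = 864 * ((T3 1 (wel s9) 1 : ℤ) : A) := by
    rw [sum_G _ (hψ 1), hT1]
    simp only [mul_one, hΦ.xw_inv, T3_emb]
    rw [← Finset.sum_mul, ← Int.cast_sum, sum_T0]
    simp
  have key2 : ∀ y : HG s9, ∑ g, ((T3 1 (wel s9) g : ℤ) : A) * Φ (g⁻¹ * (emb s9 y * wel s9)) =
      864 * ((T3 1 (wel s9) (emb s9 y * wel s9) : ℤ) : A) := by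
    intro y
    rw [sum_G _ (hψ _), hT1, Int.cast_zero, zero_mul, zero_add]
    have h1 : ∀ x : HG s9, ((T3 1 (wel s9) (emb s9 x * wel s9) : ℤ) : A) *
        Φ ((emb s9 x * wel s9)⁻¹ * (emb s9 y * wel s9)) =
        (if x = y then ((T0 x.a x.b : ℤ) : A) else 0) + c * ((T0 x.a x.b * ch (x⁻¹ * y).b : ℤ) : A) := by
      intro x
      have h2 : (emb s9 x * wel s9)⁻¹ * (emb s9 y * wel s9) = (wel s9)⁻¹ * emb s9 (x⁻¹ * y) * wel s9 := by
        rw [map_mul, map_inv]; group
      rw [h2, hΦ.wxw, T3_emb]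
      have h3 : x⁻¹ * y = 1 ↔ x = y := inv_mul_eq_one
      simp only [h3]
      push_cast
      split_ifs <;> ring
    rw [Finset.sum_congr rfl fun x _ => h1 x, Finset.sum_add_distrib, Finset.sum_ite_eq' Finset.univ y,
      if_pos (Finset.mem_univ _), ← Finset.mul_sum, ← Int.cast_sum, eigen, T3_emb]
    push_cast
    linear_combination (-(648 : A)) * ((T0 y.a y.b : ℤ) : A) * hΦ.c3
  by_cases hh : h ∈ _root_.Cfsg.Agent.UThreeGen.MatGroup.borel s9
  · have h1 : ∀ g : SUG s9, Φ (g⁻¹ * h) = ((ch (h.1.1 0 0) : ℤ) : A) * Φ (g⁻¹ * 1) := fun g => by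
      rw [hΦ.mul_b hh, mul_one]
    have h2 : T3 1 (wel s9) h = ch (h.1.1 0 0) * T3 1 (wel s9) 1 := by
      rw [← T3_b3 hh, one_mul]
    simp only [h1]
    rw [h2]
    push_cast
    calc _ = ((ch (h.1.1 0 0) : ℤ) : A) * ∑ g, ((T3 1 (wel s9) g : ℤ) : A) * Φ (g⁻¹ * 1) := by
          rw [Finset.mul_sum]
          exact Finset.sum_congr rfl fun g _ => by ring
      _ = _ := by rw [key1]; ring
  · obtain ⟨_, ⟨y, rfl⟩, hb⟩ := data_SUG.bruhat h hh
    set b := (emb s9 y * wel s9)⁻¹ * h with hbdef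
    have hhb : h = emb s9 y * wel s9 * b := by rw [hbdef]; group
    have h1 : ∀ g : SUG s9, Φ (g⁻¹ * h) = ((ch (b.1.1 0 0) : ℤ) : A) * Φ (g⁻¹ * (emb s9 y * wel s9)) := fun g => by
      rw [hhb, ← mul_assoc, hΦ.mul_b hb]
    have h2 : T3 1 (wel s9) h = ch (b.1.1 0 0) * T3 1 (wel s9) (emb s9 y * wel s9) := by
      rw [hhb, T3_b3 hb]
    simp only [h1]
    rw [h2]
    push_cast
    calc _ = ((ch (b.1.1 0 0) : ℤ) : A) * ∑ g, ((T3 1 (wel s9) g : ℤ) : A) * Φ (g⁻¹ * (emb s9 y * wel s9)) := by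
          rw [Finset.mul_sum]
          exact Finset.sum_congr rfl fun g _ => by ring
      _ = _ := by rw [key2]; ring

theorem Co.contr (g₁ g₂ h : SUG s9) : ∑ g, ((T3 g₁ g₂ g : ℤ) : A) * Φ (g⁻¹ * h) = 864 * ((T3 g₁ g₂ h : ℤ) : A) := by
  -- invariance
  have inv : ∀ k g₁ g₂ h : SUG s9, (∑ g, ((T3 (k * g₁) (k * g₂) g : ℤ) : A) * Φ (g⁻¹ * (k * h)) =
      864 * ((T3 (k * g₁) (k * g₂) (k * h) : ℤ) : A)) →
      ∑ g, ((T3 g₁ g₂ g : ℤ) : A) * Φ (g⁻¹ * h) = 864 * ((T3 g₁ g₂ h : ℤ) : A) := by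
    intro k g₁ g₂ h hk
    rw [T3_left] at hk
    rw [← hk]
    conv_rhs => rw [← Equiv.sum_comp (Equiv.mulLeft k)]
    refine Finset.sum_congr rfl fun g _ => ?_
    have e1 : (k * g)⁻¹ * (k * h) = g⁻¹ * h := by group
    show _ = ((T3 (k * g₁) (k * g₂) (k * g) : ℤ) : A) * Φ ((k * g)⁻¹ * (k * h))
    rw [T3_left, e1]
  have one : ∀ g₂ h : SUG s9, ∑ g, ((T3 1 g₂ g : ℤ) : A) * Φ (g⁻¹ * h) = 864 * ((T3 1 g₂ h : ℤ) : A) := by
    intro g₂ h
    by_cases hg : g₂ ∈ _root_.Cfsg.Agent.UThreeGen.MatGroup.borel s9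
    · simp only [T3_bb hg]
      simp only [_root_.Int.cast_zero, _root_.MulZeroClass.zero_mul, _root_.Finset.sum_const_zero, _root_.MulZeroClass.mul_zero]
    · obtain ⟨_, ⟨y, rfl⟩, hb⟩ := data_SUG.bruhat g₂ hg
      set b := (emb s9 y * wel s9)⁻¹ * g₂ with hbdef
      have hhb : g₂ = emb s9 y * wel s9 * b := by rw [hbdef]; group
      apply inv (emb s9 y)⁻¹
      have hy : (emb s9 y)⁻¹ ∈ _root_.Cfsg.Agent.UThreeGen.MatGroup.borel s9 := (_root_.Cfsg.Agent.UThreeGen.MatGroup.borel s9).inv_mem (emb_mem_borel y)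
      have e1 : (emb s9 y)⁻¹ * g₂ = wel s9 * b := by rw [hhb]; group
      have e2 : ch (((emb s9 y)⁻¹).1.1 0 0) = 1 := by
        rw [← map_inv, emb_val]
        show ch (1 : K9) = 1
        decide +kernel
      have e3 : ∀ g, T3 ((emb s9 y)⁻¹ * 1) ((emb s9 y)⁻¹ * g₂) g = ch (b.1.1 0 0) * T3 1 (wel s9) g := by
        intro g
        have e4 : T3 ((emb s9 y)⁻¹ * 1) (wel s9 * b) g = T3 (1 * (emb s9 y)⁻¹) (wel s9 * b) g := by
          rw [mul_one, one_mul]
        rw [e1, e4, T3_b1 hy, e2, one_mul, T3_b2 hb]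
      simp only [e3]
      push_cast
      calc _ = ((ch (b.1.1 0 0) : ℤ) : A) * ∑ g, ((T3 1 (wel s9) g : ℤ) : A) * Φ (g⁻¹ * ((emb s9 y)⁻¹ * h)) := by
            rw [Finset.mul_sum]
            exact Finset.sum_congr rfl fun g _ => by ring
        _ = _ := by rw [hΦ.contr0]; ring
  apply inv g₁⁻¹
  rw [inv_mul_cancel]
  exact one _ _

end sums

end Cfsg.Agent.H856.U33
end

-- part: H856/U33d
section
/-!
# The 7-dimensional orthogonal representation of `SU₃(3)` (helper856)

The first section is an adapted copy of `H659/SevenU33` (the torus element is made explicit).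
-/

set_option autoImplicit false

namespace Cfsg.Agent.H856.U33

open Cfsg.Agent.UThreeGen.MatGroup Cfsg.Agent.H906 Cfsg.Agent.H659.BorelCoef Cfsg.Agent.H659.HeisLine
open Cfsg.Agent.H659.SevenU33 (tor_conj)
open scoped MatrixGroups Matrix

section Group

variable {K : Type*} [Field K] {σ : K →+* K} [hσ : Fact (∀ x, σ (σ x) = x)]

variable [Finite K] (hs : ∀ x, σ x = x ^ 3) (hK : Nat.card K = 3 ^ 2)

include hs hK in
theorem exists_hdata : ∃ (a0 : Kˣ) (z x y : HG σ), (∀ a : Kˣ, ∃ k : ℕ, a0 ^ k = a) ∧ z.a = 0 ∧ z ≠ 1 ∧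
    HData (emb σ).range (tor σ a0) (emb σ z) (emb σ x) (emb σ y) ∧
    (∀ b ∈ _root_.Cfsg.Agent.UThreeGen.MatGroup.borel σ, ∃ u ∈ (emb σ).range, ∃ k : ℕ, b = u * (tor σ a0) ^ k) ∧
    (wel σ)⁻¹ * (tor σ a0) * wel σ = ((tor σ a0) ^ 3)⁻¹ := by
  classical
  obtain ⟨a0, ha0⟩ := IsCyclic.exists_generator (α := Kˣ)
  have hord : orderOf a0 = 8 := by
    rw [orderOf_eq_card_of_forall_mem_zpowers ha0, Nat.card_units, hK]; norm_num
  have ha04 : (a0 : K) ^ 4 = -1 := by
    have h1 : ((a0 : K) ^ 4 - 1) * ((a0 : K) ^ 4 + 1) = 0 := by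
      have h2 : a0 ^ 8 = 1 := by rw [← hord]; exact pow_orderOf_eq_one a0
      have h3 := congrArg Units.val h2
      rw [Units.val_pow_eq_pow_val, Units.val_one] at h3
      linear_combination h3
    rcases mul_eq_zero.1 h1 with h2 | h2
    · exfalso
      have h3 : a0 ^ 4 = 1 := Units.ext (by rw [Units.val_pow_eq_pow_val, Units.val_one]; exact sub_eq_zero.1 h2)
      have h4 := orderOf_dvd_of_pow_eq_one h3
      rw [hord] at h4
      norm_num at h4
    · exact eq_neg_of_add_eq_zero_left h2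
  have h3K : (3 : K) = 0 := by
    have h1 : ((Nat.card K : ℕ) : K) = 0 := by
      have := Fintype.ofFinite K
      rw [Nat.card_eq_fintype_card]
      exact Nat.cast_card_eq_zero K
    rw [hK] at h1
    have h2 : (3 : K) ^ 2 = 0 := by exact_mod_cast h1
    exact pow_eq_zero_iff (two_ne_zero) |>.1 h2
  have hne0 : (a0 : K) ≠ 0 := a0.ne_zero
  have h1ne : (-1 : K) ≠ 1 := by
    intro h
    have h2 : (1 : K) = 0 := by linear_combination h3K + h
    exact one_ne_zero h2
  have ha01 : (a0 : K) ≠ 1 := by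
    intro h
    rw [h, one_pow] at ha04
    exact h1ne ha04.symm
  have ha02 : (a0 : K) ^ 2 ≠ 1 := by
    intro h
    apply h1ne
    rw [← ha04]
    linear_combination ((a0 : K) ^ 2 + 1) * h
  obtain ⟨x, hx⟩ := aHom_surjective (σ := σ) (by norm_num) hs hK 1
  obtain ⟨y, hy⟩ := aHom_surjective (σ := σ) (by norm_num) hs hK (a0 : K)
  obtain ⟨z, hxy⟩ : ∃ z : HG σ, x * y = z * (y * x) := ⟨x * y * (y * x)⁻¹, by group⟩
  have hza : z.a = 0 := by
    have := congrArg HG.a hxy
    rw [mul_a, mul_a, mul_a] at this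
    linear_combination -this
  have hzb : z.b = (a0 : K) ^ 3 - a0 := by
    have := congrArg HG.b hxy
    rw [mul_b, mul_b, mul_b, hza, hx, hy, map_one, hs] at this
    linear_combination -this
  have hzb0 : z.b ≠ 0 := by
    rw [hzb]
    intro h
    apply ha02
    have : (a0 : K) * ((a0 : K) ^ 2 - 1) = 0 := by linear_combination h
    exact sub_eq_zero.1 ((mul_eq_zero.1 this).resolve_left hne0)
  have hsz : σ z.b = -z.b := by
    have := z.h
    rw [hza, zero_mul] at this
    linear_combination this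
  have hzpow : ∀ k : ℕ, (z ^ k).a = 0 ∧ (z ^ k).b = k * z.b := by
    intro k
    induction k with
    | zero => rw [pow_zero]; constructor <;> simp [one_a]
    | succ k ih =>
      rw [pow_succ, mul_a, mul_b, ih.1, ih.2, hza]
      constructor
      · ring
      · rw [map_zero]; push_cast; ring
  have hpowh : ∀ k : ℕ, (tor σ a0) ^ k = tor σ (a0 ^ k) := fun k => (map_pow _ _ _).symm
  have hs0 : σ (a0 : K) = (a0 : K) ^ 3 := hs _
  refine ⟨a0, z, x, y, ?_, hza, ?_, ?_, ?_, ?_⟩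
  · intro a
    have h1 := ha0 a
    rw [← mem_powers_iff_mem_zpowers] at h1
    exact h1
  · rintro h
    rw [h, one_b] at hzb0
    exact hzb0 rfl
  · refine ⟨⟨z, rfl⟩, ⟨x, rfl⟩, ⟨y, rfl⟩, ?_, ?_, ?_, ?_, ?_⟩
    · rw [← map_pow, ← map_one (emb σ)]
      congr 1
      ext
      · exact (hzpow 3).1
      · rw [(hzpow 3).2]
        change ((3 : ℕ) : K) * z.b = 0
        push_cast
        rw [h3K, zero_mul]
    · rintro _ ⟨u, rfl⟩
      rw [← map_mul, ← map_mul]
      congr 1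
      ext
      · rw [mul_a, mul_a, add_comm]
      · rw [mul_b, mul_b, hza, map_zero, zero_mul, mul_zero, add_comm u.b]
    · rw [← map_mul, ← map_mul, ← map_mul, hxy]
    · have h1 := tor_conj a0 z z⁻¹ (by rw [inv_a, hza, neg_zero, mul_zero]) (by
        rw [inv_b, hsz, hs0]
        linear_combination z.b * ha04 * (-1))
      rw [← map_inv, ← h1]
      group
    · rintro _ ⟨u, rfl⟩
      have hd : (a0 : K)⁻¹ - 1 ≠ 0 := by
        intro h
        apply ha01
        simpa using sub_eq_zero.1 h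
      obtain ⟨t, ht⟩ := aHom_surjective (σ := σ) (by norm_num) hs hK (u.a / ((a0 : K)⁻¹ - 1))
      have hh : -t.b + σ (-t.b) = ((a0 : K)⁻¹ * t.a) * σ ((a0 : K)⁻¹ * t.a) := by
        have h2 := t.h
        rw [map_neg, map_mul, map_inv₀, hs0]
        have h5 : (a0 : K)⁻¹ * ((a0 : K) ^ 3)⁻¹ = -1 := by
          rw [← mul_inv, ← pow_succ', ha04]
          norm_num
        linear_combination -h2 - t.a * σ t.a * h5
      set t' : HG σ := ⟨(a0 : K)⁻¹ * t.a, -t.b, hh⟩ with ht'
      have h1 := tor_conj a0 t t' (by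
        change (a0 : K)⁻¹ * t.a = _
        rw [hs0]
        field_simp) (by
        change -t.b = _
        rw [hs0]
        linear_combination t.b * ha04 * (-1))
      -- the remaining factor
      obtain ⟨s, hs'⟩ : ∃ s : HG σ, u = t' * t⁻¹ * s := ⟨(t' * t⁻¹)⁻¹ * u, by group⟩
      have hsa : s.a = 0 := by
        have := congrArg HG.a hs'
        rw [mul_a, mul_a, inv_a] at this
        change u.a = (a0 : K)⁻¹ * t.a + -t.a + s.a at this
        have h2 : t.a * ((a0 : K)⁻¹ - 1) = u.a := by rw [ht, div_mul_cancel₀ _ hd]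
        linear_combination -this - h2
      have hsb : σ s.b = -s.b := by
        have := s.h
        rw [hsa, zero_mul] at this
        linear_combination this
      obtain ⟨k, hk⟩ : ∃ k : ℕ, s = z ^ k := by
        set c := s.b / z.b with hc
        have hsc : c ^ 3 = c := by
          rw [← hs, hc, map_div₀, hsb, hsz, neg_div_neg_eq]
        have hc3 : c * ((c - 1) * (c + 1)) = 0 := by linear_combination hsc
        have hsbc : s.b = c * z.b := by rw [hc, div_mul_cancel₀ _ hzb0]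
        rcases mul_eq_zero.1 hc3 with h4 | h4
        · refine ⟨0, ?_⟩
          ext
          · rw [hsa, (hzpow 0).1]
          · rw [hsbc, h4, (hzpow 0).2, Nat.cast_zero]
        rcases mul_eq_zero.1 h4 with h5 | h5
        · refine ⟨1, ?_⟩
          ext
          · rw [hsa, (hzpow 1).1]
          · rw [hsbc, sub_eq_zero.1 h5, (hzpow 1).2, Nat.cast_one]
        · refine ⟨2, ?_⟩
          ext
          · rw [hsa, (hzpow 2).1]
          · rw [hsbc, eq_neg_of_add_eq_zero_left h5, (hzpow 2).2]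
            push_cast
            linear_combination -z.b * h3K
      refine ⟨emb σ t, ⟨t, rfl⟩, k, ?_⟩
      rw [h1, hs', hk, map_mul, map_mul, map_inv, map_pow]
  · intro b hb
    obtain ⟨u, hu, a, rfl⟩ := borel_eq b hb
    have h1 := ha0 a
    rw [← mem_powers_iff_mem_zpowers] at h1
    obtain ⟨k, rfl⟩ := h1
    exact ⟨u, hu, k, by rw [map_pow]⟩
  · rw [wel_tor, ← map_pow]
    congr 2
    apply Units.ext
    rw [Units.val_pow_eq_pow_val]
    exact hs _

end Group

/-- From the fixed line to the adapted pair. -/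
theorem exists_ad' {G : Type*} [Group G] {A : Type*} [Field A] {U : Subgroup G} {h z x y : G}
    [IsAlgClosed A] (h3 : (3 : A) ≠ 0) (H : HData U h z x y) (ρ : G →* Matrix (Fin 7) (Fin 7) A)
    (hz : ρ z ≠ 1) : ∃ (v φ : Fin 7 → A) (l : A), Ad U h ρ v φ l ∧
      ∀ w, (1 + ρ z + ρ (z * z)) *ᵥ w = (3 * (φ ⬝ᵥ w)) • v := by
  classical
  let ρE : G →* Module.End A (Fin 7 → A) := (Matrix.toLinAlgEquiv' (R := A) (n := Fin 7)).toMonoidHom.comp ρ
  have hρE : ∀ g (w : Fin 7 → A), ρE g w = ρ g *ᵥ w := fun _ _ => rfl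
  obtain ⟨v, hv0, hzv, hline, hUv, l, hl⟩ := exists_line h3 H ρE (by simp) (by
    intro h0
    apply hz
    apply (Matrix.toLinAlgEquiv' (R := A) (n := Fin 7)).injective
    rw [map_one]
    exact h0)
  obtain ⟨i, hi⟩ : ∃ i, v i ≠ 0 := by
    by_contra hcon
    push Not at hcon
    exact hv0 (funext hcon)
  -- the projection
  set e : Matrix (Fin 7) (Fin 7) A := (3 : A)⁻¹ • (1 + ρ z + ρ (z * z)) with he
  have hcomm : ∀ g : G, (z * g = g * z ∨ z * g = g * z⁻¹) → e * ρ g = ρ g * e := by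
    intro g hg
    have hzz : z⁻¹ = z * z := by
      rw [inv_eq_iff_mul_eq_one, ← pow_two, ← pow_succ']
      exact H.z3
    rw [he, smul_mul_assoc, mul_smul_comm]
    congr 1
    rw [add_mul, add_mul, mul_add, mul_add, one_mul, mul_one, ← map_mul, ← map_mul, ← map_mul, ← map_mul]
    rcases hg with hg | hg
    · rw [hg]
      congr 2
      rw [mul_assoc, hg, ← mul_assoc, hg, mul_assoc]
    · have h4 : z * z * g = g * z := by
        rw [mul_assoc, hg, ← mul_assoc, hg, mul_assoc, ← _root_.mul_inv_rev, ← hzz, inv_inv]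
      rw [hg, h4, hzz]
      abel
  have hez : ρ z * e = e := by
    rw [he, mul_smul_comm]
    congr 1
    have h4 : ρ (z * (z * z)) = 1 := by
      rw [← pow_two, ← pow_succ', H.z3, map_one]
    rw [mul_add, mul_add, mul_one, ← map_mul, ← map_mul, h4]
    abel
  have hev : e *ᵥ v = v := by
    have h4 : ρ z *ᵥ v = v := hzv
    rw [he, Matrix.smul_mulVec, Matrix.add_mulVec, Matrix.add_mulVec, Matrix.one_mulVec, rho_mulVec, h4, h4]
    have : v + v + v = (3 : A) • v := by
      rw [show (3 : A) = 1 + 1 + 1 by norm_num, add_smul, add_smul, one_smul]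
    rw [this, smul_smul, inv_mul_cancel₀ h3, one_smul]
  let φ : Fin 7 → A := fun j => (v i)⁻¹ * e i j
  have hφ : ∀ w : Fin 7 → A, φ ⬝ᵥ w = (v i)⁻¹ * (e *ᵥ w) i := by
    intro w
    simp only [φ, dotProduct, Matrix.mulVec, Finset.mul_sum, mul_assoc]
  have hew : ∀ w : Fin 7 → A, e *ᵥ w = (φ ⬝ᵥ w) • v := by
    intro w
    obtain ⟨c, hc⟩ := hline (e *ᵥ w) (by
      rw [hρE, Matrix.mulVec_mulVec, hez])
    rw [hφ, hc]
    congr 1
    rw [Pi.smul_apply, smul_eq_mul, mul_comm, mul_assoc, mul_inv_cancel₀ hi, mul_one]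
  have hinj : ∀ a b : A, a • v = b • v → a = b := by
    intro a b hab
    have : (a - b) • v = 0 := by rw [sub_smul, hab, sub_self]
    exact sub_eq_zero.1 ((smul_eq_zero.1 this).resolve_right hv0)
  have hzh : z * h = h * z⁻¹ := by
    have := H.hz
    have e : z * (h * z) * z⁻¹ = z * (z⁻¹ * h) * z⁻¹ := by rw [this]
    simpa only [mul_assoc, _root_.mul_inv_cancel, _root_.mul_one, _root_.mul_inv_cancel_left] using e
  refine ⟨v, φ, l, ⟨?_, hUv, hl, ?_, ?_⟩, ?_⟩
  · rw [hφ, hev, inv_mul_cancel₀ hi]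
  · intro u hu w
    apply hinj
    rw [← hew, Matrix.mulVec_mulVec, hcomm u (Or.inl (H.cent u hu)), ← Matrix.mulVec_mulVec, hew, Matrix.mulVec_smul]
    have : ρ u *ᵥ v = v := hUv u hu
    rw [this]
  · intro w
    apply hinj
    rw [← hew, Matrix.mulVec_mulVec, hcomm h (Or.inr hzh), ← Matrix.mulVec_mulVec, hew, Matrix.mulVec_smul]
    have : ρ h *ᵥ v = l • v := hl
    rw [this, smul_smul, mul_comm]
  · intro w
    rw [mul_smul, ← hew, he, Matrix.smul_mulVec, smul_smul, mul_inv_cancel₀ h3, one_smul]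

end Cfsg.Agent.H856.U33
end

-- part: H856/U33e
section
/-!
# The invariant alternating 3-form of `SU₃(3)` in dimension 7 (helper856)
-/

set_option autoImplicit false

namespace Cfsg.Agent.H856.U33

open Cfsg.Agent.UThreeGen.MatGroup Cfsg.Agent.H906 Cfsg.Agent.H659.BorelCoef Cfsg.Agent.H659.HeisLine
open Cfsg.Agent.H856.Tri Cfsg.Agent.H179.G2
open scoped MatrixGroups Matrix

variable {A : Type*} [Field A]

section form

variable {ρ : SUG s9 →* Matrix (Fin 7) (Fin 7) A} {v φ : Fin 7 → A}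

/-- the functionals -/
def fn (ρ : SUG s9 →* Matrix (Fin 7) (Fin 7) A) (φ : Fin 7 → A) (g : SUG s9) : (Fin 7 → A) →ₗ[A] A where
  toFun w := φ ⬝ᵥ (ρ g⁻¹ *ᵥ w)
  map_add' x y := by rw [Matrix.mulVec_add, dotProduct_add]
  map_smul' c x := by rw [Matrix.mulVec_smul, dotProduct_smul]; rfl

theorem fn_apply (g : SUG s9) (w : Fin 7 → A) : fn ρ φ g w = φ ⬝ᵥ (ρ g⁻¹ *ᵥ w) := rfl

/-- the 3-form -/
noncomputable def fU (ρ : SUG s9 →* Matrix (Fin 7) (Fin 7) A) (φ : Fin 7 → A) :
    (Fin 7 → A) →ₗ[A] (Fin 7 → A) →ₗ[A] (Fin 7 → A) →ₗ[A] A :=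
  ofTable (fun g₁ g₂ g₃ => ((T3 g₁ g₂ g₃ : ℤ) : A)) (fn ρ φ)

theorem fU_isAlt (h2 : (2 : A) ≠ 0) : IsAltForm (fU ρ φ) :=
  ofTable_isAlt h2 _ (fun a b c => by rw [T3_12, Int.cast_neg]) (fun a b c => by rw [T3_23, Int.cast_neg])

theorem fU_inv (k : SUG s9) (x y z : Fin 7 → A) : fU ρ φ (ρ k *ᵥ x) (ρ k *ᵥ y) (ρ k *ᵥ z) = fU ρ φ x y z := by
  refine ofTable_inv (g := Matrix.toLin' (ρ k)) (Equiv.mulLeft k⁻¹) (fun _ => 1) (fun g w => ?_)
    (fun a b c => ?_) x y z
  · rw [one_mul]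
    show φ ⬝ᵥ (ρ g⁻¹ *ᵥ (ρ k *ᵥ w)) = φ ⬝ᵥ (ρ (k⁻¹ * g)⁻¹ *ᵥ w)
    rw [← rho_mulVec, _root_.mul_inv_rev, inv_inv]
  · rw [one_mul, one_mul, one_mul]
    show _ = ((T3 (k⁻¹ * a) (k⁻¹ * b) (k⁻¹ * c) : ℤ) : A)
    rw [T3_left]

theorem fU_eval {c : A} (hΦ : Co (fun g => φ ⬝ᵥ (ρ g *ᵥ v)) c) (h₁ h₂ h₃ : SUG s9) :
    fU ρ φ (ρ h₁ *ᵥ v) (ρ h₂ *ᵥ v) (ρ h₃ *ᵥ v) = 864 ^ 3 * ((T3 h₁ h₂ h₃ : ℤ) : A) := by
  have hf : ∀ g h : SUG s9, fn ρ φ g (ρ h *ᵥ v) = φ ⬝ᵥ (ρ (g⁻¹ * h) *ᵥ v) := by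
    intro g h
    rw [fn_apply, ← rho_mulVec]
  have h1 : fU ρ φ (ρ h₁ *ᵥ v) (ρ h₂ *ᵥ v) (ρ h₃ *ᵥ v) = ∑ a, ∑ b, ∑ c', ((T3 a b c' : ℤ) : A) *
      (φ ⬝ᵥ (ρ (a⁻¹ * h₁) *ᵥ v) * φ ⬝ᵥ (ρ (b⁻¹ * h₂) *ᵥ v) * φ ⬝ᵥ (ρ (c'⁻¹ * h₃) *ᵥ v)) := by
    rw [fU, ofTable_apply]
    simp only [hf]
  rw [h1]
  have hc3 : ∀ a b h : SUG s9, ∑ g, ((T3 a b g : ℤ) : A) * φ ⬝ᵥ (ρ (g⁻¹ * h) *ᵥ v) =
    864 * ((T3 a b h : ℤ) : A) := fun a b h => hΦ.contr a b h
  have e1 : ∀ a b : SUG s9, ∑ c', ((T3 a b c' : ℤ) : A) *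
      (φ ⬝ᵥ (ρ (a⁻¹ * h₁) *ᵥ v) * φ ⬝ᵥ (ρ (b⁻¹ * h₂) *ᵥ v) * φ ⬝ᵥ (ρ (c'⁻¹ * h₃) *ᵥ v)) =
      -(864 * (φ ⬝ᵥ (ρ (a⁻¹ * h₁) *ᵥ v)) * (((T3 a h₃ b : ℤ) : A) * φ ⬝ᵥ (ρ (b⁻¹ * h₂) *ᵥ v))) := by
    intro a b
    have e2 := hc3 a b h₃
    calc _ = (φ ⬝ᵥ (ρ (a⁻¹ * h₁) *ᵥ v)) * (φ ⬝ᵥ (ρ (b⁻¹ * h₂) *ᵥ v)) *
        ∑ g, ((T3 a b g : ℤ) : A) * φ ⬝ᵥ (ρ (g⁻¹ * h₃) *ᵥ v) := by
          rw [Finset.mul_sum]
          exact Finset.sum_congr rfl fun g _ => by ring
      _ = _ := by
          rw [e2, T3_23 a b h₃]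
          push_cast
          ring
  simp only [e1]
  have e3 : ∀ a : SUG s9, ∑ b, -(864 * (φ ⬝ᵥ (ρ (a⁻¹ * h₁) *ᵥ v)) *
      (((T3 a h₃ b : ℤ) : A) * φ ⬝ᵥ (ρ (b⁻¹ * h₂) *ᵥ v))) =
      864 ^ 2 * (((T3 h₂ h₃ a : ℤ) : A) * (φ ⬝ᵥ (ρ (a⁻¹ * h₁) *ᵥ v))) := by
    intro a
    rw [Finset.sum_neg_distrib, ← Finset.mul_sum, hc3, T3_23 a h₂ h₃, T3_12 h₂ a h₃, T3_23 h₂ h₃ a]
    push_cast
    ring
  simp only [e3]
  have hcyc : T3 h₂ h₃ h₁ = T3 h₁ h₂ h₃ := by rw [T3_23 h₂ h₁ h₃, T3_12 h₁ h₂ h₃, neg_neg]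
  rw [← Finset.mul_sum, hc3, hcyc]
  ring

end form

section main

variable [IsAlgClosed A] (h2 : (2 : A) ≠ 0) (h3 : (3 : A) ≠ 0) {ρ : SUG s9 →* Matrix (Fin 7) (Fin 7) A}
  (hspan : Submodule.span A (Set.range ρ) = ⊤) (hnt : ∀ z : HG s9, z ≠ 1 → ρ (emb s9 z) ≠ 1)
  {M : Matrix (Fin 7) (Fin 7) A} (hM : ∀ g, (ρ g)ᵀ * M * ρ g = M) (hM0 : ∀ v, M *ᵥ v = 0 → v = 0)

theorem ch_im : ∀ b : K9, b + s9 b = 0 → b ≠ 0 → ch b = 1 := by
  apply forall9; decide +kernel

include h2 h3 hspan hnt hM hM0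

/-- **the invariant alternating 3-form** -/
theorem exists_form : ∃ f : (Fin 7 → A) →ₗ[A] (Fin 7 → A) →ₗ[A] (Fin 7 → A) →ₗ[A] A,
    IsAltForm f ∧ f ≠ 0 ∧ ∀ g x y z, f (ρ g *ᵥ x) (ρ g *ᵥ y) (ρ g *ᵥ z) = f x y z := by
  have hcK : Nat.card K9 = 3 ^ 2 := by rw [Nat.card_eq_fintype_card, card9]; norm_num
  obtain ⟨a0, z, x, y, hgen, hza, hz1, H, hB, hn⟩ := exists_hdata (σ := s9) s9_pow hcK
  obtain ⟨v, φ, l, had, hew⟩ := exists_ad' h3 H ρ (hnt z hz1)
  have hcard : Nat.card (emb s9).range = 27 := by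
    rw [← Nat.card_congr (MonoidHom.ofInjective (emb_injective (σ := s9))).toEquiv, Nat.card_eq_fintype_card,
      card_hg]
  have hfin : Finite (emb s9).range := Nat.finite_of_card_ne_zero (by rw [hcard]; norm_num)
  have hl1 : l ≠ 1 := ne_one data_SUG hB hspan had (by rw [hcard]; simp) (by simp)
  -- the bilinear form
  set β : (Fin 7 → A) → (Fin 7 → A) → A := fun a b => a ⬝ᵥ (M *ᵥ b) with hβ
  have hinv : ∀ g a b, β (ρ g *ᵥ a) (ρ g *ᵥ b) = β a b := by
    intro g a b
    show (ρ g *ᵥ a) ⬝ᵥ (M *ᵥ (ρ g *ᵥ b)) = a ⬝ᵥ (M *ᵥ b)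
    have h4 : a ⬝ᵥ (((ρ g)ᵀ * M * ρ g) *ᵥ b) = (ρ g *ᵥ a) ⬝ᵥ (M *ᵥ (ρ g *ᵥ b)) := by
      rw [← Matrix.mulVec_mulVec, ← Matrix.mulVec_mulVec, Matrix.dotProduct_mulVec, Matrix.vecMul_transpose]
    rw [← h4, hM g]
  have hzU : ∀ w, β (ρ (emb s9 z) *ᵥ w) v = β w v := by
    intro w
    have := hinv (emb s9 z) w v
    rwa [had.uv _ ⟨z, rfl⟩] at this
  have hzzU : ∀ w, β (ρ (emb s9 z * emb s9 z) *ᵥ w) v = β w v := by
    intro w
    rw [rho_mulVec, hzU, hzU]
  have hβv : ∀ w, β w v = (φ ⬝ᵥ w) * β v v := by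
    intro w
    have h4 := congrArg (fun t => β t v) (hew w)
    have h5 : β ((1 + ρ (emb s9 z) + ρ (emb s9 z * emb s9 z)) *ᵥ w) v = 3 * β w v := by
      have h6 : β ((1 + ρ (emb s9 z) + ρ (emb s9 z * emb s9 z)) *ᵥ w) v =
          β w v + β (ρ (emb s9 z) *ᵥ w) v + β (ρ (emb s9 z * emb s9 z) *ᵥ w) v := by
        show ((1 + ρ (emb s9 z) + ρ (emb s9 z * emb s9 z)) *ᵥ w) ⬝ᵥ _ = _
        rw [Matrix.add_mulVec, Matrix.add_mulVec, Matrix.one_mulVec, add_dotProduct, add_dotProduct]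
      rw [h6, hzU, hzzU]
      ring
    have h7 : β ((3 * (φ ⬝ᵥ w)) • v) v = 3 * ((φ ⬝ᵥ w) * β v v) := by
      show ((3 * (φ ⬝ᵥ w)) • v) ⬝ᵥ _ = _
      rw [smul_dotProduct, smul_eq_mul, mul_assoc]
    change β ((1 + ρ (emb s9 z) + ρ (emb s9 z * emb s9 z)) *ᵥ w) v = β ((3 * (φ ⬝ᵥ w)) • v) v at h4
    rw [h5, h7] at h4
    exact mul_left_cancel₀ h3 h4
  have hvv : β v v ≠ 0 := by
    intro h0
    apply had.v_ne_zero
    apply hM0
    funext i
    have := hβv (Pi.single i 1)
    rw [h0, mul_zero] at this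
    change (Pi.single i 1) ⬝ᵥ (M *ᵥ v) = 0 at this
    rwa [single_one_dotProduct] at this
  have hl2 : l ^ 2 = 1 := by
    have h4 := hinv (tor s9 a0) v v
    rw [had.hv] at h4
    have h5 : β (l • v) (l • v) = l ^ 2 * β v v := by
      show (l • v) ⬝ᵥ (M *ᵥ (l • v)) = _
      rw [Matrix.mulVec_smul, smul_dotProduct, dotProduct_smul, smul_eq_mul, smul_eq_mul]
      ring
    rw [h5] at h4
    exact mul_right_cancel₀ hvv (by rw [one_mul]; exact h4)
  have hl : l = -1 := by
    have h4 : (l - 1) * (l + 1) = 0 := by linear_combination hl2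
    rcases mul_eq_zero.1 h4 with h5 | h5
    · exact absurd (sub_eq_zero.1 h5) hl1
    · exact eq_neg_of_add_eq_zero_left h5
  -- the torus
  have hcha : ∀ k : ℕ, ch ((a0 ^ k : K9ˣ) : K9) = (ch (a0 : K9)) ^ k := by
    intro k
    induction k with
    | zero =>
      rw [pow_zero, pow_zero]
      decide +kernel
    | succ k ih => rw [pow_succ, Units.val_mul, ch_mul, ih, pow_succ]
  have hch0 : ch (a0 : K9) = -1 := by
    have h4 : (⟨1, 1⟩ : K9) ≠ 0 := by decide +kernel
    obtain ⟨k, hk⟩ := hgen (Units.mk0 ⟨1, 1⟩ h4)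
    have h5 : ch (⟨1, 1⟩ : K9) = -1 := by decide +kernel
    have h6 := hcha k
    rw [hk, Units.val_mk0, h5] at h6
    have h7 : ch (a0 : K9) = 1 ∨ ch (a0 : K9) = -1 := by
      have := ch_sq (a0 : K9) a0.ne_zero
      exact mul_self_eq_one_iff.1 this
    rcases h7 with h7 | h7
    · rw [h7, one_pow] at h6
      norm_num at h6
    · exact h7
  have hlk : ∀ k : ℕ, l ^ k = ((ch ((a0 ^ k : K9ˣ) : K9) : ℤ) : A) := by
    intro k
    rw [hcha, hch0, hl]
    push_cast
    rfl
  have htv : ∀ a : K9ˣ, ρ (tor s9 a) *ᵥ v = ((ch (a : K9) : ℤ) : A) • v := by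
    intro a
    obtain ⟨k, rfl⟩ := hgen a
    rw [map_pow (tor s9), had.pow_v, hlk]
  have hbv : ∀ b ∈ _root_.Cfsg.Agent.UThreeGen.MatGroup.borel s9, ρ b *ᵥ v = ((ch (b.1.1 0 0) : ℤ) : A) • v := by
    intro b hb
    obtain ⟨_, ⟨u, rfl⟩, a, rfl⟩ := borel_eq b hb
    rw [emb_tor_00, rho_mulVec, htv, Matrix.mulVec_smul, had.uv _ ⟨u, rfl⟩]
  set c := φ ⬝ᵥ (ρ (wel s9) *ᵥ v) with hc
  have hmem : ∀ g ∈ _root_.Cfsg.Agent.UThreeGen.MatGroup.borel s9, φ ⬝ᵥ (ρ g *ᵥ v) = ((ch (g.1.1 0 0) : ℤ) : A) := by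
    intro g hg
    rw [hbv g hg, dotProduct_smul, had.one, smul_eq_mul, mul_one]
  have hnm : ∀ g ∉ _root_.Cfsg.Agent.UThreeGen.MatGroup.borel s9, φ ⬝ᵥ (ρ g *ᵥ v) = c * ((ch (g.1.1 2 0) : ℤ) : A) := by
    intro g hg
    obtain ⟨_, ⟨u, rfl⟩, hb⟩ := (data_SUG (σ := s9)).bruhat g hg
    set b := (emb s9 u * wel s9)⁻¹ * g with hbdef
    have hgb : g = emb s9 u * wel s9 * b := by rw [hbdef]; group
    have h4 : g.1.1 2 0 = -(b.1.1 0 0) := by
      have h5 := congrFun (col_borel hb (emb s9 u * wel s9)) 2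
      rw [← hgb, col_emb_wel] at h5
      change g.1.1 2 0 = b.1.1 0 0 * (-1) at h5
      rw [h5]; ring
    rw [h4, ch_neg, hgb, rho_mulVec, rho_mulVec, hbv b hb, Matrix.mulVec_smul, Matrix.mulVec_smul, dotProduct_smul,
      had.uφ _ ⟨u, rfl⟩, smul_eq_mul, mul_comm]
  have hwxw : ∀ u : HG s9, φ ⬝ᵥ (ρ (wel s9) *ᵥ (ρ (emb s9 u) *ᵥ (ρ (wel s9) *ᵥ v))) =
      (if u = 1 then 1 else 0) + c * ((ch u.b : ℤ) : A) := by
    intro u
    rw [← rho_mulVec, ← rho_mulVec]
    by_cases hu : u = 1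
    · rw [if_pos hu, hu, map_one, mul_one, wel_mul_wel, map_one, Matrix.one_mulVec, had.one]
      have h4 : ch (1 : HG s9).b = 0 := by rw [one_b]; decide +kernel
      rw [h4, Int.cast_zero, mul_zero, add_zero]
    · rw [if_neg hu, zero_add, hnm]
      · have h1 : (wel s9 * emb s9 u * wel s9).1.1 2 0 = u.b := by
          rw [coe_mul_SUG, coe_mul_SUG, wel_val, emb_val]
          simp [umat, Wm, Matrix.mul_apply, Fin.sum_univ_three]
        rw [h1]
      · intro h
        apply hu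
        have h5 : (wel s9)⁻¹ * emb s9 u * wel s9 ∈ _root_.Cfsg.Agent.UThreeGen.MatGroup.borel s9 := by rwa [wel_inv]
        exact emb_injective (((data_SUG (σ := s9)).inter _ ⟨_, rfl⟩ h5).trans (map_one _).symm)
  -- the two relations
  have rel1 : 1 + 2 * c = 3 * c ^ 2 := by
    have h4 := congrArg (fun t => φ ⬝ᵥ (ρ (wel s9) *ᵥ t)) (hew (ρ (wel s9) *ᵥ v))
    simp only [Matrix.add_mulVec, Matrix.one_mulVec, Matrix.mulVec_add, Matrix.mulVec_smul, dotProduct_add,
      dotProduct_smul, smul_eq_mul] at h4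
    rw [← map_mul (emb s9), hwxw, hwxw] at h4
    have h5 : φ ⬝ᵥ (ρ (wel s9) *ᵥ (ρ (wel s9) *ᵥ v)) = 1 := by
      rw [← rho_mulVec, wel_mul_wel, map_one, Matrix.one_mulVec, had.one]
    have hzb : z.b + s9 z.b = 0 := by rw [z.h, hza, zero_mul]
    have hzz : z * z ≠ 1 := by
      intro h
      apply hz1
      have h6 : (z * z).b = 0 := by rw [h]; rfl
      rw [mul_b, hza, zero_mul, add_zero] at h6
      have h7 : ∀ b : K9, b + b = 0 → b = 0 := by apply forall9; decide +kernel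
      exact HG.ext hza (h7 _ h6)
    have hzzb : (z * z).b + s9 (z * z).b = 0 := by rw [(z * z).h, mul_a, hza, add_zero, zero_mul]
    rw [h5, if_neg hz1, if_neg hzz, ch_im _ hzb (b_ne_zero hz1), ch_im _ hzzb (b_ne_zero hzz), ← hc] at h4
    push_cast at h4
    linear_combination h4
  have rel2 : 1 - 6 * c = 27 * c ^ 2 := by
    set W := ∑ u : HG s9, ρ (emb s9 u) *ᵥ (ρ (wel s9) *ᵥ v) with hW
    have hφW : φ ⬝ᵥ W = 27 * c := by
      rw [hW, dotProduct_sum]
      have h4 : ∀ u : HG s9, φ ⬝ᵥ (ρ (emb s9 u) *ᵥ (ρ (wel s9) *ᵥ v)) = c := fun u => had.uφ _ ⟨u, rfl⟩ _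
      simp only [h4, Finset.sum_const, Finset.card_univ, card_hg, nsmul_eq_mul]
      norm_num
    have hzW : ∀ t : HG s9, ρ (emb s9 t) *ᵥ W = W := by
      intro t
      rw [hW, Matrix.mulVec_sum]
      conv_rhs => rw [← Equiv.sum_comp (Equiv.mulLeft t)]
      refine Finset.sum_congr rfl fun u _ => ?_
      rw [← rho_mulVec, ← map_mul]
      rfl
    have h4 := hew W
    rw [Matrix.add_mulVec, Matrix.add_mulVec, Matrix.one_mulVec, ← map_mul (emb s9), hzW, hzW, hφW] at h4
    have h5 : W = (27 * c) • v := by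
      have h6 : (3 : A) • W = (3 : A) • ((27 * c) • v) := by
        rw [smul_smul, ← h4, show (3 : A) = 1 + 1 + 1 by norm_num, add_smul, add_smul, one_smul]
      have h7 := congrArg (fun t => (3 : A)⁻¹ • t) h6
      simpa only [smul_smul, inv_mul_cancel₀ h3, one_smul, ← mul_assoc, one_mul] using h7
    have h6 := congrArg (fun t => φ ⬝ᵥ (ρ (wel s9) *ᵥ t)) h5
    simp only [Matrix.mulVec_smul, dotProduct_smul, smul_eq_mul] at h6
    rw [hW, Matrix.mulVec_sum, dotProduct_sum, Finset.sum_congr rfl fun u _ => hwxw u, Finset.sum_add_distrib,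
      Finset.sum_ite_eq' Finset.univ (1 : HG s9), if_pos (Finset.mem_univ _), ← Finset.mul_sum, ← Int.cast_sum,
      sum_ch, ← hc] at h6
    push_cast at h6
    linear_combination h6
  have hc3 : 3 * c = -1 := by
    have h4 : (3 * c + 1) * (c - 1) = 0 := by linear_combination -rel1
    rcases mul_eq_zero.1 h4 with h5 | h5
    · linear_combination h5
    · exfalso
      rw [sub_eq_zero.1 h5] at rel2
      apply pow_ne_zero 5 h2
      linear_combination -rel2
  have hΦ : Co (fun g => φ ⬝ᵥ (ρ g *ᵥ v)) c := ⟨hc3, hmem, hnm⟩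
  refine ⟨fU ρ φ, fU_isAlt h2, ?_, fun g => fU_inv g⟩
  intro hf
  have hx0 : (⟨0, 1⟩ : K9) + s9 ⟨0, 1⟩ = 0 * s9 0 := by decide +kernel
  have h4 := fU_eval hΦ 1 (wel s9) (emb s9 (⟨0, ⟨0, 1⟩, hx0⟩ : HG s9) * wel s9)
  rw [hf, T3_emb] at h4
  have h5 : T0 (⟨0, ⟨0, 1⟩, hx0⟩ : HG s9).a (⟨0, ⟨0, 1⟩, hx0⟩ : HG s9).b = -2 := by
    show T0 0 ⟨0, 1⟩ = -2
    decide +kernel
  rw [h5] at h4
  have h6 : (864 : A) = 2 ^ 5 * 3 ^ 3 := by norm_num
  have h7 : (864 : A) ^ 3 * ((-2 : ℤ) : A) ≠ 0 := by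
    refine mul_ne_zero (pow_ne_zero _ ?_) ?_
    · rw [h6]
      exact mul_ne_zero (pow_ne_zero _ h2) (pow_ne_zero _ h3)
    · push_cast
      exact neg_ne_zero.2 h2
  exact h7 h4.symm

end main

end Cfsg.Agent.H856.U33
end

-- part: H856/L13a
section
/-!
# `L₂(13)` : the alternating 3-forms on the monomial module of degree 14 (tables)
-/

set_option autoImplicit false

namespace Cfsg.Agent.H856.L13

/-- the two odd functions -/
def hh (m : Bool) : ZMod 13 → ℤ :=
  if m then (![0, 1, 0, 1, -1, 0, 0, 0, 0, 1, -1, 0, -1] : Fin 13 → ℤ)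
  else (![0, 0, 1, 0, 0, 1, 1, -1, -1, 0, 0, -1, 0] : Fin 13 → ℤ)

/-- the quadratic character -/
def et : ZMod 13 → ℤ := (![1, 1, -1, 1, 1, -1, -1, -1, -1, 1, 1, -1, 1] : Fin 13 → ℤ)

/-- the table -/
def TT (m : Bool) : Option (ZMod 13) → Option (ZMod 13) → Option (ZMod 13) → ℤ
  | some a, some b, some c => hh m ((a - b) * (b - c) * (c - a))
  | none, some b, some c => hh m (c - b)
  | some a, none, some c => hh m (a - c)
  | some a, some b, none => hh m (b - a)
  | _, _, _ => 0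

/-- the points -/
def wi : ZMod 13 → Option (ZMod 13) := (![none, some 12, some 6, some 4, some 3, some 5, some 2,
  some 11, some 8, some 10, some 9, some 7, some 1] : Fin 13 → Option (ZMod 13))

/-- the action of `w` on the points -/
def ws : Option (ZMod 13) → Option (ZMod 13)
  | none => some 0
  | some a => wi a

/-- the signs of `w` -/
def we : Option (ZMod 13) → ℤ
  | none => 1
  | some a => et a

/-- the action of `u 1` on the points -/
def us : Option (ZMod 13) → Option (ZMod 13)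
  | none => none
  | some a => some (a - 1)

private def hN (m : Bool) (n : ℕ) : ℤ :=
  Int.subNatNat (Nat.land (Nat.shiftRight (bif m then 4805785 else 18098533) (Nat.mul 2 (Nat.mod n 13))) 3) 1

private theorem hh_val : ∀ (m : Bool) (x : ZMod 13), hh m x = hN m x.val := by decide +kernel

private theorem hh_prod (m : Bool) (a b c : ZMod 13) : hh m ((a - b) * (b - c) * (c - a)) =
    hN m (Nat.mul (Nat.mul (Nat.add a.val (Nat.mul 12 b.val)) (Nat.add b.val (Nat.mul 12 c.val)))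
      (Nat.add c.val (Nat.mul 12 a.val))) := by
  have e : (a - b) * (b - c) * (c - a) =
      (((a.val + 12 * b.val) * (b.val + 12 * c.val) * (c.val + 12 * a.val) : ℕ) : ZMod 13) := by
    have h : ((12 : ℕ) : ZMod 13) = -1 := rfl
    simp only [Nat.cast_mul, Nat.cast_add, ZMod.natCast_zmod_val, h]
    ring
  rw [hh_val, e, ZMod.val_natCast]
  exact congrArg (fun n => Int.subNatNat (Nat.land (Nat.shiftRight (bif m then 4805785 else 18098533) (Nat.mul 2 n)) 3) 1)
    (Nat.mod_mod _ 13)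

private theorem hh_neg : ∀ (m : Bool) (x : ZMod 13), hh m (-x) = - hh m x := by decide +kernel

private theorem hh_anti (m : Bool) {x y : ZMod 13} (h : x = -y) : hh m x = - hh m y := h ▸ hh_neg m y

private def TN (m : Bool) : Option (ZMod 13) → Option (ZMod 13) → Option (ZMod 13) → ℤ
  | some a, some b, some c => hN m (Nat.mul (Nat.mul (Nat.add a.val (Nat.mul 12 b.val)) (Nat.add b.val (Nat.mul 12 c.val)))
      (Nat.add c.val (Nat.mul 12 a.val)))
  | none, some b, some c => hN m (c - b).val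
  | some a, none, some c => hN m (a - c).val
  | some a, some b, none => hN m (b - a).val
  | _, _, _ => 0

private theorem TT_TN (m : Bool) : ∀ a b c, TT m a b c = TN m a b c
  | some a, some b, some c => hh_prod m a b c
  | none, some _, some _ => hh_val m _
  | some _, none, some _ => hh_val m _
  | some _, some _, none => hh_val m _
  | none, none, some _ => rfl
  | none, some _, none => rfl
  | some _, none, none => rfl
  | none, none, none => rfl

theorem TT12 (m : Bool) : ∀ a b c, TT m b a c = - TT m a b c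
  | some a, some b, some c => hh_anti m (by ring)
  | none, some _, some _ => hh_anti m (neg_sub _ _).symm
  | some _, none, some _ => hh_anti m (neg_sub _ _).symm
  | some _, some _, none => hh_anti m (neg_sub _ _).symm
  | none, none, some _ => rfl
  | none, some _, none => rfl
  | some _, none, none => rfl
  | none, none, none => rfl

theorem TT23 (m : Bool) : ∀ a b c, TT m a c b = - TT m a b c
  | some a, some b, some c => hh_anti m (by ring)
  | none, some _, some _ => hh_anti m (neg_sub _ _).symm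
  | some _, none, some _ => hh_anti m (neg_sub _ _).symm
  | some _, some _, none => hh_anti m (neg_sub _ _).symm
  | none, none, some _ => rfl
  | none, some _, none => rfl
  | some _, none, none => rfl
  | none, none, none => rfl

theorem TTw (m : Bool) : ∀ a b c, we a * we b * we c * TT m a b c = TT m (ws a) (ws b) (ws c) := by
  simp only [TT_TN]
  revert m; (set_option synthInstance.maxSize 100000 in exact Cfsg.Agent.Lib.Refl.of (by decide +kernel))

theorem TTu (m : Bool) : ∀ a b c, TT m a b c = TT m (us a) (us b) (us c)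
  | some a, some b, some c => congrArg (hh m) (by ring)
  | none, some _, some _ => congrArg (hh m) (sub_sub_sub_cancel_right _ _ _).symm
  | some _, none, some _ => congrArg (hh m) (sub_sub_sub_cancel_right _ _ _).symm
  | some _, some _, none => congrArg (hh m) (sub_sub_sub_cancel_right _ _ _).symm
  | none, none, some _ => rfl
  | none, some _, none => rfl
  | some _, none, none => rfl
  | none, none, none => rfl

theorem ws_ws : ∀ a, ws (ws a) = a := by decide +kernel

theorem ws_some : ∀ a : ZMod 13, a ≠ 0 → ws (some a) = some (-a⁻¹) := by decide +kernel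

/-- the sums -/
theorem sums : ∀ s : ZMod 13, ∑ b : ZMod 13, ∑ c : ZMod 13,
    hh true (((-(3 * b) - 9 * c - s) - b) * (b - c) * (c - (-(3 * b) - 9 * c - s))) =
      26 * (-3 * hh true s + 2 * hh false s) := by
  simp only [hh_prod]
  (delta Cfsg.Agent.H856.L13.hh; set_option synthInstance.maxSize 100000 in exact Cfsg.Agent.Lib.Refl.of (by decide +kernel))

theorem sums' : ∀ s : ZMod 13, ∑ b : ZMod 13, ∑ c : ZMod 13,
    hh false (((-(3 * b) - 9 * c - s) - b) * (b - c) * (c - (-(3 * b) - 9 * c - s))) =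
      26 * (2 * hh true s + 3 * hh false s) := by
  simp only [hh_prod]
  decide +kernel

end Cfsg.Agent.H856.L13
end

-- part: H856/L13b
section
/-!
# `L₂(13)` : an invariant alternating 3-form in dimension 7 (helper856)
-/

set_option autoImplicit false
set_option linter.unusedSectionVars false

namespace Cfsg.Agent.H856.L13

open Matrix Module Cfsg.Agent.H464.Sl2 Cfsg.Agent.H179.G2 Cfsg.Agent.H856.Tri

/-! ### Generation -/

section gen

theorem u_natCast {K : Type*} [Field K] (n : ℕ) : u ((n : ℕ) : K) = u (1 : K) ^ n := by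
  induction n with
  | zero => rw [Nat.cast_zero, u_zero, pow_zero]
  | succ n ih => rw [Nat.cast_succ, u_add, ih, pow_succ]

theorem low_eq {K : Type*} [Field K] (a : Kˣ) :
    w a = u (-((a⁻¹ : Kˣ) : K)) * (w 1 * u (-(a : K)) * (w 1)⁻¹) * u (-((a⁻¹ : Kˣ) : K)) := by
  have h : (w (1 : Kˣ))⁻¹ = w (-1 : Kˣ) := by
    rw [inv_eq_iff_mul_eq_one, w_mul_w]
    rw [show (-((-1 : Kˣ) / 1)) = 1 by simp, t_one]
  rw [h]
  apply Subtype.ext
  ext i j
  (revert i j; simp [_root_.Fin.forall_fin_succ])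

instance : Fact (Nat.Prime 13) := ⟨by norm_num⟩

/-- `SL₂(13)` is generated by `u 1` and `w 1` -/
theorem gen_top (S : Subgroup (_root_.Matrix.SpecialLinearGroup (Fin 2) (ZMod 13))) (hu : u (1 : ZMod 13) ∈ S) (hw : w 1 ∈ S) :
    S = ⊤ := by
  have hux : ∀ x : ZMod 13, u x ∈ S := by
    intro x
    have : x = ((x.val : ℕ) : ZMod 13) := by rw [ZMod.natCast_val, ZMod.cast_id]
    rw [this, u_natCast]
    exact S.pow_mem hu _
  have hwa : ∀ a : (ZMod 13)ˣ, w a ∈ S := by
    intro a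
    rw [low_eq]
    exact S.mul_mem (S.mul_mem (hux _) (S.mul_mem (S.mul_mem hw (hux _)) (S.inv_mem hw))) (hux _)
  have hta : ∀ a : (ZMod 13)ˣ, t a ∈ S := by
    intro a
    have : t a = (w 1)⁻¹ * w a := by rw [eq_inv_mul_iff_mul_eq, w_one_mul_t]
    rw [this]
    exact S.mul_mem (S.inv_mem hw) (hwa a)
  rw [eq_top_iff]
  intro g _
  rcases bruhat g with ⟨x, a, rfl⟩ | ⟨x, c, y, rfl⟩
  · exact S.mul_mem (hux _) (hta _)
  · exact S.mul_mem (S.mul_mem (hux _) (hwa _)) (hux _)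

end gen

variable {k : Type*} [Field k] {V : Type*} [AddCommGroup V]
  [Module k V] [FiniteDimensional k V] {R : _root_.Matrix.SpecialLinearGroup (Fin 2) (ZMod 13) →* Module.End k V}
  {ψ : AddChar (ZMod 13) k} {v : V} {lam : (ZMod 13)ˣ →* k}

/-- the functionals -/
noncomputable def ph (R : _root_.Matrix.SpecialLinearGroup (Fin 2) (ZMod 13) →* Module.End k V) (φ : V →ₗ[k] k) :
    Option (ZMod 13) → V →ₗ[k] k
  | none => φ
  | some a => φ ∘ₗ (R (w 1) * R (u (-a)))

section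

variable (h : Hw R ψ v lam) {φ : V →ₗ[k] k} (hE : E R ψ 0 = φ.smulRight v)

include h hE

theorem phi_E (y : V) : E R ψ 0 y = φ y • v := by rw [hE]; rfl

theorem eq_of_smul {a b : k} (hab : a • v = b • v) : a = b := by
  have h1 : (a - b) • v = 0 := by rw [sub_smul, hab, sub_self]
  exact sub_eq_zero.1 ((smul_eq_zero.1 h1).resolve_right h.ne)

theorem phi_u (x : ZMod 13) (y : V) : φ (R (u x) y) = φ y := by
  apply eq_of_smul h hE
  rw [← phi_E h hE, ← phi_E h hE, E_zero_u]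

theorem phi_t (a : (ZMod 13)ˣ) (y : V) : φ (R (t a) y) = lam a * φ y := by
  apply eq_of_smul h hE
  rw [← phi_E h hE, E_zero_t, phi_E h hE, map_smul, h.tor, smul_smul, mul_comm]

variable (hl : ∀ a, lam a = ((et (a : ZMod 13) : ℤ) : k))

include hl

theorem ph_u (a : Option (ZMod 13)) (x : V) : ph R φ a (R (u 1) x) = ph R φ (us a) x := by
  cases a with
  | none => exact phi_u h hE 1 x
  | some a =>
    show φ (R (w 1) (R (u (-a)) (R (u 1) x))) = φ (R (w 1) (R (u (-(a - 1))) x))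
    rw [← Module.End.mul_apply (R (u (-a))), ← map_mul, ← u_add]
    congr 5
    ring

theorem ph_w (a : Option (ZMod 13)) (x : V) : ph R φ a (R (w 1) x) = ((we a : ℤ) : k) * ph R φ (ws a) x := by
  cases a with
  | none =>
    show φ (R (w 1) x) = ((1 : ℤ) : k) * φ (R (w 1) (R (u (-0)) x))
    rw [neg_zero, u_zero, map_one, Module.End.one_apply, Int.cast_one, one_mul]
  | some a =>
    by_cases ha : a = 0
    · subst ha
      show φ (R (w 1) (R (u (-0)) (R (w 1) x))) = ((1 : ℤ) : k) * φ x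
      rw [neg_zero, u_zero, map_one, Module.End.one_apply, ← Module.End.mul_apply (R (w 1)), ← map_mul, w_mul_w,
        phi_t h hE, hl, div_one]
      congr 2
    · rw [ws_some a ha]
      show φ (R (w 1) (R (u (-a)) (R (w 1) x))) = ((et a : ℤ) : k) * φ (R (w 1) (R (u (-(-a⁻¹))) x))
      have hna : -a ≠ 0 := neg_ne_zero.2 ha
      have e2 := w_u_w (1 : (ZMod 13)ˣ) 1 (Units.mk0 (-a) hna)
      rw [Units.val_mk0] at e2
      rw [← Module.End.mul_apply (R (w 1)), ← map_mul, ← Module.End.mul_apply, ← map_mul, e2, map_mul, map_mul,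
        Module.End.mul_apply, Module.End.mul_apply, phi_u h hE, ← w_one_mul_t, ← inv_inv (1 * 1 * Units.mk0 (-a) hna),
        ← t_mul_w, map_mul, Module.End.mul_apply, phi_t h hE, hl]
      congr 2
      · have h3 : ∀ b : ZMod 13, b ≠ 0 → et (-b⁻¹) = et b := by decide +kernel
        simp [h3 a ha]
      · congr 4
        simp

end

/-! ### Signs -/

theorem sq_eq_one_iff_of_side_cases {x : k} (h : x ^ 2 = 1) : x = 1 ∨ x = -1 := by
  have h1 : (x - 1) * (x + 1) = 0 := by linear_combination h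
  rcases mul_eq_zero.1 h1 with h | h
  · exact Or.inl (sub_eq_zero.1 h)
  · exact Or.inr (eq_neg_of_add_eq_zero_left h)

theorem lam_eq_et (hsq : ∀ a, lam a ^ 2 = 1) (hne : ∃ a, lam a ≠ 1) (a : (ZMod 13)ˣ) :
    lam a = ((et (a : ZMod 13) : ℤ) : k) := by
  have h2u : (2 : ZMod 13) ≠ 0 := by decide
  set c : (ZMod 13)ˣ := Units.mk0 2 h2u with hc
  have key : ∀ a : ZMod 13, a ≠ 0 → ∃ n : Fin 12, a = 2 ^ (n : ℕ) ∧ et a = (-1) ^ (n : ℕ) := by decide +kernel
  have key' : ∀ a : (ZMod 13)ˣ, ∃ n : ℕ, a = c ^ n ∧ et (a : ZMod 13) = (-1) ^ n := by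
    intro a
    obtain ⟨n, h1, h2⟩ := key a a.ne_zero
    refine ⟨n, ?_, h2⟩
    apply Units.ext
    rw [h1, hc]
    simp
  have hc1 : lam c = -1 := by
    rcases sq_eq_one_iff_of_side_cases (hsq c) with h | h
    · exfalso
      obtain ⟨a, ha⟩ := hne
      obtain ⟨n, hn, -⟩ := key' a
      apply ha
      rw [hn, map_pow, h, one_pow]
    · exact h
  obtain ⟨n, hn, he⟩ := key' a
  rw [he]
  conv_lhs => rw [hn, map_pow, hc1]
  push_cast
  rfl

/-! ### The form -/

/-- the action of `w` on the points -/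
def wsE : Option (ZMod 13) ≃ Option (ZMod 13) := ⟨ws, ws, ws_ws, ws_ws⟩

/-- the action of `u 1` on the points -/
def usE : Option (ZMod 13) ≃ Option (ZMod 13) where
  toFun := us
  invFun a := match a with
    | none => none
    | some a => some (a + 1)
  left_inv a := by cases a <;> simp [us]
  right_inv a := by cases a <;> simp [us]

/-- the form -/
noncomputable def fm (R : _root_.Matrix.SpecialLinearGroup (Fin 2) (ZMod 13) →* Module.End k V) (φ : V →ₗ[k] k) (m : Bool) :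
    V →ₗ[k] V →ₗ[k] V →ₗ[k] k :=
  ofTable (fun a b c => ((TT m a b c : ℤ) : k)) (ph R φ)

theorem fm_isAlt (h2 : (2 : k) ≠ 0) (φ : V →ₗ[k] k) (m : Bool) : IsAltForm (fm R φ m) :=
  ofTable_isAlt h2 _ (fun a b c => by rw [TT12, Int.cast_neg]) (fun a b c => by rw [TT23, Int.cast_neg])

theorem fm_inv (h : Hw R ψ v lam) {φ : V →ₗ[k] k} (hE : E R ψ 0 = φ.smulRight v)
    (hl : ∀ a, lam a = ((et (a : ZMod 13) : ℤ) : k)) (m : Bool) (g : _root_.Matrix.SpecialLinearGroup (Fin 2) (ZMod 13))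
    (x y z : V) : fm R φ m (R g x) (R g y) (R g z) = fm R φ m x y z := by
  let S : Subgroup (_root_.Matrix.SpecialLinearGroup (Fin 2) (ZMod 13)) :=
    { carrier := {g | ∀ x y z, fm R φ m (R g x) (R g y) (R g z) = fm R φ m x y z}
      mul_mem' := fun {g h} hg hh x y z => by
        rw [map_mul]
        exact (hg _ _ _).trans (hh _ _ _)
      one_mem' := fun x y z => by rw [map_one]; rfl
      inv_mem' := fun {g} hg x y z => by
        have h1 := hg (R g⁻¹ x) (R g⁻¹ y) (R g⁻¹ z)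
        have h3 : ∀ x, R g (R g⁻¹ x) = x := fun x => by
          rw [← Module.End.mul_apply, ← map_mul, mul_inv_cancel, map_one]; rfl
        rw [h3, h3, h3] at h1
        exact h1.symm }
  have hS : S = ⊤ := by
    apply gen_top
    · intro x y z
      refine ofTable_inv usE (fun _ => 1) (fun a x => ?_) (fun a b c => ?_) x y z
      · rw [one_mul]
        exact ph_u h hE hl a x
      · rw [one_mul, one_mul, one_mul]
        exact congrArg (Int.cast : ℤ → k) (TTu m a b c)
    · intro x y z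
      refine ofTable_inv wsE (fun a => ((we a : ℤ) : k)) (fun a x => ?_) (fun a b c => ?_) x y z
      · exact ph_w h hE hl a x
      · have h3 := congrArg (Int.cast : ℤ → k) (TTw m a b c)
        push_cast at h3
        exact h3
  have : g ∈ S := by rw [hS]; trivial
  exact this x y z

/-- evaluation on weight vectors -/
theorem fm_eval {φ : V →ₗ[k] k} {x y z : V} {α β γ : k}
    (hx0 : φ x = 0) (hy0 : φ y = 0) (hz0 : φ z = 0)
    (hx : ∀ a, ph R φ (some a) x = ψ (-a) * α) (hy : ∀ a, ph R φ (some a) y = ψ (-(3 * a)) * β)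
    (hz : ∀ a, ph R φ (some a) z = ψ (-(9 * a)) * γ) (m : Bool) :
    fm R φ m x y z = α * β * γ * ∑ s : ZMod 13, ((∑ b : ZMod 13, ∑ c : ZMod 13,
      hh m (((-(3 * b) - 9 * c - s) - b) * (b - c) * (c - (-(3 * b) - 9 * c - s))) : ℤ) : k) * ψ s := by
  have h1 : fm R φ m x y z = ∑ a, ∑ b, ∑ c, ((TT m a b c : ℤ) : k) * (ph R φ a x * ph R φ b y * ph R φ c z) := rfl
  rw [h1]
  simp only [Fintype.sum_option]
  have e0 : ph R φ none x = 0 := hx0
  have e1 : ph R φ none y = 0 := hy0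
  have e2 : ph R φ none z = 0 := hz0
  simp only [e0, e1, e2, mul_zero, zero_mul, Finset.sum_const_zero, zero_add]
  have h3 : ∀ a b c : ZMod 13, ((TT m (some a) (some b) (some c) : ℤ) : k) *
      (ph R φ (some a) x * ph R φ (some b) y * ph R φ (some c) z) =
      α * β * γ * (((hh m ((a - b) * (b - c) * (c - a)) : ℤ) : k) * ψ (-(3 * b) - 9 * c - a)) := by
    intro a b c
    have h4 : ψ (-(3 * b) - 9 * c - a) = ψ (-a) * ψ (-(3 * b)) * ψ (-(9 * c)) := by
      rw [← AddChar.map_add_eq_mul, ← AddChar.map_add_eq_mul]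
      congr 1
      ring
    rw [hx, hy, hz, h4]
    show ((hh m ((a - b) * (b - c) * (c - a)) : ℤ) : k) * _ = _
    ring
  simp only [h3]
  have h5 : ∑ a : ZMod 13, ∑ b : ZMod 13, ∑ c : ZMod 13,
      α * β * γ * (((hh m ((a - b) * (b - c) * (c - a)) : ℤ) : k) * ψ (-(3 * b) - 9 * c - a)) =
      ∑ b : ZMod 13, ∑ c : ZMod 13, ∑ a : ZMod 13,
      α * β * γ * (((hh m ((a - b) * (b - c) * (c - a)) : ℤ) : k) * ψ (-(3 * b) - 9 * c - a)) := by
    rw [Finset.sum_comm]
    refine Finset.sum_congr rfl fun b _ => ?_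
    rw [Finset.sum_comm]
  rw [h5]
  have h6 : ∀ b c : ZMod 13, ∑ a : ZMod 13,
      α * β * γ * (((hh m ((a - b) * (b - c) * (c - a)) : ℤ) : k) * ψ (-(3 * b) - 9 * c - a)) =
      ∑ s : ZMod 13, α * β * γ * (((hh m (((-(3 * b) - 9 * c - s) - b) * (b - c) * (c - (-(3 * b) - 9 * c - s))) : ℤ) : k) *
        ψ s) := by
    intro b c
    rw [← Equiv.sum_comp (Equiv.subLeft (-(3 * b) - 9 * c))]
    refine Finset.sum_congr rfl fun s _ => ?_
    rw [Equiv.subLeft_apply, sub_sub_cancel]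
  simp only [h6]
  have h7 : ∑ b : ZMod 13, ∑ c : ZMod 13, ∑ s : ZMod 13,
      α * β * γ * (((hh m (((-(3 * b) - 9 * c - s) - b) * (b - c) * (c - (-(3 * b) - 9 * c - s))) : ℤ) : k) * ψ s) =
      ∑ s : ZMod 13, ∑ b : ZMod 13, ∑ c : ZMod 13,
      α * β * γ * (((hh m (((-(3 * b) - 9 * c - s) - b) * (b - c) * (c - (-(3 * b) - 9 * c - s))) : ℤ) : k) * ψ s) := by
    calc _ = ∑ b : ZMod 13, ∑ s : ZMod 13, ∑ c : ZMod 13, _ := Finset.sum_congr rfl fun b _ => Finset.sum_comm
      _ = _ := Finset.sum_comm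
  rw [h7, Finset.mul_sum]
  refine Finset.sum_congr rfl fun s _ => ?_
  push_cast
  simp only [Finset.sum_mul, Finset.mul_sum]

theorem sum13 (f : Fin 13 → k) : ∑ s, f s = f 0 + f 1 + f 2 + f 3 + f 4 + f 5 + f 6 + f 7 + f 8 + f 9 + f 10 +
    f 11 + f 12 := by
  simp only [Fin.sum_univ_succ, Fin.sum_univ_zero]
  simp only [add_zero, ← add_assoc]
  rfl

/-- the two odd sums do not vanish simultaneously -/
theorem odd_sums (hψ : ψ.IsPrimitive) :
    (∑ s, ((hh true s : ℤ) : k) * ψ s) ^ 2 + (∑ s, ((hh false s : ℤ) : k) * ψ s) ^ 2 = -13 := by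
  have h0 : ∑ s, ψ s = 0 := by
    have := AddChar.sum_mulShift (ψ := ψ) (1 : ZMod 13) hψ
    simpa only [_root_.mul_one, _root_.one_ne_zero, ↓ _root_.reduceIte, _root_.Nat.cast_zero] using this
  have hz : ∀ n : ℕ, ψ ((n : ℕ) : ZMod 13) = ψ 1 ^ n := by
    intro n
    rw [← AddChar.map_nsmul_eq_pow, nsmul_eq_mul, mul_one]
  set ζ := ψ 1 with hζ
  have e : ∀ f : ZMod 13 → k, ∑ s, f s = f 0 + f 1 + f 2 + f 3 + f 4 + f 5 + f 6 + f 7 + f 8 + f 9 + f 10 +
      f 11 + f 12 := fun f => sum13 f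
  have z0 : ψ 0 = 1 := AddChar.map_zero_eq_one ψ
  have z2 : ψ 2 = ζ ^ 2 := hz 2
  have z3 : ψ 3 = ζ ^ 3 := hz 3
  have z4 : ψ 4 = ζ ^ 4 := hz 4
  have z5 : ψ 5 = ζ ^ 5 := hz 5
  have z6 : ψ 6 = ζ ^ 6 := hz 6
  have z7 : ψ 7 = ζ ^ 7 := hz 7
  have z8 : ψ 8 = ζ ^ 8 := hz 8
  have z9 : ψ 9 = ζ ^ 9 := hz 9
  have z10 : ψ 10 = ζ ^ 10 := hz 10
  have z11 : ψ 11 = ζ ^ 11 := hz 11
  have z12 : ψ 12 = ζ ^ 12 := hz 12
  rw [e, z0, z2, z3, z4, z5, z6, z7, z8, z9, z10, z11, z12, ← hζ] at h0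
  rw [e, e, z0, z2, z3, z4, z5, z6, z7, z8, z9, z10, z11, z12, ← hζ]
  have t0 : hh true 0 = 0 := rfl
  have t1 : hh true 1 = 1 := rfl
  have t2 : hh true 2 = 0 := rfl
  have t3 : hh true 3 = 1 := rfl
  have t4 : hh true 4 = -1 := rfl
  have t5 : hh true 5 = 0 := rfl
  have t6 : hh true 6 = 0 := rfl
  have t7 : hh true 7 = 0 := rfl
  have t8 : hh true 8 = 0 := rfl
  have t9 : hh true 9 = 1 := rfl
  have t10 : hh true 10 = -1 := rfl
  have t11 : hh true 11 = 0 := rfl
  have t12 : hh true 12 = -1 := rfl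
  have f0 : hh false 0 = 0 := rfl
  have f1 : hh false 1 = 0 := rfl
  have f2 : hh false 2 = 1 := rfl
  have f3 : hh false 3 = 0 := rfl
  have f4 : hh false 4 = 0 := rfl
  have f5 : hh false 5 = 1 := rfl
  have f6 : hh false 6 = 1 := rfl
  have f7 : hh false 7 = -1 := rfl
  have f8 : hh false 8 = -1 := rfl
  have f9 : hh false 9 = 0 := rfl
  have f10 : hh false 10 = 0 := rfl
  have f11 : hh false 11 = -1 := rfl
  have f12 : hh false 12 = 0 := rfl
  rw [t0, t1, t2, t3, t4, t5, t6, t7, t8, t9, t10, t11, t12, f0, f1, f2, f3, f4, f5, f6, f7, f8, f9, f10, f11, f12]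
  push_cast
  linear_combination (13 - 13 * ζ + ζ ^ 2 - ζ ^ 3 + 3 * ζ ^ 4 - 5 * ζ ^ 5 + 3 * ζ ^ 6 - ζ ^ 7 + 3 * ζ ^ 8 -
    5 * ζ ^ 9 + 3 * ζ ^ 10 - ζ ^ 11 + ζ ^ 12) * h0

/-- **the invariant form** -/
theorem exists_form (hψ : ψ.IsPrimitive) (hK : (Fintype.card (ZMod 13) : k) ≠ 0) (h2 : (2 : k) ≠ 0)
    (hspan : Submodule.span k (Set.range R) = ⊤) (h : Hw R ψ v lam)
    (h1 : finrank k (LinearMap.range (E R ψ 0)) = 1) (hne : ∃ a, lam a ≠ 1) (hE1 : E R ψ 1 ≠ 0) :
    ∃ f : V →ₗ[k] V →ₗ[k] V →ₗ[k] k, IsAltForm f ∧ f ≠ 0 ∧ ∀ g x y z, f (R g x) (R g y) (R g z) = f x y z := by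
  obtain ⟨c, hc0, hc, -, hsq, -, -, φ, hφ, hE⟩ := h.one hψ hK hspan h1
  have hl := lam_eq_et hsq hne
  -- weight vectors
  have hEb : ∀ a : (ZMod 13)ˣ, E R ψ (1 / (a : ZMod 13) ^ 2) ≠ 0 := by
    intro a h0
    apply hE1
    have h3 := t_mul_E R ψ a 1
    rw [h0, zero_mul] at h3
    have h4 : R (t a⁻¹) * (R (t a) * E R ψ 1) = E R ψ 1 := by
      rw [← mul_assoc, ← map_mul, ← t_mul, inv_mul_cancel, t_one, map_one, one_mul]
    rw [← h4, h3, mul_zero]
  have h3n : (3 : ZMod 13) ≠ 0 := by decide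
  have h4n : (4 : ZMod 13) ≠ 0 := by decide
  have hE3 : E R ψ 3 ≠ 0 := by
    have := hEb (Units.mk0 3 h3n)
    have h5 : (1 : ZMod 13) / ((Units.mk0 (3 : ZMod 13) h3n : (ZMod 13)ˣ) : ZMod 13) ^ 2 = 3 := by
      rw [Units.val_mk0]
      decide +kernel
    rwa [h5] at this
  have hE9 : E R ψ 9 ≠ 0 := by
    have := hEb (Units.mk0 4 h4n)
    have h5 : (1 : ZMod 13) / ((Units.mk0 (4 : ZMod 13) h4n : (ZMod 13)ˣ) : ZMod 13) ^ 2 = 9 := by
      rw [Units.val_mk0]
      decide +kernel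
    rwa [h5] at this
  have wt : ∀ b : ZMod 13, b ≠ 0 → E R ψ b ≠ 0 → ∃ (x : V) (α : k), α ≠ 0 ∧ φ x = 0 ∧
      ∀ a, ph R φ (some a) x = ψ (-(b * a)) * α := by
    intro b hb hEb
    set x := E R ψ b (R (w 1) v) with hx
    have hx0 : x ≠ 0 := fun h0 => hEb (h.E_eq_zero hψ hK hspan hb h0)
    have hux : ∀ y, R (u y) x = ψ (b * y) • x := by
      intro y
      have h3 := congrArg (fun f : Module.End k V => f (R (w 1) v)) (R_mul_E R ψ b y)
      simpa only [Module.End.mul_apply, LinearMap.smul_apply] using h3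
    have hφx : φ x = 0 := by
      apply eq_of_smul h hE
      rw [← phi_E h hE, zero_smul, hx, ← Module.End.mul_apply, E_mul_of_ne R hψ hK (Ne.symm hb), LinearMap.zero_apply]
    refine ⟨x, φ (R (w 1) x), ?_, hφx, ?_⟩
    · intro h0
      have key : ∀ g, φ (R g x) = 0 := by
        intro g
        rcases bruhat g with ⟨y, a, rfl⟩ | ⟨y, c, z, rfl⟩
        · rw [map_mul, Module.End.mul_apply, phi_u h hE, phi_t h hE, hφx, mul_zero]
        · have e3 : w c = t c⁻¹ * w 1 := by rw [t_mul_w, inv_inv, w_one_mul_t]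
          rw [map_mul, map_mul, Module.End.mul_apply, Module.End.mul_apply, phi_u h hE, hux, map_smul, map_smul,
            e3, MonoidHom.map_mul, Module.End.mul_apply, phi_t h hE, h0, mul_zero, smul_zero]
      have key2 : ∀ A : Module.End k V, φ (A x) = 0 := by
        intro A
        have hA : A ∈ Submodule.span k (Set.range R) := by rw [hspan]; trivial
        induction hA using Submodule.span_induction with
        | mem y hy => obtain ⟨g, rfl⟩ := hy; exact key g
        | zero => rw [LinearMap.zero_apply, map_zero]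
        | add a b _ _ ha hb => rw [LinearMap.add_apply, map_add, ha, hb, add_zero]
        | smul r a _ ha => rw [LinearMap.smul_apply, map_smul, ha, smul_zero]
      obtain ⟨χ, hχ⟩ := exists_dual (k := k) hx0
      have h5 := key2 (χ.smulRight v)
      rw [LinearMap.smulRight_apply, hχ, one_smul, hφ] at h5
      exact one_ne_zero h5
    · intro a
      show φ (R (w 1) (R (u (-a)) x)) = _
      rw [hux, map_smul, map_smul, smul_eq_mul, mul_neg]
  obtain ⟨x, α, hα, hx0, hx⟩ := wt 1 one_ne_zero hE1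
  obtain ⟨y, β, hβ, hy0, hy⟩ := wt 3 h3n hE3
  obtain ⟨z, γ, hγ, hz0, hz⟩ := wt 9 (by decide) hE9
  have hx' : ∀ a, ph R φ (some a) x = ψ (-a) * α := fun a => by rw [hx, one_mul]
  have e1 := fm_eval (ψ := ψ) hx0 hy0 hz0 hx' hy hz true
  have e2 := fm_eval (ψ := ψ) hx0 hy0 hz0 hx' hy hz false
  simp only [sums, sums'] at e1 e2
  set g1 := ∑ s, ((hh true s : ℤ) : k) * ψ s with hg1
  set g2 := ∑ s, ((hh false s : ℤ) : k) * ψ s with hg2
  have e1' : fm R φ true x y z = α * β * γ * (26 * (-3 * g1 + 2 * g2)) := by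
    rw [e1, hg1, hg2]
    congr 1
    rw [Finset.mul_sum, Finset.mul_sum, ← Finset.sum_add_distrib, Finset.mul_sum]
    refine Finset.sum_congr rfl fun s _ => ?_
    push_cast
    ring
  have e2' : fm R φ false x y z = α * β * γ * (26 * (2 * g1 + 3 * g2)) := by
    rw [e2, hg1, hg2]
    congr 1
    rw [Finset.mul_sum, Finset.mul_sum, ← Finset.sum_add_distrib, Finset.mul_sum]
    refine Finset.sum_congr rfl fun s _ => ?_
    push_cast
    ring
  have h13 : (13 : k) ≠ 0 := by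
    rw [ZMod.card] at hK
    exact_mod_cast hK
  have h26 : (26 : k) ≠ 0 := by
    have : (26 : k) = 2 * 13 := by norm_num
    rw [this]
    exact mul_ne_zero h2 h13
  have hαβγ := mul_ne_zero (mul_ne_zero hα hβ) hγ
  by_cases hf : fm R φ true = 0
  · refine ⟨fm R φ false, fm_isAlt h2 φ false, ?_, fm_inv h hE hl false⟩
    intro hf'
    rw [hf] at e1'
    rw [hf'] at e2'
    have q1 : -3 * g1 + 2 * g2 = 0 := (mul_eq_zero.1 ((mul_eq_zero.1 e1'.symm).resolve_left hαβγ)).resolve_left h26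
    have q2 : 2 * g1 + 3 * g2 = 0 := (mul_eq_zero.1 ((mul_eq_zero.1 e2'.symm).resolve_left hαβγ)).resolve_left h26
    have q3 : g1 = 0 := by
      apply (mul_eq_zero.1 _).resolve_left h13
      linear_combination -3 * q1 + 2 * q2
    have q4 : g2 = 0 := by
      apply (mul_eq_zero.1 _).resolve_left h13
      linear_combination 2 * q1 + 3 * q2
    have q5 := odd_sums (k := k) hψ
    rw [← hg1, ← hg2, q3, q4] at q5
    apply h13
    linear_combination q5
  · exact ⟨fm R φ true, fm_isAlt h2 φ true, hf, fm_inv h hE hl true⟩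

end Cfsg.Agent.H856.L13
end

-- part: H856/L13c
section
/-!
# `L₂(13)` : an invariant alternating 3-form in dimension 7, for a core (helper856)
-/

set_option autoImplicit false
set_option linter.unusedSectionVars false

namespace Cfsg.Agent.H856.L13

open Matrix Module Cfsg Cfsg.Geo Cfsg.Agent.H464.Sl2 Cfsg.Agent.H179.G2 Cfsg.Agent.H856.Tri Cfsg.Agent.H915.LD

universe u' v'

variable {ι : Type} [Fintype ι] [DecidableEq ι] {F : Type u'} [Field F] {P : Subgroup (GL ι F)}

theorem mulShift_E {k : Type*} [Field k] {V : Type*} [AddCommGroup V] [Module k V]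
    {K : Type*} [Field K] [Fintype K] {R : _root_.Matrix.SpecialLinearGroup (Fin 2) K →* Module.End k V}
    (ψ : AddChar K k) (c b : K) : E R (ψ.mulShift c) b = E R ψ (c * b) := by
  unfold E
  congr 1
  refine Finset.sum_congr rfl fun x _ => ?_
  rw [AddChar.mulShift_apply]
  congr 2
  ring

theorem form_aux (hC : Core P) (ρ : _root_.Matrix.SpecialLinearGroup (Fin 2) (ZMod 13) →* GL ι F) (hρ : ρ.range = P)
    (h13 : (13 : F) ≠ 0) (h2 : (2 : F) ≠ 0) (hn : Fintype.card ι = 7) :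
    ∃ f : (ι → F) →ₗ[F] (ι → F) →ₗ[F] (ι → F) →ₗ[F] F, IsAltForm f ∧ f ≠ 0 ∧
      ∀ g ∈ P, ∀ x y z, f ((g : Matrix ι ι F) *ᵥ x) ((g : Matrix ι ι F) *ᵥ y) ((g : Matrix ι ι F) *ᵥ z) = f x y z := by
  let re := reGL (F := F) (Fintype.equivFin ι)
  let ρ' : _root_.Matrix.SpecialLinearGroup (Fin 2) (ZMod 13) →* GL (Fin (Fintype.card ι)) F := re.toMonoidHom.comp ρ
  have hρ'1 : ρ' ≠ 1 := by
    intro h
    have h1 : ρ = 1 := by
      ext1 g
      apply re.injective
      have h2 := DFunLike.congr_fun h g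
      rw [MonoidHom.one_apply, map_one]
      exact h2
    rw [h1] at hρ
    apply hC.nonabelian
    have h3 : Subsingleton P := by
      constructor
      rintro ⟨a, ha⟩ ⟨b, hb⟩
      rw [← hρ] at ha hb
      obtain ⟨x, rfl⟩ := ha
      obtain ⟨y, rfl⟩ := hb
      rfl
    have h2 : Subsingleton (P ⧸ (scalars ι F).subgroupOf P) := by
      constructor
      intro a b
      induction a using QuotientGroup.induction_on with
      | H a =>
        induction b using QuotientGroup.induction_on with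
        | H b => rw [Subsingleton.elim a b]
    exact ⟨⟨fun a b => Subsingleton.elim _ _⟩⟩
  have habs : ActsAbsolutelyIrreducibly (matrixSet ρ'.range) := by
    have h1 : ρ'.range = P.map re.toMonoidHom := by
      rw [MonoidHom.range_comp, hρ]
    rw [h1]
    exact absIrr_reGL _ hC.absIrred
  set k := AlgebraicClosure F with hk
  have hi : Function.Injective (algebraMap F k) := (algebraMap F k).injective
  have hK : (Fintype.card (ZMod 13) : k) ≠ 0 := by
    rw [ZMod.card]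
    intro h
    apply h13
    apply hi
    rw [map_zero, ← h, map_ofNat]
    norm_num
  have h2k : (2 : k) ≠ 0 := by
    intro h
    apply h2
    apply hi
    rw [map_zero, ← h, map_ofNat]
  obtain ⟨ψ, hψ⟩ := exists_prim (K := ZMod 13) hK
  set R := Cfsg.Agent.H464.Sl2.ext ρ' k with hR
  have hspan : Submodule.span k (Set.range R) = ⊤ := span_ext ρ' _ (span_eq_top ρ' habs)
  have hR1 : R ≠ 1 := ext_ne_one ρ' _ hρ'1
  obtain ⟨b, b', hb, hb', hE, hE', h0⟩ := half_cases R hψ hK hspan hR1 (by rw [ZMod.card]; norm_num)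
    (by rw [Module.finrank_fin_fun, ZMod.card, hn]; omega)
  have h01 : finrank k (LinearMap.range (E R ψ 0)) = 1 := by
    rw [Module.finrank_fin_fun, ZMod.card] at h0
    omega
  set ψ' := ψ.mulShift b' with hψ'
  have hprim : ψ'.IsPrimitive := by
    intro a ha h
    have h3 := hψ (mul_ne_zero hb' ha)
    apply h3
    rw [← h, hψ']
    ext x
    simp only [AddChar.mulShift_apply]
    ring_nf
  have hE0 : E R ψ' 0 = E R ψ 0 := by rw [hψ', mulShift_E, mul_zero]
  have hE1 : E R ψ' 1 ≠ 0 := by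
    rw [hψ', mulShift_E, mul_one]
    intro h
    rw [h, LinearMap.range_zero, finrank_bot] at hE'
    exact zero_ne_one hE'
  have hEb : E R ψ' (b / b') = 0 := by rw [hψ', mulShift_E, mul_div_cancel₀ _ hb']; exact hE
  have hne0 : LinearMap.range (E R ψ' 0) ≠ ⊥ := by
    rw [hE0]
    intro h
    rw [h, finrank_bot] at h01
    exact zero_ne_one h01
  obtain ⟨v, lam, hv⟩ := exists_hw hprim hK hne0
  have h01' : finrank k (LinearMap.range (E R ψ' 0)) = 1 := by rw [hE0]; exact h01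
  have hne := hv.lam_ne_one hprim hK hspan h01' (div_ne_zero hb hb') hEb one_ne_zero hE1
  obtain ⟨f, hf, hf0, hfi⟩ := exists_form hprim hK h2k hspan hv h01' hne hE1
  -- descend
  let c : (ι → F) →ₗ[F] (Fin (Fintype.card ι) → k) :=
    { toFun := fun x i => algebraMap F k (x ((Fintype.equivFin ι).symm i))
      map_add' := fun x y => by funext i; simp
      map_smul' := fun a x => by
        funext i
        simp only [Pi.smul_apply, smul_eq_mul, map_mul, RingHom.id_apply, Algebra.smul_def] }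
  have hc : Submodule.span k (Set.range c) = ⊤ := by
    rw [eq_top_iff, ← (Pi.basisFun k (Fin (Fintype.card ι))).span_eq, Submodule.span_le]
    rintro _ ⟨i, rfl⟩
    apply Submodule.subset_span
    refine ⟨Pi.single ((Fintype.equivFin ι).symm i) 1, ?_⟩
    funext j
    change algebraMap F k ((Pi.single ((Fintype.equivFin ι).symm i) 1 : ι → F) ((Fintype.equivFin ι).symm j)) =
      (Pi.basisFun k (Fin (Fintype.card ι)) i) j
    rw [Pi.basisFun_apply, Pi.single_apply, Pi.single_apply]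
    simp only [EmbeddingLike.apply_eq_iff_eq]
    split_ifs <;> simp
  obtain ⟨f', hf', hf'0, hinv⟩ := descend (F := F) (V := ι → F) hf hf0 c hc
  refine ⟨f', hf', hf'0, ?_⟩
  intro g hg x y z
  rw [← hρ] at hg
  obtain ⟨g, rfl⟩ := hg
  have hcg : ∀ x, c ((ρ g : Matrix ι ι F) *ᵥ x) = R g (c x) := by
    intro x
    funext i
    change algebraMap F k (((ρ g : Matrix ι ι F) *ᵥ x) ((Fintype.equivFin ι).symm i)) =
      (((ρ' g : Matrix _ _ F).map (algebraMap F k)) *ᵥ (c x)) i
    simp only [Matrix.mulVec, dotProduct, map_sum, map_mul]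
    rw [← Equiv.sum_comp (Fintype.equivFin ι)]
    refine Finset.sum_congr rfl fun j _ => ?_
    change _ = algebraMap F k ((ρ g : Matrix ι ι F) ((Fintype.equivFin ι).symm i)
      ((Fintype.equivFin ι).symm (Fintype.equivFin ι j))) * algebraMap F k (x ((Fintype.equivFin ι).symm
        (Fintype.equivFin ι j)))
    rw [Equiv.symm_apply_apply]
  apply hinv
  rw [hcg, hcg, hcg, hfi]

/-- **`L₂(13)`** : an invariant alternating 3-form -/
theorem l13_form (hC : Core P) {K : Type v'} [Field K] [Fintype K] (hK : Fintype.card K = 13)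
    (ρ : _root_.Matrix.SpecialLinearGroup (Fin 2) K →* GL ι F) (hρ : ρ.range = P)
    (h13 : (13 : F) ≠ 0) (h2 : (2 : F) ≠ 0) (hn : Fintype.card ι = 7) :
    ∃ f : (ι → F) →ₗ[F] (ι → F) →ₗ[F] (ι → F) →ₗ[F] F, IsAltForm f ∧ f ≠ 0 ∧
      ∀ g ∈ P, ∀ x y z, f ((g : Matrix ι ι F) *ᵥ x) ((g : Matrix ι ι F) *ᵥ y) ((g : Matrix ι ι F) *ᵥ z) = f x y z := by
  let e : ZMod 13 ≃+* K := ZMod.ringEquivOfPrime K (by norm_num) hK
  let E : _root_.Matrix.SpecialLinearGroup (Fin 2) (ZMod 13) →* _root_.Matrix.SpecialLinearGroup (Fin 2) K :=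
    Matrix.SpecialLinearGroup.map (e : ZMod 13 →+* K)
  have hE : Function.Surjective E := by
    intro g
    refine ⟨Matrix.SpecialLinearGroup.map (e.symm : K →+* ZMod 13) g, ?_⟩
    apply Subtype.ext
    ext i j
    change e (e.symm (g.1 i j)) = g.1 i j
    exact e.apply_symm_apply _
  refine form_aux hC (ρ.comp E) ?_ h13 h2 hn
  rw [MonoidHom.range_comp, MonoidHom.range_eq_top.2 hE, ← MonoidHom.range_eq_map, hρ]

end Cfsg.Agent.H856.L13
end

-- part: H856/U33f
section
/-!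
# `U₃(3)` : an invariant alternating 3-form in dimension 7, for a core (helper856)
-/

set_option autoImplicit false
set_option linter.unusedSectionVars false

namespace Cfsg.Agent.H856.U33

open Matrix Module Cfsg Cfsg.Geo Cfsg.Agent.H179.G2 Cfsg.Agent.H856.Tri Cfsg.Agent.H915.LD
open Cfsg.Agent.UThreeGen.MatGroup Cfsg.Agent.H906 Cfsg.Agent.H659.SevenU33

universe u'

variable {ι : Type} [Fintype ι] [DecidableEq ι] {F : Type u'} [Field F] [Finite F] {P : Subgroup (GL ι F)}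

theorem k9_card : Fintype.card K9 = 9 := card9

/-- **`U₃(3)`** : an invariant alternating 3-form -/
theorem u33_form (hC : Core P) (hsd : SD P) (p : ℕ) [hp : Fact p.Prime] [CharP F p] (hp2 : p ≠ 2) (hp3 : p ≠ 3)
    (hn : Fintype.card ι = 7) {k : Type*} [Field k] [Fintype k] (hk : Fintype.card k = 9) (e : Soc P ≃* PSU 3 k 3) :
    ∃ f : (ι → F) →ₗ[F] (ι → F) →ₗ[F] (ι → F) →ₗ[F] F, IsAltForm f ∧ f ≠ 0 ∧
      ∀ g ∈ P, ∀ x y z, f ((g : Matrix ι ι F) *ᵥ x) ((g : Matrix ι ι F) *ᵥ y) ((g : Matrix ι ι F) *ᵥ z) = f x y z := by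
  classical
  let e0 : k ≃+* K9 := FiniteField.ringEquivOfCardEq (hk.trans k9_card.symm)
  let E : Soc P ≃* PSU 3 K9 3 := e.trans (Cfsg.Agent.LieClassical.FieldTransfer.psuCongr 3 3 e0)
  let π : P →* PSU 3 K9 3 := E.toMonoidHom.comp (toSoc P)
  have hπ : Function.Surjective π := E.surjective.comp (toSoc_surjective P)
  have hker : π.ker = (scalars ι F).subgroupOf P := ker_comp E
  have hkc : π.ker ≤ Subgroup.center P := by rw [hker]; exact scalars_le_center
  have hM : HasCyclicSchurMultiplier (PSU 3 K9 3) 1 :=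
    Cfsg.Agent.S2089.result 3 3 (by rw [k9_card]; norm_num) le_rfl (by norm_num) (by simp)
  have hπi : Function.Injective π := H95.StemCover.injective_of_trivial hM hC.commutator_top π hπ hkc
  let E' : P ≃* PSU 3 K9 3 := MulEquiv.ofBijective π ⟨hπi, hπ⟩
  have hcF : Nat.card K9 = 3 ^ 2 := by rw [Nat.card_eq_fintype_card, k9_card]; norm_num
  obtain ⟨q, hqs, hqk⟩ := H906.exists_psu_hom (σ := s9) (m := 3) (by norm_num) s9_pow hcF
  let φ' : SUG s9 →* GL ι F := P.subtype.comp (E'.symm.toMonoidHom.comp q)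
  have hrange : φ'.range = P := by
    ext g
    constructor
    · rintro ⟨w, rfl⟩
      exact (E'.symm (q w)).2
    · intro hg
      obtain ⟨w, hw⟩ := hqs (E' ⟨g, hg⟩)
      refine ⟨w, ?_⟩
      change ((E'.symm (q w) : P) : GL ι F) = g
      rw [hw, MulEquiv.symm_apply_apply]
  have hφ1 : ∀ w, φ' w = 1 → w ∈ Subgroup.center (SUG s9) := by
    intro w hw
    rw [← hqk]
    have h1 : E'.symm (q w) = 1 := Subtype.ext hw
    exact (MulEquiv.map_eq_one_iff E'.symm).1 h1
  let A := AlgebraicClosure F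
  have hinj : Function.Injective (algebraMap F A) := (algebraMap F A).injective
  have hne : ∀ q : ℕ, q.Prime → q ≠ p → (q : A) ≠ 0 := by
    intro q hq hqp h0
    have h4 : ((q : ℕ) : F) = 0 := by
      apply hinj
      rw [map_natCast, map_zero, h0]
    rw [CharP.cast_eq_zero_iff F p] at h4
    exact hqp ((Nat.prime_dvd_prime_iff_eq hp.out hq).1 h4).symm
  have h2 : (2 : A) ≠ 0 := by exact_mod_cast hne 2 Nat.prime_two (Ne.symm hp2)
  have h3 : (3 : A) ≠ 0 := by exact_mod_cast hne 3 Nat.prime_three (Ne.symm hp3)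
  -- the matrices
  let f7 : ι ≃ Fin 7 := Fintype.equivFinOfCardEq hn
  let re := H464.Sl2.reGL (F := F) f7
  let ρ7 : SUG s9 →* GL (Fin 7) F := re.toMonoidHom.comp φ'
  have hr7 : ρ7.range = P.map re.toMonoidHom := by
    rw [MonoidHom.range_comp, hrange]
  have habs : ActsAbsolutelyIrreducibly (matrixSet ρ7.range) := by
    rw [hr7]
    exact H464.Sl2.absIrr_reGL f7 hC.absIrred
  let ρ' : SUG s9 →* Matrix (Fin 7) (Fin 7) F := (Units.coeHom _).comp ρ7
  have hspan : Submodule.span F (Set.range ρ') = ⊤ := by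
    rw [← H906.span_subtype habs]
    congr 1
    ext X
    constructor
    · rintro ⟨g, rfl⟩
      exact ⟨⟨ρ7 g, g, rfl⟩, rfl⟩
    · rintro ⟨⟨_, g, rfl⟩, rfl⟩
      exact ⟨g, rfl⟩
  let ρA : SUG s9 →* Matrix (Fin 7) (Fin 7) A := extRep A ρ'
  have hspanA : Submodule.span A (Set.range ρA) = ⊤ := span_extRep hspan
  have hnt : ∀ z : HG s9, z ≠ 1 → ρA (emb s9 z) ≠ 1 := by
    intro z hz h0
    have h1 : ρ7 (emb s9 z) = 1 := by
      apply Units.ext
      ext i j
      apply hinj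
      have := congrFun (congrFun h0 i) j
      change algebraMap F A ((ρ7 (emb s9 z) : Matrix (Fin 7) (Fin 7) F) i j) = _ at this
      rw [this]
      by_cases hij : i = j
      · subst hij; simp
      · simp [hij]
    have h4 : φ' (emb s9 z) = 1 := (MulEquiv.map_eq_one_iff re).1 h1
    exact hz (eq_one_of_mem_center (hφ1 _ h4))
  -- the invariant form
  have htr7 : ∀ g ∈ ρ7.range, ((g⁻¹ : GL (Fin 7) F) : Matrix (Fin 7) (Fin 7) F).trace =
      (RingEquiv.refl F) ((g : Matrix (Fin 7) (Fin 7) F).trace) := by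
    intro g hg
    rw [hr7] at hg
    obtain ⟨g, hg, rfl⟩ := hg
    change ((re g)⁻¹ : GL (Fin 7) F).1.trace = (re g : GL (Fin 7) F).1.trace
    rw [← map_inv, H464.Sl2.trace_reGL, H464.Sl2.trace_reGL]
    exact hsd g hg
  obtain ⟨M, hMu, hMi⟩ := exists_invariant_of_trace habs (RingEquiv.refl F) (fun a => rfl) htr7
  have hMi' : ∀ g, (ρ' g)ᵀ * M * ρ' g = M := by
    intro g
    have h4 := hMi (ρ7 g) ⟨g, rfl⟩
    have hid : ((ρ7 g : GL (Fin 7) F) : Matrix (Fin 7) (Fin 7) F).map (RingEquiv.refl F) =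
        ((ρ7 g : GL (Fin 7) F) : Matrix (Fin 7) (Fin 7) F) := by ext i j; simp
    rw [hid] at h4
    exact h4
  have hMA : ∀ g, (ρA g)ᵀ * M.map (algebraMap F A) * ρA g = M.map (algebraMap F A) := by
    intro g
    have h4 : (((ρ' g)ᵀ * M * ρ' g).map (algebraMap F A)) = M.map (algebraMap F A) := by rw [hMi' g]
    rw [Matrix.map_mul, Matrix.map_mul] at h4
    exact h4
  have hMA0 : ∀ v, M.map (algebraMap F A) *ᵥ v = 0 → v = 0 := by
    intro v hv
    have h4 : IsUnit (M.map (algebraMap F A)) := hMu.map (RingHom.mapMatrix (m := Fin 7) (algebraMap F A))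
    obtain ⟨N, hN⟩ := h4
    have h5 : ((N⁻¹ : (Matrix (Fin 7) (Fin 7) A)ˣ) : Matrix (Fin 7) (Fin 7) A) * (N : Matrix (Fin 7) (Fin 7) A) = 1 :=
      N.inv_mul
    rw [← Matrix.one_mulVec v, ← h5, ← Matrix.mulVec_mulVec, hN, hv, Matrix.mulVec_zero]
  obtain ⟨f, hf, hf0, hfi⟩ := exists_form h2 h3 hspanA hnt hMA hMA0
  -- descend
  let c : (ι → F) →ₗ[F] (Fin 7 → A) :=
    { toFun := fun x i => algebraMap F A (x (f7.symm i))
      map_add' := fun x y => by funext i; simp
      map_smul' := fun a x => by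
        funext i
        simp only [Pi.smul_apply, smul_eq_mul, map_mul, RingHom.id_apply, Algebra.smul_def] }
  have hc : Submodule.span A (Set.range c) = ⊤ := by
    rw [eq_top_iff, ← (Pi.basisFun A (Fin 7)).span_eq, Submodule.span_le]
    rintro _ ⟨i, rfl⟩
    apply Submodule.subset_span
    refine ⟨Pi.single (f7.symm i) 1, ?_⟩
    funext j
    change algebraMap F A ((Pi.single (f7.symm i) 1 : ι → F) (f7.symm j)) =
      (Pi.basisFun A (Fin 7) i) j
    rw [Pi.basisFun_apply, Pi.single_apply, Pi.single_apply]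
    simp only [EmbeddingLike.apply_eq_iff_eq]
    split_ifs <;> simp
  obtain ⟨f', hf', hf'0, hinv⟩ := descend (F := F) (V := ι → F) hf hf0 c hc
  refine ⟨f', hf', hf'0, ?_⟩
  intro g hg x y z
  rw [← hrange] at hg
  obtain ⟨g, rfl⟩ := hg
  have hcg : ∀ x, c ((φ' g : Matrix ι ι F) *ᵥ x) = ρA g *ᵥ (c x) := by
    intro x
    funext i
    change algebraMap F A (((φ' g : Matrix ι ι F) *ᵥ x) (f7.symm i)) =
      (((ρ7 g : Matrix _ _ F).map (algebraMap F A)) *ᵥ (c x)) i
    simp only [Matrix.mulVec, dotProduct, map_sum, map_mul]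
    rw [← Equiv.sum_comp f7]
    refine Finset.sum_congr rfl fun j _ => ?_
    change _ = algebraMap F A ((φ' g : Matrix ι ι F) (f7.symm i)
      (f7.symm (f7 j))) * algebraMap F A (x (f7.symm
        (f7 j)))
    rw [Equiv.symm_apply_apply]
  apply hinv
  rw [hcg, hcg, hcg, hfi]

end Cfsg.Agent.H856.U33
end

private theorem dce_87accab76572 : _root_.True := by
  try have : _root_.True := by simp only [_root_.Cfsg.Agent.H856.U33.form.eq_1]
  try have : _root_.True := by simp only [_root_.Cfsg.Agent.H856.U33.TT.eq_1]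
  try have : _root_.True := by simp only [_root_.Cfsg.Agent.H856.L13.us.eq_1]
  try have : _root_.True := by simp only [_root_.Cfsg.Agent.H856.U33.T0.eq_1]
  try have : _root_.True := by simp only [_root_.Cfsg.Agent.H856.U33.fU.eq_1]
  try have : _root_.True := by simp only [_root_.Cfsg.Agent.H856.U33.dt.eq_1]
  try have : _root_.True := by simp only [_root_.Cfsg.Agent.H856.L13.us.eq_2]
  try have : _root_.True := by simp only [_root_.Cfsg.Agent.H856.U33.T3.eq_1]
  exact _root_.True.intro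
end

-- part: H856/Tz5
section
prune_inst 0x100061040400000000000000100000002000000000000000000000040000800000020000000000060000800000000000000000000000000000000000000101000800020000400000020000000000400000000000000000000000000000000000000000000
set_option linter.all false
open scoped Cfsg.Agent.FastGrp

-- part: H856/Tz1
section
/-!
# From the residual class of `Ω₇(q)` to the setting `Max7` (helper856)
-/

set_option autoImplicit false
set_option linter.unusedSectionVars false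

namespace Cfsg.Agent.H856.Tz

open QuadraticMap Matrix Cfsg.Geo Cfsg.Agent.H925 Cfsg.Agent.H856.Sv Cfsg.Agent.H915.LD
open Cfsg.Agent.LieClassical.OrthCore Cfsg.Agent.LieClassical.OrthTrans Cfsg.Agent.LieClassical.OrthFinite

universe u

variable {ι : Type} [Fintype ι] [DecidableEq ι] {F : Type u} [Field F]

variable [Finite F] {Q : (ι → F) → F} (hQ : IsNondegenerateQuadraticForm Q) (h2 : (2 : F) ≠ 0)
  (hn : Fintype.card ι = 7) {H P : Subgroup (GL ι F)} (hH : IsMaximalIn (omegaGL Q) H) (hc : IsResidualCore H P)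

include hQ hn hH hc in
theorem scalars_bot : (scalars ι F).subgroupOf P = ⊥ := by
  rw [Subgroup.eq_bot_iff_forall]
  rintro ⟨g, hg⟩ hs
  apply Subtype.ext
  exact H922.scalars_inf_omegaGL Q hQ (by rw [hn]; decide) (hH.1.le (hc.le hg)) hs

/-- the group is its own socle -/
noncomputable def socEquiv (hb : (scalars ι F).subgroupOf P = ⊥) : P ≃* Soc P :=
  MulEquiv.ofBijective (toSoc P) ⟨by
    rw [← MonoidHom.ker_eq_bot_iff, ker_toSoc, hb], toSoc_surjective P⟩

/-- the group as a group of linear automorphisms -/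
noncomputable def mapEquiv (P : Subgroup (GL ι F)) : P ≃* P.map (glEquiv ι F).toMonoidHom :=
  P.equivMapOfInjective _ (glEquiv ι F).injective

include h2 hn hH hc in
theorem max7 : Max7 (qf hQ) (H.map (glEquiv ι F).toMonoidHom) (P.map (glEquiv ι F).toMonoidHom) := by
  have h5 : 5 ≤ Fintype.card ι := by omega
  have hE := map_omegaGL_eq hQ h5
  have hinj : Function.Injective (Subgroup.map (glEquiv ι F).toMonoidHom) :=
    Subgroup.map_injective (glEquiv ι F).injective
  refine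
    { finrank_eq := by rw [Module.finrank_fintype_fun_eq_card, hn]
      two_ne := h2
      nondeg := nondeg_qf hQ
      le := by rw [← hE]; exact Subgroup.map_mono hH.1.le
      ne := ?_
      max := ?_
      PH := Subgroup.map_mono hc.le
      normal := ?_
      simple := ?_
      perfect := ?_
      irr := ?_
      schur := ?_
      cent := ?_ }
  · intro h
    rw [← hE] at h
    exact hH.1.ne (hinj h)
  · intro M h1 h3
    have h4 : (M.comap (glEquiv ι F).toMonoidHom).map (glEquiv ι F).toMonoidHom = M :=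
      Subgroup.map_comap_eq_self_of_surjective (glEquiv ι F).surjective M
    rcases hH.2 (M.comap (glEquiv ι F).toMonoidHom) (Subgroup.map_le_iff_le_comap.1 h1) (by
      intro g hg
      have h5 : glEquiv ι F g ∈ E (qf hQ) := h3 hg
      exact (mem_omegaGL_iff hQ (by omega)).2 h5) with h5 | h5
    · left
      rw [← h4, h5]
    · right
      rw [← h4, h5, hE]
  · rintro _ ⟨h, hh, rfl⟩ _ ⟨x, hx, rfl⟩
    exact ⟨h * x * h⁻¹, hc.normal h hh x hx, by rw [map_mul, map_mul, map_inv]⟩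
  · have h3 : IsSimpleGroup (Soc P) := hc.simple
    have e : P.map (glEquiv ι F).toMonoidHom ≃* Soc P :=
      (mapEquiv P).symm.trans (socEquiv (scalars_bot hQ hn hH hc))
    exact (MulEquiv.isSimpleGroup_congr e).2 h3
  · rw [← Subgroup.map_commutator, hc.perfect]
  · intro W hW
    apply hc.absIrred.1 W
    rintro _ ⟨g, hg, rfl⟩ _ ⟨w, hw, rfl⟩
    exact hW (glEquiv ι F g) ⟨g, hg, rfl⟩ w hw
  · intro L hL
    obtain ⟨c, hc'⟩ := hc.absIrred.2 (LinearMap.toMatrix' L) (by
      rintro _ ⟨g, hg, rfl⟩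
      apply Matrix.toLin'.injective
      rw [Matrix.toLin'_mul, Matrix.toLin'_mul, Matrix.toLin'_toMatrix']
      exact LinearMap.ext fun v => hL (glEquiv ι F g) ⟨g, hg, rfl⟩ v)
    refine ⟨c, fun v => ?_⟩
    have h3 : L = Matrix.toLin' (c • (1 : Matrix ι ι F)) := by rw [← hc', Matrix.toLin'_toMatrix']
    rw [h3]
    simp
  · rintro _ ⟨h, hh, rfl⟩ hx
    have h3 : h ∈ scalars ι F := by
      apply hc.centralizer_scalar h hh
      intro x hxP
      have h4 := hx (glEquiv ι F x) ⟨x, hxP, rfl⟩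
      have h5 : h * x = x * h := (glEquiv ι F).injective (by
        rw [map_mul, map_mul]
        exact h4)
      rw [h5, mul_inv_cancel_right, mul_inv_cancel]
      exact Subgroup.one_mem _
    have h4 := H922.scalars_inf_omegaGL Q hQ (by rw [hn]; decide) (hH.1.le hh) h3
    rw [h4, map_one]

end Cfsg.Agent.H856.Tz
end

-- part: H856/Sx2
section
/-!
# The invariant alternating 3-form of `SL₂(8)` in dimension 7 (helper856), conclusion
-/

set_option autoImplicit false
set_option linter.unusedSectionVars false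

namespace Cfsg.Agent.H856.Sw

open Matrix QuadraticMap Cfsg.Agent.H464.Sl2 Cfsg.Agent.H856.Sv Cfsg.Agent.H179.G2
open Cfsg.Agent.LieClassical.OrthCore Cfsg.Agent.LieClassical.OrthTrans Cfsg.Agent.H856.Sx

variable {F : Type*} [Field F] {V : Type*} [AddCommGroup V] [Module F V]

theorem Oc.solve1 {e0 e1 e2 c w : V ≃ₗ[F] V} {v : Fin 7 → V} (ho : Oc e0 e1 e2 c w)
    (hv : Frame e0 e1 e2 c v) (h2 : (2 : F) ≠ 0) (h7 : Module.finrank F V = 7) {a : Fin 7 → F}
    (ha : w (v 0) = ∑ j, a j • v j)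
    (ht : LinearMap.trace F V ((w * e0 : V ≃ₗ[F] V) : V →ₗ[F] V) = 1) :
    ∃ Y Z : F, Y * Z = -1 ∧ Y ^ 2 = 3 - Z ∧ Z ^ 2 = 3 * Z + Y ∧ ∀ j, 4 * a j = ev Y Z (Aw j) := by
  have hi : (2 : F) * (2 : F)⁻¹ = 1 := mul_inv_cancel₀ h2
  set i : F := (2 : F)⁻¹ with hidef
  have hid : ∀ j, (1 : V ≃ₗ[F] V) (v j) = (1 : F) • v j := fun j => by rw [one_smul]; rfl
  have l0 := ho.trace_diag hv h2 h7 ha hid
  have hw1 : ((w * 1 : V ≃ₗ[F] V) : V →ₗ[F] V) = (w : V →ₗ[F] V) := by rw [mul_one]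
  rw [hw1, ho.t0, Oc.trace_e0 hv ho.toWt h2 h7] at l0
  have l1 := ho.trace_diag hv h2 h7 ha (d := e0 * e1) (s := fun j => ((sg 0 j * sg 1 j : ℤ) : F)) (fun j => by
    show e0 (e1 (v j)) = _
    rw [hv.h1, map_smul, hv.h0, smul_smul]
    push_cast
    rw [mul_comm])
  rw [ho.t1] at l1
  have l2 := ho.trace_diag hv h2 h7 ha (d := e0 * e2) (s := fun j => ((sg 0 j * sg 2 j : ℤ) : F)) (fun j => by
    show e0 (e2 (v j)) = _
    rw [hv.h2, map_smul, hv.h0, smul_smul]
    push_cast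
    rw [mul_comm])
  rw [ho.t2] at l2
  have l3 := ho.trace_diag hv h2 h7 ha (d := e0 * (e1 * e2)) (s := fun j => ((sg 0 j * (sg 1 j * sg 2 j) : ℤ) : F))
    (fun j => by
      show e0 (e1 (e2 (v j))) = _
      rw [hv.h2, map_smul, hv.h1, smul_smul, map_smul, hv.h0, smul_smul]
      push_cast
      congr 1
      ring)
  rw [ho.t3] at l3
  have ls := ho.trace_diag hv h2 h7 ha (d := e0) (s := fun j => ((sg 0 j : ℤ) : F)) (fun j => hv.h0 j)
  rw [ht] at ls
  have e11 := ho.braid hv h2 h7 ha 1 1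
  have e15 := ho.braid hv h2 h7 ha 1 5
  have e13 := ho.braid hv h2 h7 ha 1 3
  simp only [sg, Fin.sum_univ_seven, _root_.one_mul, _root_.Fin.isValue, _root_.add_zero, _root_.Fin.reduceAdd, _root_.Int.reduceNeg, _root_.Matrix.cons_val', _root_.Matrix.cons_val_fin_one, _root_.Matrix.cons_val_zero, _root_.Matrix.cons_val_one, _root_.Int.cast_mul, _root_.Int.cast_neg, _root_.Int.cast_one, _root_.mul_one, _root_.neg_mul, _root_.mul_neg, _root_.neg_neg, _root_.Matrix.cons_val, _root_.zero_add] at l0 l1 l2 l3 ls e11 e15 e13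
  have two : ∀ x y : F, 2 * x = 2 * y → x = y := fun x y h => mul_left_cancel₀ h2 h
  have a3 : a 3 = a 2 - a 0 := by
    apply two
    linear_combination l1 + l3
  have a5 : a 5 = a 1 - a 0 := by
    apply two
    linear_combination l2 + l3
  have a6' : a 4 = a 0 + a 6 := by
    apply two
    linear_combination -l1 - l2
  have a4 : a 4 = a 0 - a 1 - a 2 - i := by
    apply two
    linear_combination -l0 - l1 + 2 * a5 * (-1) + hi
  have a6 : a 6 = -a 1 - a 2 - i := by linear_combination a4 - a6'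
  have b0 : 4 * a 0 = -1 := by
    rw [a3, a4, a5, a6] at ls
    linear_combination ls
  have b4 : 4 * i = 2 := by linear_combination 2 * hi
  have B1 : 4 * a 1 = (4 * a 1 + 1) - 1 := by ring
  have B2 : 4 * a 2 = (4 * a 2 + 2) - 2 := by ring
  have B3 : 4 * a 3 = (4 * a 2 + 2) - 1 := by rw [a3]; linear_combination -b0
  have B4 : 4 * a 4 = -(4 * a 1 + 1) - (4 * a 2 + 2) := by rw [a4]; linear_combination b0 - b4
  have B5 : 4 * a 5 = (4 * a 1 + 1) := by rw [a5]; linear_combination -b0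
  have B6 : 4 * a 6 = 1 - (4 * a 1 + 1) - (4 * a 2 + 2) := by rw [a6]; linear_combination - b4
  obtain ⟨Y, hY⟩ : ∃ Y, Y = 4 * a 1 + 1 := ⟨_, rfl⟩
  obtain ⟨Z, hZ⟩ : ∃ Z, Z = 4 * a 2 + 2 := ⟨_, rfl⟩
  rw [← hY] at B1 B4 B5 B6
  rw [← hZ] at B2 B3 B4 B6
  have four : ∀ x y : F, 4 * x = 4 * y → x = y := fun x y h => two _ _ (two _ _ (by linear_combination h))
  have g11 : -((4 * a 1) * (4 * a 1)) - (4 * a 2) * (4 * a 2) - (4 * a 3) * (4 * a 3) +
      (4 * a 4) * (4 * a 4) - (4 * a 5) * (4 * a 5) + (4 * a 6) * (4 * a 6) + (4 * a 0) * (4 * a 0) -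
      4 * (4 * a 2) = 0 := by linear_combination 16 * e11
  have g15 : -((4 * a 1) * (4 * a 5)) - (4 * a 2) * (4 * a 6) - (4 * a 3) * (4 * a 0) +
      (4 * a 4) * (4 * a 1) - (4 * a 5) * (4 * a 2) + (4 * a 6) * (4 * a 3) + (4 * a 0) * (4 * a 4) +
      4 * (4 * a 6) = 0 := by linear_combination 16 * e15
  have g13 : -((4 * a 1) * (4 * a 3)) - (4 * a 2) * (4 * a 4) - (4 * a 3) * (4 * a 5) +
      (4 * a 4) * (4 * a 6) - (4 * a 5) * (4 * a 0) + (4 * a 6) * (4 * a 1) + (4 * a 0) * (4 * a 2) +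
      4 * (4 * a 4) = 0 := by linear_combination 16 * e13
  rw [b0, B1, B2, B3, B4, B5, B6] at g11 g15 g13
  have hYZ : Y * Z = -1 := by
    apply four
    linear_combination g11
  refine ⟨Y, Z, hYZ, ?_, ?_, ?_⟩
  · apply two
    linear_combination -g15 - 2 * hYZ
  · apply two
    linear_combination g13
  · intro j
    fin_cases j
    · refine b0.trans ?_
      simp [ev, Aw]
    · refine B1.trans ?_
      simp [ev, Aw]
      ring
    · refine B2.trans ?_
      simp [ev, Aw]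
      ring
    · refine B3.trans ?_
      simp [ev, Aw]
      ring
    · refine B4.trans ?_
      simp [ev, Aw]
      ring
    · refine B5.trans ?_
      simp [ev, Aw]
    · refine B6.trans ?_
      simp only [ev, Aw, _root_.Int.reduceNeg, _root_.Fin.reduceFinMk, _root_.Matrix.cons_val, _root_.Int.cast_one, _root_.Int.cast_neg, _root_.neg_mul, _root_.one_mul]
      ring

/-- the 3-form in a frame is invariant -/
theorem Oc.form {e0 e1 e2 c w : V ≃ₗ[F] V} {v : Fin 7 → V} (ho : Oc e0 e1 e2 c w)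
    (hv : Frame e0 e1 e2 c v) (h2 : (2 : F) ≠ 0) (h7 : Module.finrank F V = 7)
    (ht : LinearMap.trace F V ((w * e0 : V ≃ₗ[F] V) : V →ₗ[F] V) = 1) (x y z : V) :
    f1 (hv.basis ho.toWt h2 h7) (w x) (w y) (w z) = f1 (hv.basis ho.toWt h2 h7) x y z := by
  obtain ⟨a, ha⟩ : ∃ a : Fin 7 → F, w (v 0) = ∑ j, a j • v j := by
    refine ⟨fun j => (hv.basis ho.toWt h2 h7).repr (w (v 0)) j, ?_⟩
    conv_lhs => rw [← (hv.basis ho.toWt h2 h7).sum_repr (w (v 0))]
    simp only [hv.basis_apply]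
  obtain ⟨Y, Z, h1, h3, h4, h5⟩ := ho.solve1 hv h2 h7 ha ht
  have hw := ho.w_apply hv ha
  set b := hv.basis ho.toWt h2 h7 with hb
  refine inv_of_basis b (g := (w : V →ₗ[F] V)) (fun i j k => ?_) x y z
  have hr : ∀ i, b.equivFun (w (b i)) = fun m => a (m + i) := by
    intro i
    funext m
    have : w (b i) = ∑ k, a (k + i) • b k := by
      simp only [hb, hv.basis_apply]
      exact hw i
    rw [this, Module.Basis.equivFun_apply, map_sum]
    simp only [Finsupp.single_apply, _root_.map_smul, _root_.Module.Basis.repr_self, _root_.Finsupp.smul_single, _root_.smul_eq_mul, _root_.mul_one, _root_.Finsupp.coe_finsetSum, _root_.Finset.sum_apply, _root_.Finset.sum_ite_eq', _root_.Finset.mem_univ, ↓ _root_.reduceIte]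
  have h4' : (4 : F) ≠ 0 := by
    have : (4 : F) = 2 * 2 := by norm_num
    rw [this]
    exact mul_ne_zero h2 h2
  have h64 : (64 : F) ≠ 0 := by
    have : (64 : F) = 4 * 4 * 4 := by norm_num
    rw [this]
    exact mul_ne_zero (mul_ne_zero h4' h4') h4'
  apply mul_left_cancel₀ h64
  have e1 : f1 b ((w : V →ₗ[F] V) (b i)) ((w : V →ₗ[F] V) (b j)) ((w : V →ₗ[F] V) (b k)) =
      F1 (fun m => a (m + i)) (fun m => a (m + j)) (fun m => a (m + k)) := by
    rw [← hr, ← hr, ← hr]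
    rfl
  have e2 : 64 * F1 (fun m => a (m + i)) (fun m => a (m + j)) (fun m => a (m + k)) =
      F1 (fun m => 4 * a (m + i)) (fun m => 4 * a (m + j)) (fun m => 4 * a (m + k)) := by
    simp only [F1, d3]
    ring
  rw [e1, e2]
  simp only [h5]
  rw [← ev_F1 h1 h3 h4 (fun m => Aw (m + i)) (fun m => Aw (m + j)) (fun m => Aw (m + k)), table,
    f1_basis]
  simp [ev]

/-- **`L₂(8)` in Ω₇** : an invariant alternating 3-form -/
theorem _root_.Cfsg.Agent.H856.Sv.Max7.l28_form [Finite F] {Q : QuadraticForm F V}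
    {H P : Subgroup (V ≃ₗ[F] V)}
    (hM : Max7 Q H P) {K : Type*} [Field K] [Fintype K] (hK : Fintype.card K = 8)
    (ρ : _root_.Matrix.SpecialLinearGroup (Fin 2) K →* (V ≃ₗ[F] V)) (hρ : Function.Injective ρ) (hr : ρ.range = P) :
    ∃ f : V →ₗ[F] V →ₗ[F] V →ₗ[F] F, IsAltForm f ∧ f ≠ 0 ∧
      ∀ g ∈ P, ∀ x y z, f (g x) (g y) (g z) = f x y z := by
  have ht := hM.l28 hK ρ hρ hr
  have h2 := hM.two_ne
  have h7 := hM.finrank_eq
  have hfin := hM.finiteDim
  obtain ⟨b, hb⟩ := exists_beta hK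
  have ho := oc_of hK hb ρ hρ h2 h7
  obtain ⟨v, hv⟩ := ho.toWt.frame h2
  set bs := hv.basis ho.toWt h2 h7 with hbs
  have hba : ∀ i, bs i = v i := fun i => hv.basis_apply ho.toWt h2 h7 i
  refine ⟨f1 bs, f1_isAlt _, f1_ne _, ?_⟩
  let S : Subgroup (_root_.Matrix.SpecialLinearGroup (Fin 2) K) :=
    { carrier := {g | ∀ x y z, f1 bs (ρ g x) (ρ g y) (ρ g z) = f1 bs x y z}
      mul_mem' := fun {g h} hg hh x y z => by
        rw [map_mul]
        exact (hg _ _ _).trans (hh _ _ _)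
      one_mem' := fun x y z => by rw [map_one]; rfl
      inv_mem' := fun {g} hg x y z => by
        have h1 := hg (ρ g⁻¹ x) (ρ g⁻¹ y) (ρ g⁻¹ z)
        have h3 : ∀ x, ρ g (ρ g⁻¹ x) = x := fun x => by
          show (ρ g * ρ g⁻¹) x = x
          rw [← map_mul, mul_inv_cancel, map_one]; rfl
        rw [h3, h3, h3] at h1
        exact h1.symm }
  have hd : ∀ (g : _root_.Matrix.SpecialLinearGroup (Fin 2) K) (s : Fin 7 → ℤ),
      (∀ i, ρ g (v i) = ((s i : ℤ) : F) • v i) →
      (∀ i j k : Fin 7, s i * s j * s k * F1Z (ei i) (ei j) (ei k) = F1Z (ei i) (ei j) (ei k)) →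
      g ∈ S := by
    intro g s hg hs x y z
    refine inv_of_basis bs (g := (ρ g : V →ₗ[F] V)) (fun i j k => ?_) x y z
    show f1 bs (ρ g (bs i)) (ρ g (bs j)) (ρ g (bs k)) = f1 bs (bs i) (bs j) (bs k)
    rw [hba i, hba j, hba k, hg, hg, hg, ← hba i, ← hba j, ← hba k]
    simp only [map_smul, LinearMap.smul_apply, smul_eq_mul]
    rw [f1_basis]
    have h3 := congrArg (Int.cast : ℤ → F) (hs i j k)
    push_cast at h3
    linear_combination h3
  have hS : S = ⊤ := by
    refine gen_sl hK S (b_ne_one hK hb) ?_ ?_ ?_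
    · exact hd _ _ hv.h0 table_sign
    · show ∀ x y z, f1 bs (ρ (t (b ^ 4)) x) (ρ (t (b ^ 4)) y) (ρ (t (b ^ 4)) z) = f1 bs x y z
      intro x y z
      refine inv_of_basis bs (g := (ρ (t (b ^ 4)) : V →ₗ[F] V)) (fun i j k => ?_) x y z
      show f1 bs (ρ (t (b ^ 4)) (bs i)) (ρ (t (b ^ 4)) (bs j)) (ρ (t (b ^ 4)) (bs k)) = f1 bs (bs i) (bs j) (bs k)
      rw [hba i, hba j, hba k, hv.hc, hv.hc, hv.hc, ← hba i, ← hba j, ← hba k, ← hba, ← hba, ← hba,
        f1_basis, f1_basis, table_shift]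
    · exact ho.form hv h2 h7 ht
  intro g hg x y z
  rw [← hr] at hg
  obtain ⟨g, rfl⟩ := hg
  have : g ∈ S := by rw [hS]; trivial
  exact this x y z

end Cfsg.Agent.H856.Sw
end

-- part: H856/J1a
section
/-!
# Relations in the first Janko group (helper856)

`a0, a1, a2` generate a `2³`, `X` of order 7 and `d` of order 3 normalise it, `w` is an involution inverting `X`
and centralising `d`.
-/

set_option autoImplicit false

namespace Cfsg.Agent.H856.JOne

open Cfsg.Agent.SporadicB.J1.Mat Cfsg.Agent.SporadicB.J1.Data Cfsg.Agent.SporadicB.J1.Main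
open Cfsg.Spor (J1)

/-- words -/
abbrev wt : List Nat := [0, 1, 0, 3]
abbrev wt1 : List Nat := [0, 0, 1, 0, 3, 2]
abbrev wt2 : List Nat := [0, 0, 0, 1, 0, 3, 2, 2]
abbrev ww : List Nat := [0, 0, 1, 0, 0, 3, 2, 1]
abbrev wd : List Nat := [1, 0, 1, 0, 1, 2, 1, 1, 2, 1, 0, 0, 1, 1, 2, 1]
abbrev wg : List Nat := [0, 0, 0, 1, 1, 2, 2, 2]
abbrev wh : List Nat := [0, 0, 1, 1, 2, 1, 0, 1, 1, 0, 1, 1]
abbrev wk : List Nat := [3, 0, 1, 2, 3, 3, 0, 3, 0, 3, 0]

theorem r_sq0 : ev wt * ev wt = 1 := ((rep_ev _).mul (rep_ev _)).eq Rep.one (by decide +kernel)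
theorem r_sq1 : ev wt1 * ev wt1 = 1 := ((rep_ev _).mul (rep_ev _)).eq Rep.one (by decide +kernel)
theorem r_sq2 : ev wt2 * ev wt2 = 1 := ((rep_ev _).mul (rep_ev _)).eq Rep.one (by decide +kernel)
theorem r_01 : ev wt * ev wt1 = ev wt1 * ev wt :=
  ((rep_ev _).mul (rep_ev _)).eq ((rep_ev _).mul (rep_ev _)) (by decide +kernel)
theorem r_02 : ev wt * ev wt2 = ev wt2 * ev wt :=
  ((rep_ev _).mul (rep_ev _)).eq ((rep_ev _).mul (rep_ev _)) (by decide +kernel)
theorem r_12 : ev wt1 * ev wt2 = ev wt2 * ev wt1 :=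
  ((rep_ev _).mul (rep_ev _)).eq ((rep_ev _).mul (rep_ev _)) (by decide +kernel)
theorem r_k0 : X * ev wt = ev wt1 * X :=
  (repX.mul (rep_ev _)).eq ((rep_ev _).mul repX) (by decide +kernel)
theorem r_k1 : X * ev wt1 = ev wt2 * X :=
  (repX.mul (rep_ev _)).eq ((rep_ev _).mul repX) (by decide +kernel)
theorem r_k2 : X * ev wt2 = ev wt * (ev wt1 * X) :=
  (repX.mul (rep_ev _)).eq ((rep_ev _).mul ((rep_ev _).mul repX)) (by decide +kernel)
theorem r_7 : X ^ 7 = 1 := (repX.pow 7).eq Rep.one (by decide +kernel)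
theorem r_ww : ev ww * ev ww = 1 := ((rep_ev _).mul (rep_ev _)).eq Rep.one (by decide +kernel)
theorem r_wc : X * (ev ww * X) = ev ww :=
  (repX.mul ((rep_ev _).mul repX)).eq (rep_ev _) (by decide +kernel)
theorem r_dc : ev wd * X = X * (X * ev wd) :=
  ((rep_ev _).mul repX).eq (repX.mul (repX.mul (rep_ev _))) (by decide +kernel)
theorem r_d0 : ev wd * ev wt = ev wt * ev wd :=
  ((rep_ev _).mul (rep_ev _)).eq ((rep_ev _).mul (rep_ev _)) (by decide +kernel)
theorem r_d1 : ev wd * ev wt1 = ev wt2 * ev wd :=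
  ((rep_ev _).mul (rep_ev _)).eq ((rep_ev _).mul (rep_ev _)) (by decide +kernel)
theorem r_d2 : ev wd * (ev wt1 * ev wt2) = ev wt1 * ev wd :=
  ((rep_ev _).mul ((rep_ev _).mul (rep_ev _))).eq ((rep_ev _).mul (rep_ev _)) (by decide +kernel)
theorem r_dw : ev wd * ev ww = ev ww * ev wd :=
  ((rep_ev _).mul (rep_ev _)).eq ((rep_ev _).mul (rep_ev _)) (by decide +kernel)
theorem r_g : ev wg * ev wt = ev ww * ev wg :=
  ((rep_ev _).mul (rep_ev _)).eq ((rep_ev _).mul (rep_ev _)) (by decide +kernel)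
theorem r_h : ev wh * ev wd = ev wd * ev wd * ev wh :=
  ((rep_ev _).mul (rep_ev _)).eq (((rep_ev _).mul (rep_ev _)).mul (rep_ev _)) (by decide +kernel)
theorem r_k : ev wk * (ev wd * ev wt) = ev wt * X * ev ww * ev wt * ev ww * ev wk :=
  ((rep_ev _).mul ((rep_ev _).mul (rep_ev _))).eq
    ((((((rep_ev _).mul repX).mul (rep_ev _)).mul (rep_ev _)).mul (rep_ev _)).mul (rep_ev _)) (by decide +kernel)
theorem r_11 : (ev wt * X * ev ww * ev wt1 * ev ww) ^ 11 = 1 :=
  (((((((rep_ev _).mul repX).mul (rep_ev _)).mul (rep_ev _)).mul (rep_ev _))).pow 11).eq Rep.one (by decide +kernel)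
theorem r_Y : Y = X * X * ev wt * X⁻¹ * ev wt * ev ww :=
  repY.eq (((((repX.mul repX).mul (rep_ev _)).mul repXi).mul (rep_ev _)).mul (rep_ev _)) (by decide +kernel)
theorem r_ne : ev wt ≠ 1 := (rep_ev _).ne Rep.one (by decide +kernel)

/-- generation -/
theorem gen (S : Subgroup J1) (hX : X ∈ S) (ht : ev wt ∈ S) (hw : ev ww ∈ S) : S = ⊤ := by
  have hY : Y ∈ S := by
    rw [r_Y]
    exact S.mul_mem (S.mul_mem (S.mul_mem (S.mul_mem (S.mul_mem hX hX) ht) (S.inv_mem hX)) ht) hw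
  have h : (Subgroup.closure ({X, Y} : Set J1)).map J1.subtype = (⊤ : Subgroup J1).map J1.subtype := by
    rw [MonoidHom.map_closure, Set.image_pair, ← MonoidHom.range_eq_map, Subgroup.range_subtype]
    rfl
  have h2 : Subgroup.closure ({X, Y} : Set J1) = ⊤ := Subgroup.map_injective J1.subtype_injective h
  rw [eq_top_iff, ← h2, Subgroup.closure_le]
  rintro x (rfl | rfl)
  · exact hX
  · exact hY

end Cfsg.Agent.H856.JOne
end

-- part: H856/J1b
section
/-!
# `J₁` in dimension 7, characteristic 11: the coefficients of the involution `w` (helper856)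
-/

set_option autoImplicit false
set_option linter.unusedSectionVars false

namespace Cfsg.Agent.H856.JOne

open Cfsg.Agent.H856.Sw Cfsg.Agent.H856.Sx Cfsg.Agent.H179.G2

variable {F : Type*} [Field F]

/-- the equations -/
theorem solve {x y z : F} (h11 : (11 : F) = 0)
    (R2 : x * (y + z) + y ^ 2 + z ^ 2 + 3 * y * z = 0) (R3 : x + 3 * y + 3 * z = -1)
    (A : -x * z - 5 * x * y + 3 * y ^ 2 + 5 * y * z - z ^ 2 = 7)
    (B : -5 * x * z + 3 * x * y + 3 * y ^ 2 + y * z - z ^ 2 = -1) : x = -2 ∧ y = 3 ∧ z = 1 := by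
  have h2 : (2 : F) ≠ 0 := by
    intro h
    apply one_ne_zero (α := F)
    linear_combination h11 - 5 * h
  obtain ⟨s, hs⟩ : ∃ s, s = y + z := ⟨_, rfl⟩
  obtain ⟨D, hD⟩ : ∃ D, D = y - z := ⟨_, rfl⟩
  have hx : x = -1 - 3 * s := by rw [hs]; linear_combination R3
  have hyz : y * z = s + 2 * s ^ 2 := by
    rw [hx] at R2
    rw [hs] at R2 ⊢
    linear_combination R2
  have hDD : D ^ 2 = -4 * s - 7 * s ^ 2 := by
    have : D ^ 2 = s ^ 2 - 4 * (y * z) := by rw [hs, hD]; ring
    rw [this, hyz]; ring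
  have hy : 2 * y = s + D := by rw [hs, hD]; ring
  have hz : 2 * z = s - D := by rw [hs, hD]; ring
  have A' : 16 * s ^ 2 + 6 * s - 7 + D * (2 + 8 * s) = 0 := by
    have e1 : -x * z - 5 * x * y + 3 * y ^ 2 + 5 * y * z - z ^ 2 =
      -x * s - 2 * x * (2 * y) + (s ^ 2 - 2 * (y * z)) + 2 * (s * D) + 5 * (y * z) := by rw [hs, hD]; ring
    rw [e1, hy, hyz, hx] at A
    linear_combination A
  have B' : (7 * s - 4) * (s + 1) + 3 * D * (1 + 3 * s) = 0 := by
    have e1 : -5 * x * z + 3 * x * y + 3 * y ^ 2 + y * z - z ^ 2 =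
      -5 * x * z + 3 * x * y + (s ^ 2 - 2 * (y * z)) + 2 * (s * D) + y * z := by rw [hs, hD]; ring
    rw [e1] at B
    have e2 : (2 : F) * (-5 * x * z + 3 * x * y + (s ^ 2 - 2 * (y * z)) + 2 * (s * D) + y * z) =
      -5 * x * (2 * z) + 3 * x * (2 * y) + 2 * (s ^ 2 - 2 * (y * z)) + 4 * (s * D) + 2 * (y * z) := by ring
    rw [B, hy, hz, hyz, hx] at e2
    have e3 : 2 * (2 * ((7 * s - 4) * (s + 1) + 3 * D * (1 + 3 * s))) = 0 := by
      linear_combination 2 * A' + e2
    exact (mul_eq_zero.1 ((mul_eq_zero.1 e3).resolve_left h2)).resolve_left h2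
  have f2 : 3 * s ^ 2 + s + 3 = 0 := by
    have h : 88 * s ^ 3 + 64 * s ^ 2 - 19 * s - 13 = 0 := by
      linear_combination 3 * (1 + 3 * s) * A' - (2 + 8 * s) * B'
    linear_combination 4 * h - (32 * s ^ 3 + 23 * s ^ 2 - 7 * s - 5) * h11
  have f1 : s ^ 3 + s ^ 2 - 2 * s + 5 = 0 := by
    have h : 704 * s ^ 4 + 672 * s ^ 3 - 32 * s ^ 2 - 68 * s + 49 = 0 := by
      linear_combination (16 * s ^ 2 + 6 * s - 7 - D * (2 + 8 * s)) * A' + (2 + 8 * s) ^ 2 * hDD
    linear_combination h - (64 * s ^ 4 + 61 * s ^ 3 - 3 * s ^ 2 - 6 * s + 4) * h11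
  have s4 : s = 4 := by
    linear_combination 5 * f1 - 20 * (s + 8) * f2 + (5 * s ^ 3 + 45 * s ^ 2 + 21 * s + 41) * h11
  have D2 : D = 2 := by
    rw [s4] at A'
    linear_combination A' - (3 * D + 25) * h11
  refine ⟨?_, ?_, ?_⟩
  · rw [hx, s4]
    linear_combination -h11
  · apply mul_left_cancel₀ h2
    rw [hy, s4, D2]
    norm_num
  · apply mul_left_cancel₀ h2
    rw [hz, s4, D2]
    norm_num

end Cfsg.Agent.H856.JOne
end

-- part: H856/J1c
section
/-!
# `J₁` in dimension 7, characteristic 11: the action of `w` in a frame of the `2³:7:3` (helper856)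
-/

set_option autoImplicit false
set_option linter.unusedSectionVars false

namespace Cfsg.Agent.H856.JOne

open Cfsg.Agent.H856.Sw Cfsg.Agent.H856.Sx Cfsg.Agent.H179.G2

variable {F : Type*} [Field F] {V : Type*} [AddCommGroup V] [Module F V]

theorem coeff_eq (b : Module.Basis (Fin 7) F V) {x y : Fin 7 → F} (h : ∑ k, x k • b k = ∑ k, y k • b k) (k : Fin 7) :
    x k = y k := by
  have h1 := congrArg (fun u => b.repr u k) h
  simpa only [Finsupp.single_apply, _root_.map_sum, _root_.map_smul, _root_.Module.Basis.repr_self, _root_.Finsupp.smul_single, _root_.smul_eq_mul, _root_.mul_one, _root_.Finsupp.coe_finsetSum, _root_.Finset.sum_apply, _root_.Finset.sum_ite_eq', _root_.Finset.mem_univ, ↓ _root_.reduceIte] using h1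

theorem trace_expand (b : Module.Basis (Fin 7) F V) (g : V →ₗ[F] V) (G : Fin 7 → Fin 7 → F)
    (h : ∀ j, g (b j) = ∑ k, G k j • b k) : LinearMap.trace F V g = ∑ j, G j j := by
  rw [LinearMap.trace_eq_matrix_trace F b, Matrix.trace]
  refine Finset.sum_congr rfl fun j _ => ?_
  rw [Matrix.diag_apply, LinearMap.toMatrix_apply, h j, map_sum]
  simp only [Finsupp.single_apply, _root_.map_smul, _root_.Module.Basis.repr_self, _root_.Finsupp.smul_single, _root_.smul_eq_mul, _root_.mul_one, _root_.Finsupp.coe_finsetSum, _root_.Finset.sum_apply, _root_.Finset.sum_ite_eq', _root_.Finset.mem_univ, ↓ _root_.reduceIte]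

theorem trace_expand1 (b : Module.Basis (Fin 7) F V) (g : V →ₗ[F] V) (G : Fin 7 → Fin 7 → F)
    (h : ∀ j, g (b j) = ∑ n, G n j • b (n + 1)) : LinearMap.trace F V g = ∑ n, G n (n + 1) := by
  rw [trace_expand b g (fun k j => G (k - 1) j) (fun j => by
    rw [h j, ← Equiv.sum_comp (Equiv.addRight (1 : Fin 7)) (fun k => G (k - 1) j • b k)]
    refine Finset.sum_congr rfl fun n _ => ?_
    rw [Equiv.coe_addRight, add_sub_cancel_right])]
  rw [← Equiv.sum_comp (Equiv.addRight (1 : Fin 7)) (fun k => G (k - 1) k)]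
  refine Finset.sum_congr rfl fun n _ => ?_
  rw [Equiv.coe_addRight, add_sub_cancel_right]

/-- the relations -/
structure Oj (e0 e1 e2 c d w : V ≃ₗ[F] V) : Prop extends Wt e0 e1 e2 c where
  ww : ∀ v, w (w v) = v
  wc : ∀ v, c (w (c v)) = w v
  dc : ∀ v, d (c v) = c (c (d v))
  d0 : ∀ v, d (e0 v) = e0 (d v)
  d1 : ∀ v, d (e1 v) = e2 (d v)
  d2 : ∀ v, d (e1 (e2 v)) = e1 (d v)
  dw : ∀ v, d (w v) = w (d v)
  t0 : LinearMap.trace F V (w : V →ₗ[F] V) = LinearMap.trace F V (e0 : V →ₗ[F] V)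
  td : LinearMap.trace F V ((d * d : V ≃ₗ[F] V) : V →ₗ[F] V) = LinearMap.trace F V (d : V →ₗ[F] V)
  t6 : LinearMap.trace F V ((e0 * c * w * e0 * w : V ≃ₗ[F] V) : V →ₗ[F] V) =
    LinearMap.trace F V ((d * e0 : V ≃ₗ[F] V) : V →ₗ[F] V)
  t11 : LinearMap.trace F V ((e0 * c * w * e1 * w : V ≃ₗ[F] V) : V →ₗ[F] V) = 7

namespace Oj

variable {e0 e1 e2 c d w : V ≃ₗ[F] V} {v : Fin 7 → V} (ho : Oj e0 e1 e2 c d w) (hv : Frame e0 e1 e2 c v)

include ho hv

theorem w_apply {a : Fin 7 → F} (ha : w (v 0) = ∑ j, a j • v j) (i : Fin 7) : w (v i) = ∑ k, a (k + i) • v k := by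
  have key : ∀ i, w (v i) = ∑ k, a (k + i) • v k → w (v (i + 1)) = ∑ k, a (k + (i + 1)) • v k := by
    intro i hi
    have h1 := ho.wc (v i)
    rw [hv.hc] at h1
    apply c.injective
    rw [h1, hi, map_sum]
    simp only [map_smul, hv.hc]
    rw [← Equiv.sum_comp (Equiv.addRight (1 : Fin 7)) (fun k => a (k + i) • v k)]
    refine Finset.sum_congr rfl fun k _ => ?_
    rw [Equiv.coe_addRight, add_right_comm, add_assoc]
  have z : w (v 0) = ∑ k, a (k + 0) • v k := by simpa using ha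
  have z1 := key 0 z
  have z2 := key 1 z1
  have z3 := key 2 z2
  have z4 := key 3 z3
  have z5 := key 4 z4
  have z6 := key 5 z5
  fin_cases i
  · exact z
  · exact z1
  · exact z2
  · exact z3
  · exact z4
  · exact z5
  · exact z6

variable (h2 : (2 : F) ≠ 0) (h7 : Module.finrank F V = 7)

include h2 h7

/-- the element of order 3 permutes the frame -/
theorem d_apply (i : Fin 7) : d (v i) = v (i + i) := by
  set b := hv.basis ho.toWt h2 h7 with hb
  have hba : ∀ i, b i = v i := fun i => hv.basis_apply ho.toWt h2 h7 i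
  obtain ⟨β, hβ⟩ : ∃ β : Fin 7 → F, d (v 0) = ∑ j, β j • b j := ⟨fun j => b.repr (d (v 0)) j, (b.sum_repr _).symm⟩
  have dg : ∀ (e : V ≃ₗ[F] V) (s : Fin 7 → F) (r : F), (∀ j, e (v j) = s j • v j) → e (d (v 0)) = r • d (v 0) →
      ∀ j, β j * s j = r * β j := by
    intro e s r he her
    rw [hβ, map_sum, Finset.smul_sum] at her
    refine coeff_eq b (x := fun j => β j * s j) (y := fun j => r * β j) ?_
    refine Eq.trans ?_ (her.trans ?_)
    · refine Finset.sum_congr rfl fun j _ => ?_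
      rw [map_smul, hba, he, smul_smul]
    · refine Finset.sum_congr rfl fun j _ => ?_
      rw [smul_smul]
  have g0 := dg e0 _ (-1) hv.h0 (by
    rw [← ho.d0, hv.h0, map_smul]
    simp [sg])
  have g1 := dg e1 _ 1 hv.h1 (by
    rw [← ho.d2, hv.h2, map_smul, hv.h1]
    simp [sg])
  have g2 := dg e2 _ 1 hv.h2 (by
    rw [← ho.d1, hv.h1]
    simp [sg])
  have hz : ∀ y : F, y = -y → y = 0 := by
    intro y hy
    have : (2 : F) * y = 0 := by linear_combination hy
    exact (mul_eq_zero.1 this).resolve_left h2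
  have hs : ∀ j : Fin 7, j ≠ 0 → sg 0 j = 1 ∨ sg 1 j = -1 ∨ sg 2 j = -1 := by decide
  have hβ0 : ∀ j, j ≠ 0 → β j = 0 := by
    intro j hj
    have a0 := g0 j
    have a1 := g1 j
    have a2 := g2 j
    apply hz
    rcases hs j hj with h | h | h
    · rw [h] at a0
      push_cast at a0
      linear_combination a0
    · rw [h] at a1
      push_cast at a1
      linear_combination -a1
    · rw [h] at a2
      push_cast at a2
      linear_combination -a2
  obtain ⟨l, hl⟩ : ∃ l : F, d (v 0) = l • v 0 := by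
    refine ⟨β 0, ?_⟩
    rw [hβ, Finset.sum_eq_single 0]
    · rw [hba]
    · intro j _ hj
      rw [hβ0 j hj, zero_smul]
    · intro h; exact absurd (Finset.mem_univ _) h
  have key : ∀ i : Fin 7, d (v i) = l • v (i + i) → d (v (i + 1)) = l • v (i + 1 + (i + 1)) := by
    intro i hi
    rw [← hv.hc, ho.dc, hi, map_smul, map_smul, hv.hc, hv.hc]
    congr 2
    abel
  have z : d (v 0) = l • v (0 + 0) := by simpa using hl
  have z1 := key 0 z
  have z2 := key 1 z1
  have z3 := key 2 z2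
  have z4 := key 3 z3
  have z5 := key 4 z4
  have z6 := key 5 z5
  have hd : ∀ i, d (v i) = l • v (i + i) := by
    intro i
    fin_cases i
    · exact z
    · exact z1
    · exact z2
    · exact z3
    · exact z4
    · exact z5
    · exact z6
  have tr1 : LinearMap.trace F V (d : V →ₗ[F] V) = l := by
    rw [trace_expand b (d : V →ₗ[F] V) (fun k j => if k = j + j then l else 0) (fun j => by
      rw [hba]
      show d (v j) = _
      rw [hd j]
      simp only [ite_smul, zero_smul, Finset.sum_ite_eq', Finset.mem_univ, if_true, hba])]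
    rw [Fin.sum_univ_seven]
    simp
  have tr2 : LinearMap.trace F V ((d * d : V ≃ₗ[F] V) : V →ₗ[F] V) = l * l := by
    rw [trace_expand b ((d * d : V ≃ₗ[F] V) : V →ₗ[F] V) (fun k j => if k = j + j + (j + j) then l * l else 0) (fun j => by
      rw [hba]
      show d (d (v j)) = _
      rw [hd j, map_smul, hd, smul_smul]
      simp only [ite_smul, zero_smul, Finset.sum_ite_eq', Finset.mem_univ, if_true, hba])]
    rw [Fin.sum_univ_seven]
    simp
  have hl1 : l = 1 := by
    have h3 : l * l = l := by rw [← tr2, ho.td, tr1]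
    have h4 : l ≠ 0 := by
      rintro rfl
      rw [zero_smul] at hl
      exact hv.ne 0 (d.injective (by rw [hl, map_zero]))
    exact mul_left_cancel₀ h4 (by rw [h3, mul_one])
  rw [hd, hl1, one_smul]

/-- the coefficients of `w` -/
theorem coeffs (h11 : (11 : F) = 0) {a : Fin 7 → F} (ha : w (v 0) = ∑ j, a j • v j) :
    ∀ j, a j = (((![-2, 3, 3, 1, 3, 1, 1] : Fin 7 → ℤ) j : ℤ) : F) := by
  have hd := ho.d_apply hv h2 h7
  have hw := ho.w_apply hv ha
  set b := hv.basis ho.toWt h2 h7 with hb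
  have hba : ∀ i, b i = v i := fun i => hv.basis_apply ho.toWt h2 h7 i
  -- symmetry under `d`
  have hsym : ∀ k, a (k + k) = a k := by
    let e : Fin 7 ≃ Fin 7 :=
      { toFun := fun j => j + j
        invFun := fun k => k + k + (k + k)
        left_inv := by decide
        right_inv := by decide }
    have h3 : ∑ k, a (e.symm k) • b k = ∑ k, a k • b k := by
      have h4 : d (w (v 0)) = w (v 0) := by
        rw [ho.dw, hd]
        rfl
      rw [← Equiv.sum_comp e]
      refine Eq.trans ?_ (Eq.trans h4 ?_)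
      · rw [ha, map_sum]
        refine Finset.sum_congr rfl fun j _ => ?_
        rw [Equiv.symm_apply_apply, map_smul, hd, hba]
        rfl
      · rw [ha]
        refine Finset.sum_congr rfl fun j _ => ?_
        rw [hba]
    intro k
    have h4 := coeff_eq b h3 (e k)
    rw [Equiv.symm_apply_apply] at h4
    exact h4.symm
  have a2 : a 2 = a 1 := hsym 1
  have a4 : a 4 = a 1 := (hsym 2).trans a2
  have a6 : a 6 = a 3 := hsym 3
  have a5 : a 5 = a 3 := (hsym 6).trans a6
  -- the square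
  have R2 : ∑ m, a m * a (1 + m) = 0 := by
    have h3 : ∑ k, (∑ m, a m * a (k + m)) • b k = ∑ k, (if k = 0 then (1 : F) else 0) • b k := by
      have h4 := ho.ww (v 0)
      rw [ha, map_sum] at h4
      refine Eq.trans ?_ (h4.trans ?_)
      · simp only [Finset.sum_smul, map_smul, hw, Finset.smul_sum, smul_smul]
        rw [Finset.sum_comm]
        refine Finset.sum_congr rfl fun m _ => Finset.sum_congr rfl fun k _ => ?_
        rw [hba]
      · simp only [ite_smul, zero_smul, one_smul, Finset.sum_ite_eq', Finset.mem_univ, if_true, hba]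
    have h4 := coeff_eq b h3 1
    simpa only [_root_.Fin.isValue, _root_.one_ne_zero, ↓ _root_.reduceIte] using h4
  have R3 : ∑ j, a (j + j) = -1 := by
    rw [← trace_expand b (w : V →ₗ[F] V) (fun k j => a (k + j)) (fun j => by
      rw [hba]
      exact (hw j).trans (Finset.sum_congr rfl fun k _ => by rw [hba]))]
    rw [ho.t0, Oc.trace_e0 hv ho.toWt h2 h7]
  have key : ∀ (e : V ≃ₗ[F] V) (s : Fin 7 → ℤ), (∀ i, e (v i) = ((s i : ℤ) : F) • v i) →
      LinearMap.trace F V ((e0 * c * w * e * w : V ≃ₗ[F] V) : V →ₗ[F] V) =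
        ∑ n, ((sg 0 (n + 1) : ℤ) : F) * ∑ m, a (m + (n + 1)) * (s m : ℤ) * a (n + m) := by
    intro e s he
    refine trace_expand1 b _ (fun n j => ((sg 0 (n + 1) : ℤ) : F) * ∑ m, a (m + j) * (s m : ℤ) * a (n + m)) (fun j => ?_)
    show e0 (c (w (e (w (b j))))) = _
    rw [hba, hw]
    simp only [map_sum, map_smul, he, hw, hv.hc, hv.h0, Finset.smul_sum, smul_smul, Finset.mul_sum, Finset.sum_smul]
    rw [Finset.sum_comm]
    refine Finset.sum_congr rfl fun n _ => Finset.sum_congr rfl fun m _ => ?_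
    rw [hba]
    congr 1
    ring
  have B := key e0 _ hv.h0
  have A := key e1 _ hv.h1
  rw [ho.t11] at A
  rw [ho.t6] at B
  have hB : LinearMap.trace F V ((d * e0 : V ≃ₗ[F] V) : V →ₗ[F] V) = -1 := by
    rw [trace_expand b ((d * e0 : V ≃ₗ[F] V) : V →ₗ[F] V) (fun k j => if k = j + j then ((sg 0 j : ℤ) : F) else 0)
      (fun j => by
        rw [hba]
        show d (e0 (v j)) = _
        rw [hv.h0, map_smul, hd]
        simp only [ite_smul, zero_smul, Finset.sum_ite_eq', Finset.mem_univ, if_true, hba])]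
    rw [Fin.sum_univ_seven]
    simp [sg]
  rw [hB] at B
  simp only [Fin.sum_univ_seven, sg, _root_.Int.reduceNeg, _root_.Fin.isValue, _root_.Matrix.cons_val', _root_.Matrix.cons_val_fin_one, _root_.Matrix.cons_val_zero, _root_.Matrix.cons_val_one, _root_.zero_add, _root_.Int.cast_one, _root_.mul_one, _root_.add_zero, _root_.Int.cast_neg, _root_.mul_neg, _root_.neg_mul, _root_.Matrix.cons_val, _root_.Fin.reduceAdd, _root_.one_mul, _root_.neg_add_rev, _root_.neg_neg] at A B R2 R3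
  rw [a2, a4, a5, a6] at A B R2 R3
  obtain ⟨e0', e1', e3'⟩ := solve (x := a 0) (y := a 1) (z := a 3) h11 (by linear_combination R2)
    (by linear_combination R3) (by linear_combination -A) (by linear_combination -B)
  intro j
  fin_cases j
  · exact e0'.trans (by simp)
  · exact e1'.trans (by simp)
  · exact (a2.trans e1').trans (by simp)
  · exact e3'.trans (by simp)
  · exact (a4.trans e1').trans (by simp)
  · exact (a5.trans e3').trans (by simp)
  · exact (a6.trans e3').trans (by simp)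

end Oj

end Cfsg.Agent.H856.JOne
end

-- part: H856/J1d
section
/-!
# `J₁` in dimension 7, characteristic 11: the invariant alternating 3-form (helper856)
-/

set_option autoImplicit false
set_option linter.unusedSectionVars false

namespace Cfsg.Agent.H856.JOne

open Cfsg.Agent.H856.Sw Cfsg.Agent.H856.Sx Cfsg.Agent.H179.G2
open Cfsg.Agent.SporadicB.J1.Mat Cfsg.Agent.SporadicB.J1.Data Cfsg.Agent.SporadicB.J1.Main
open Cfsg.Spor (J1)

variable {F : Type*} [Field F] {V : Type*} [AddCommGroup V] [Module F V]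

/-- the coefficients -/
abbrev Aj : Fin 7 → ℤ := ![-2, 3, 3, 1, 3, 1, 1]

theorem table11 : ∀ i j k : Fin 7, (F1Z (fun m => Aj (m + i)) (fun m => Aj (m + j)) (fun m => Aj (m + k)) -
    F1Z (ei i) (ei j) (ei k)) % 11 = 0 := by (delta Cfsg.Agent.H856.Sx.F1Z Cfsg.Agent.H856.Sx.ei Cfsg.Agent.H856.Sx.d3Z; set_option synthInstance.maxSize 100000 in exact Cfsg.Agent.Lib.Refl.of (by decide +kernel))

/-- an element of order 11 is unipotent -/
theorem trace_unip (h11 : (11 : F) = 0) (h7 : Module.finrank F V = 7) (g : V ≃ₗ[F] V) (hg : g ^ 11 = 1) :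
    LinearMap.trace F V (g : V →ₗ[F] V) = 7 := by
  have hfin : FiniteDimensional F V := Module.finite_of_finrank_pos (by rw [h7]; norm_num)
  have hp : Fact (Nat.Prime 11) := ⟨by norm_num⟩
  have hc : CharP F 11 := by
    have h1 : ((11 : ℕ) : F) = 0 := by exact_mod_cast h11
    obtain ⟨p, hpc⟩ := CharP.exists F
    have h2 : p ∣ 11 := (CharP.cast_eq_zero_iff F p 11).1 h1
    rcases (Nat.dvd_prime (by norm_num : Nat.Prime 11)).1 h2 with h | h
    · exact absurd h (CharP.char_ne_one F p)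
    · rwa [h] at hpc
  set x : Module.End F V := (g : V →ₗ[F] V) with hx
  have hx11 : x ^ 11 = 1 := by
    have h1 : ∀ n : ℕ, ((g ^ n : V ≃ₗ[F] V) : V →ₗ[F] V) = x ^ n := by
      intro n
      induction n with
      | zero => rfl
      | succ n ih =>
        rw [pow_succ, pow_succ, ← ih]
        rfl
    rw [← h1, hg]
    rfl
  have hn : IsNilpotent (x - 1) := by
    refine ⟨11, ?_⟩
    have h1 : (Polynomial.X - 1 : Polynomial F) ^ 11 = Polynomial.X ^ 11 - 1 := by
      rw [sub_pow_char, one_pow]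
    have h2 := congrArg (Polynomial.aeval x) h1
    simp only [map_pow, map_sub, Polynomial.aeval_X, map_one] at h2
    rw [h2, hx11, sub_self]
  have h3 := (LinearMap.isNilpotent_trace_of_isNilpotent hn).eq_zero
  rw [map_sub, sub_eq_zero] at h3
  rw [h3, LinearMap.trace_one, h7]
  norm_num

theorem oj_of (ρ : J1 →* (V ≃ₗ[F] V)) (hρ : ρ (ev wt) ≠ 1) (h11 : (11 : F) = 0) (h7 : Module.finrank F V = 7) :
    Oj (ρ (ev wt)) (ρ (ev wt1)) (ρ (ev wt2)) (ρ X) (ρ (ev wd)) (ρ (ev ww)) := by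
  have key : ∀ {a b : J1}, a = b → ∀ v, ρ a v = ρ b v := by rintro a b rfl v; rfl
  have m2 : ∀ (a b : J1) (v : V), ρ (a * b) v = ρ a (ρ b v) := by
    intro a b v
    rw [map_mul]
    rfl
  refine { s0 := fun v => ?_, s1 := fun v => ?_, s2 := fun v => ?_, c01 := fun v => ?_, c02 := fun v => ?_,
           c12 := fun v => ?_, k0 := fun v => ?_, k1 := fun v => ?_, k2 := fun v => ?_, c7 := fun v => ?_,
           ne := hρ, ww := fun v => ?_, wc := fun v => ?_, dc := fun v => ?_, d0 := fun v => ?_,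
           d1 := fun v => ?_, d2 := fun v => ?_, dw := fun v => ?_, t0 := ?_, td := ?_, t6 := ?_, t11 := ?_ }
  · rw [← m2, r_sq0, map_one]; rfl
  · rw [← m2, r_sq1, map_one]; rfl
  · rw [← m2, r_sq2, map_one]; rfl
  · rw [← m2, r_01, m2]
  · rw [← m2, r_02, m2]
  · rw [← m2, r_12, m2]
  · rw [← m2, r_k0, m2]
  · rw [← m2, r_k1, m2]
  · rw [← m2, r_k2, m2, m2]
  · have h := r_7
    have h3 : ∀ g : J1, g ^ 7 = g * (g * (g * (g * (g * (g * g))))) := fun g => by
      simp only [pow_succ, pow_zero, one_mul, mul_assoc]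
    rw [h3] at h
    have h2 := key h v
    rw [map_one] at h2
    simp only [m2] at h2
    exact h2
  · rw [← m2, r_ww, map_one]; rfl
  · rw [← m2, ← m2, mul_assoc, r_wc]
  · rw [← m2, r_dc, m2, m2]
  · rw [← m2, r_d0, m2]
  · rw [← m2, r_d1, m2]
  · rw [← m2, ← m2, mul_assoc, r_d2, m2]
  · rw [← m2, r_dw, m2]
  · apply trace_conj' (k := ρ (ev wg))
    rw [← map_mul, ← map_mul, r_g]
  · rw [← map_mul]
    apply trace_conj' (k := ρ (ev wh))
    rw [← map_mul, ← map_mul, r_h]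
  · rw [← map_mul, ← map_mul, ← map_mul, ← map_mul, ← map_mul]
    apply trace_conj' (k := ρ (ev wk))
    rw [← map_mul, ← map_mul, r_k]
  · rw [← map_mul, ← map_mul, ← map_mul, ← map_mul]
    apply trace_unip h11 h7
    rw [← map_pow, r_11, map_one]

/-- **the invariant 3-form** -/
theorem form_of_hom (ρ : J1 →* (V ≃ₗ[F] V)) (hρ : ρ (ev wt) ≠ 1) (h11 : (11 : F) = 0)
    (h7 : Module.finrank F V = 7) :
    ∃ f : V →ₗ[F] V →ₗ[F] V →ₗ[F] F, IsAltForm f ∧ f ≠ 0 ∧
      ∀ g x y z, f (ρ g x) (ρ g y) (ρ g z) = f x y z := by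
  have h2 : (2 : F) ≠ 0 := by
    intro h
    apply one_ne_zero (α := F)
    linear_combination h11 - 5 * h
  have ho := oj_of ρ hρ h11 h7
  obtain ⟨v, hv⟩ := ho.toWt.frame h2
  set bs := hv.basis ho.toWt h2 h7 with hbs
  have hba : ∀ i, bs i = v i := fun i => hv.basis_apply ho.toWt h2 h7 i
  refine ⟨f1 bs, f1_isAlt _, f1_ne _, ?_⟩
  let S : Subgroup J1 :=
    { carrier := {g | ∀ x y z, f1 bs (ρ g x) (ρ g y) (ρ g z) = f1 bs x y z}
      mul_mem' := fun {g h} hg hh x y z => by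
        rw [map_mul]
        exact (hg _ _ _).trans (hh _ _ _)
      one_mem' := fun x y z => by rw [map_one]; rfl
      inv_mem' := fun {g} hg x y z => by
        have h1 := hg (ρ g⁻¹ x) (ρ g⁻¹ y) (ρ g⁻¹ z)
        have h3 : ∀ x, ρ g (ρ g⁻¹ x) = x := fun x => by
          show (ρ g * ρ g⁻¹) x = x
          rw [← map_mul, mul_inv_cancel, map_one]; rfl
        rw [h3, h3, h3] at h1
        exact h1.symm }
  have hS : S = ⊤ := by
    refine gen S ?_ ?_ ?_
    · show ∀ x y z, f1 bs (ρ X x) (ρ X y) (ρ X z) = f1 bs x y z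
      intro x y z
      refine inv_of_basis bs (g := (ρ X : V →ₗ[F] V)) (fun i j k => ?_) x y z
      show f1 bs (ρ X (bs i)) (ρ X (bs j)) (ρ X (bs k)) = f1 bs (bs i) (bs j) (bs k)
      rw [hba i, hba j, hba k, hv.hc, hv.hc, hv.hc, ← hba i, ← hba j, ← hba k, ← hba, ← hba, ← hba,
        f1_basis, f1_basis, table_shift]
    · show ∀ x y z, f1 bs (ρ (ev wt) x) (ρ (ev wt) y) (ρ (ev wt) z) = f1 bs x y z
      intro x y z
      refine inv_of_basis bs (g := (ρ (ev wt) : V →ₗ[F] V)) (fun i j k => ?_) x y z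
      show f1 bs (ρ (ev wt) (bs i)) (ρ (ev wt) (bs j)) (ρ (ev wt) (bs k)) = f1 bs (bs i) (bs j) (bs k)
      rw [hba i, hba j, hba k, hv.h0, hv.h0, hv.h0, ← hba i, ← hba j, ← hba k]
      simp only [map_smul, LinearMap.smul_apply, smul_eq_mul]
      rw [f1_basis]
      have h3 := congrArg (Int.cast : ℤ → F) (table_sign i j k)
      push_cast at h3
      linear_combination h3
    · show ∀ x y z, f1 bs (ρ (ev ww) x) (ρ (ev ww) y) (ρ (ev ww) z) = f1 bs x y z
      intro x y z
      obtain ⟨a, ha⟩ : ∃ a : Fin 7 → F, ρ (ev ww) (v 0) = ∑ j, a j • v j := by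
        refine ⟨fun j => bs.repr (ρ (ev ww) (v 0)) j, ?_⟩
        conv_lhs => rw [← bs.sum_repr (ρ (ev ww) (v 0))]
        simp only [hba]
      have hc := ho.coeffs hv h2 h7 h11 ha
      have hw := ho.w_apply hv ha
      refine inv_of_basis bs (g := (ρ (ev ww) : V →ₗ[F] V)) (fun i j k => ?_) x y z
      have hr : ∀ i, bs.equivFun (ρ (ev ww) (bs i)) = fun m => ((Aj (m + i) : ℤ) : F) := by
        intro i
        funext m
        have : ρ (ev ww) (bs i) = ∑ k, a (k + i) • bs k := by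
          simp only [hba]
          exact hw i
        rw [this, Module.Basis.equivFun_apply, map_sum, ← hc]
        simp only [Finsupp.single_apply, _root_.map_smul, _root_.Module.Basis.repr_self, _root_.Finsupp.smul_single, _root_.smul_eq_mul, _root_.mul_one, _root_.Finsupp.coe_finsetSum, _root_.Finset.sum_apply, _root_.Finset.sum_ite_eq', _root_.Finset.mem_univ, ↓ _root_.reduceIte]
      have e1 : f1 bs ((ρ (ev ww) : V →ₗ[F] V) (bs i)) ((ρ (ev ww) : V →ₗ[F] V) (bs j)) ((ρ (ev ww) : V →ₗ[F] V) (bs k)) =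
          F1 (fun m => ((Aj (m + i) : ℤ) : F)) (fun m => ((Aj (m + j) : ℤ) : F)) (fun m => ((Aj (m + k) : ℤ) : F)) := by
        rw [← hr, ← hr, ← hr]
        rfl
      rw [e1, F1_cast, f1_basis]
      obtain ⟨q, hq⟩ := Int.dvd_of_emod_eq_zero (table11 i j k)
      have h3 := congrArg (Int.cast : ℤ → F) hq
      push_cast at h3
      rw [← sub_eq_zero, h3, h11, zero_mul]
  intro g x y z
  have : g ∈ S := by rw [hS]; trivial
  exact this x y z

end Cfsg.Agent.H856.JOne
end

-- part: H856/Tz2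
section
/-!
# `Ω₇(q)`: the setting and the consequences of an invariant 3-form (helper856)
-/

set_option autoImplicit false
set_option linter.unusedSectionVars false

namespace Cfsg.Agent.H856.Tz

open QuadraticMap Matrix Cfsg Cfsg.Geo Cfsg.Agent.H925 Cfsg.Agent.H856.Sv Cfsg.Agent.H915.LD Cfsg.Agent.H179.G2
open Cfsg.Agent.LieClassical.OrthCore Cfsg.Agent.LieClassical.OrthTrans Cfsg.Agent.LieClassical.OrthFinite

universe u v

variable {ι : Type} [Fintype ι] [DecidableEq ι] {F : Type u} [Field F]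

/-- The setting. -/
structure C7 [Fintype F] (p : ℕ) (Q : QuadraticForm F (ι → F)) (H P : Subgroup (GL ι F)) : Prop where
  prime : p.Prime
  charP : CharP F p
  two : (2 : F) ≠ 0
  seven : Fintype.card ι = 7
  nd : Nondeg Q
  max : IsMaximalIn (omegaGL (Q : (ι → F) → F)) H
  res : IsResidualCore H P

/-- the conclusion -/
def Concl [Fintype F] (P : Subgroup (GL ι F)) : Prop :=
  (Nonempty (Soc P ≃* alternatingGroup (Fin 9)) ∧ Fintype.card F = 3) ∨
  (Nonempty (Soc P ≃* Cfsg.PSp 3 (ZMod 2)) ∧ (Fintype.card F).Prime) ∨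
  Nonempty (Soc P ≃* Cfsg.Lie.G2 F)

namespace C7

variable [Fintype F] {p : ℕ} {Q : QuadraticForm F (ι → F)} {H P : Subgroup (GL ι F)} (c : C7 p Q H P)
include c

theorem core : Core P := core_of_residual c.res

theorem ne_two : p ≠ 2 := by
  rintro rfl
  have := c.charP
  exact c.two (by exact_mod_cast CharP.cast_eq_zero F 2)

theorem ndf : IsNondegenerateQuadraticForm (Q : (ι → F) → F) := isND_of_nondeg c.nd

theorem fixes : FixesQuadForm (matrixSet P) (Q : (ι → F) → F) := by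
  rintro _ ⟨g, hg, rfl⟩ v
  exact H879.Nine.isometry_of_mem (c.max.1.le (c.res.le hg)) v

theorem fixQ : FixQ P := ⟨Q, c.ndf, c.fixes⟩

theorem sd : SD P := H879.Nine.sd_of_fixQ c.fixQ

theorem bot : (scalars ι F).subgroupOf P = ⊥ := scalars_bot c.ndf c.seven c.max c.res

/-- `P` is simple -/
noncomputable def soc : P ≃* Soc P := socEquiv c.bot

theorem max7 : Max7 (_root_.Cfsg.Agent.H925.qf c.ndf) (H.map (glEquiv ι F).toMonoidHom) (P.map (glEquiv ι F).toMonoidHom) :=
  Tz.max7 c.ndf c.two c.seven c.max c.res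

/-- **an invariant 3-form gives `G₂(F)`** -/
theorem g2_of_form (f : (ι → F) →ₗ[F] (ι → F) →ₗ[F] (ι → F) →ₗ[F] F) (h1 : ∀ x y, f x x y = 0)
    (h2 : ∀ x y, f x y y = 0) (h0 : f ≠ 0)
    (hinv : ∀ g ∈ P, ∀ x y z, f ((g : Matrix ι ι F) *ᵥ x) ((g : Matrix ι ι F) *ᵥ y) ((g : Matrix ι ι F) *ᵥ z) = f x y z) :
    Concl P := by
  obtain ⟨e⟩ := thmA c.max7 f ⟨h1, h2⟩ h0 (by
    rintro _ ⟨g, hg, rfl⟩ x y z
    exact hinv g hg x y z)
  exact Or.inr (Or.inr ⟨c.soc.symm.trans ((mapEquiv P).trans e)⟩)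

/-- `A₈` -/
theorem not_a8 (e : Soc P ≃* alternatingGroup (Fin 8)) : False :=
  c.max7.not_a8 (((mapEquiv P).symm.trans c.soc).trans e)

/-- `L₂(7)`, cross characteristic -/
theorem not_l27 {K : Type v} [Field K] [Fintype K] (hK : Fintype.card K = 7) (hp : p ≠ 7)
    (e : Soc P ≃* ProjectiveSpecialLinearGroup (Fin 2) K) : False := by
  have := Fact.mk c.prime
  have := c.charP
  have h7 : (Fintype.card K : F) ≠ 0 := by
    rw [hK]
    intro h
    exact hp ((Nat.prime_dvd_prime_iff_eq c.prime (by norm_num)).1 ((CharP.cast_eq_zero_iff F p 7).1 h))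
  exact H882.Del.steinberg_kill c.two c.nd c.max c.res (by rw [hK]) (by rw [hK]) h7 (by rw [c.seven, hK]) e

/-- `L₂(8)` -/
theorem l28 {K : Type v} [Field K] [Fintype K] (hK : Fintype.card K = 8)
    (e : Soc P ≃* ProjectiveSpecialLinearGroup (Fin 2) K) : Concl P := by
  have h2K : CharP K 2 := by
    obtain ⟨s, hs⟩ := CharP.exists K
    have hsp : s.Prime := CharP.char_is_prime K s
    have hd : s ∣ 2 ^ 3 := by
      rw [show 2 ^ 3 = Fintype.card K by rw [hK]; norm_num]
      exact (CharP.cast_eq_zero_iff K s _).1 (Nat.cast_card_eq_zero K)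
    rw [(Nat.prime_dvd_prime_iff_eq hsp Nat.prime_two).1 (hsp.dvd_of_dvd_pow hd)] at hs
    exact hs
  obtain ⟨ρ, hρ, hρe⟩ := H464.Sl2.l2_rep c.core (by rw [hK]; norm_num) (by rw [hK]; norm_num) e
  have hinj : Function.Injective ρ := by
    rw [← MonoidHom.ker_eq_bot_iff, Subgroup.eq_bot_iff_forall]
    intro g hg
    have h1 : ρ g = 1 := hg
    have h2 := hρe g (by rw [h1]; exact P.one_mem)
    have h3 : (⟨ρ g, by rw [h1]; exact P.one_mem⟩ : P) = 1 := Subtype.ext h1
    rw [h3, map_one, map_one] at h2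
    have h4 : g ∈ Subgroup.center (_root_.Matrix.SpecialLinearGroup (Fin 2) K) := (QuotientGroup.eq_one_iff g).1 h2.symm
    rw [Matrix.SpecialLinearGroup.mem_center_iff] at h4
    obtain ⟨r, hr, hr2⟩ := h4
    have h5 : r = 1 := by
      rw [Fintype.card_fin] at hr
      have h6 : (r - 1) ^ 2 = 0 := by
        have h7 : (2 : K) = 0 := CharTwo.two_eq_zero
        linear_combination hr + (1 - r) * h7
      exact sub_eq_zero.1 (pow_eq_zero_iff (two_ne_zero) |>.1 h6)
    apply Subtype.ext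
    rw [← hr2, h5]
    exact (Matrix.scalar (Fin 2)).map_one
  obtain ⟨f, hf, hf0, hinv⟩ := c.max7.l28_form hK ((glEquiv ι F).toMonoidHom.comp ρ)
    ((glEquiv ι F).injective.comp hinj) (by rw [MonoidHom.range_comp, hρ])
  exact c.g2_of_form f hf.self hf.z23 hf0 (fun g hg => hinv (glEquiv ι F g) ⟨g, hg, rfl⟩)

/-- `L₂(13)` -/
theorem l213 {K : Type v} [Field K] [Fintype K] (hK : Fintype.card K = 13) (hp : p ≠ 13)
    (e : Soc P ≃* ProjectiveSpecialLinearGroup (Fin 2) K) : Concl P := by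
  have := Fact.mk c.prime
  have := c.charP
  have h13 : (13 : F) ≠ 0 := by
    intro h
    have h1 : ((13 : ℕ) : F) = 0 := by exact_mod_cast h
    exact hp ((Nat.prime_dvd_prime_iff_eq c.prime (by norm_num)).1 ((CharP.cast_eq_zero_iff F p 13).1 h1))
  obtain ⟨ρ, hρ, -⟩ := H464.Sl2.l2_rep c.core (by rw [hK]; norm_num) (by rw [hK]; norm_num) e
  obtain ⟨f, hf, hf0, hinv⟩ := L13.l13_form c.core hK ρ hρ h13 c.two c.seven
  exact c.g2_of_form f hf.self hf.z23 hf0 hinv

/-- `U₃(3)` -/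
theorem u33 {K : Type v} [Field K] [Fintype K] (hK : Fintype.card K = 9) (hp : p ≠ 3) (e : Soc P ≃* PSU 3 K 3) :
    Concl P := by
  have := Fact.mk c.prime
  have := c.charP
  obtain ⟨f, hf, hf0, hinv⟩ := U33.u33_form c.core c.sd p c.ne_two hp c.seven hK e
  exact c.g2_of_form f hf.self hf.z23 hf0 hinv

/-- `J₁` -/
theorem j1 (hp : p = 11) (e : Soc P ≃* Spor.J1) : Concl P := by
  have := c.charP
  have h11 : (11 : F) = 0 := by
    subst hp
    exact_mod_cast CharP.cast_eq_zero F 11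
  let φ : Spor.J1 ≃* P := (c.soc.trans e).symm
  let ρ : Spor.J1 →* ((ι → F) ≃ₗ[F] (ι → F)) :=
    (glEquiv ι F).toMonoidHom.comp (P.subtype.comp φ.toMonoidHom)
  have hinj : Function.Injective ρ :=
    (glEquiv ι F).injective.comp (P.subtype_injective.comp φ.injective)
  obtain ⟨f, hf, hf0, hinv⟩ := JOne.form_of_hom ρ (fun h => JOne.r_ne (hinj (by rw [h, map_one]))) h11
    (by rw [Module.finrank_fintype_fun_eq_card, c.seven])
  refine c.g2_of_form f hf.self hf.z23 hf0 (fun g hg x y z => ?_)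
  have h1 := hinv (φ.symm ⟨g, hg⟩) x y z
  have h2 : ρ (φ.symm ⟨g, hg⟩) = glEquiv ι F g := by
    show glEquiv ι F ((φ (φ.symm ⟨g, hg⟩) : P) : GL ι F) = _
    rw [MulEquiv.apply_symm_apply]
  rw [h2] at h1
  exact h1

end C7

end Cfsg.Agent.H856.Tz
end

-- part: H856/Tz3
section
/-!
# `Ω₇(q)`: cross characteristic rows (helper856)
-/

set_option autoImplicit false
set_option linter.unusedSectionVars false

namespace Cfsg.Agent.H856.Tz

open QuadraticMap Matrix Cfsg Cfsg.Geo Cfsg.Agent.H915.LD Cfsg.Agent.H936.List12 Cfsg.Agent.H912.Bd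
  Cfsg.Agent.H912.Five
open Cfsg.Agent.LieClassical.OrthCore

universe u v

/-! ### sporadic groups in `GL₇` -/

section spor

variable {F : Type u} [Field F] [Finite F] {P : Subgroup (GL (Fin 7) F)}

/-- `11:5` in a self-dual core of degree 7 forces the characteristic 11 -/
theorem no_frob {p : ℕ} [hp : Fact p.Prime] [CharP F p] (hC : Core P) (hsd : SD P) {T : Type v} [Group T]
    (e : Soc P ≃* T) (hT : H871.Par.Frob11 T) : p = 11 := by
  by_contra h
  have h11 : (11 : F) ≠ 0 := by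
    intro h0
    have h1 : ((11 : ℕ) : F) = 0 := by exact_mod_cast h0
    exact h ((Nat.prime_dvd_prime_iff_eq hp.out (by norm_num)).1 ((CharP.cast_eq_zero_iff F p 11).1 h1))
  have h2 := (H871.Par.pd_of_sd hC hsd e).of_frob11 h11 hT
  rw [Fintype.card_fin] at h2
  omega

open Cfsg.Agent.SporadicB.J1.Mat Cfsg.Agent.SporadicB.J1.Data Cfsg.Agent.SporadicB.J1.Main in
theorem frob11_J1 : H871.Par.Frob11 Spor.J1 :=
  ⟨ev [0, 1, 1], ev [1, 0, 1, 1, 2, 1, 0, 3], ((rep_ev _).pow 11).eq Rep.one (by decide +kernel),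
    (rep_ev _).ne Rep.one (by decide +kernel), mul_inv_eq_iff_eq_mul.2
      (((rep_ev _).mul (rep_ev _)).eq (((rep_ev _).pow 3).mul (rep_ev _)) (by decide +kernel))⟩

/-- sporadic groups: only `J₁` in characteristic 11 (and `J₂`) -/
theorem spor_cases {p : ℕ} [hp : Fact p.Prime] [CharP F p] (hC : Core P) (hsd : SD P) (h : SporC (Soc P)) :
    (p = 11 ∧ Spor.IsoJ1 (Soc P)) ∨ Spor.IsoJ2 (Soc P) := by
  have h3 : Nat.Prime 3 := Nat.prime_three
  rcases h with h | h | h | h | h | h | h | h | h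
  · exfalso
    obtain ⟨e⟩ := h
    have h11 := no_frob hC hsd e H871.Par.frob11_M11
    exact H48.Seven.no_orb p hC e (H921.Spor.M24.M11_three.orb (by norm_num)) h3 (by omega) (by norm_num) le_rfl
  · exfalso
    obtain ⟨e⟩ := h
    have h11 := no_frob hC hsd e H871.Par.frob11_M12
    exact H48.Seven.no_orb p hC e (H921.Spor.M24.M12_three.orb (by norm_num)) h3 (by omega) (by norm_num) le_rfl
  · exfalso
    obtain ⟨e⟩ := h
    have h11 := no_frob hC hsd e H871.Par.frob11_M22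
    exact H48.Seven.no_orb p hC e H921.Spor.M24.M22_three h3 (by omega) (by norm_num) le_rfl
  · exfalso
    obtain ⟨e⟩ := h
    have h11 := no_frob hC hsd e H871.Par.frob11_M23
    exact H48.Seven.no_orb p hC e H921.Spor.M24.M23_three h3 (by omega) (by norm_num) le_rfl
  · exfalso
    obtain ⟨e⟩ := h
    have h11 := no_frob hC hsd e H871.Par.frob11_M24
    exact H48.Seven.no_orb p hC e H921.Spor.M24.M24_three h3 (by omega) (by norm_num) le_rfl
  · left
    refine ⟨?_, h⟩
    obtain ⟨e⟩ := h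
    exact no_frob hC hsd (by exact e) frob11_J1
  · exact Or.inr h
  · exfalso
    obtain ⟨K, _, _, ω, hF, hω, ⟨e⟩⟩ := h
    have H := Cfsg.Agent.J3.Core.good_of_card hF hω
    exact H48.Seven.no_pr2 hC e (H921.Spor.Pr2.mk' 19 17 ((H921.Spor.J3.J3_nineteen hF H).orb (by norm_num))
      ((H921.Spor.J3.J3_seventeen hF H).orb (by norm_num)) (by norm_num) (by norm_num) (by norm_num))
  · exfalso
    obtain ⟨e⟩ := h
    exact H48.Seven.no_pr2 hC e (H921.Spor.Pr2.mk' 3 11 H921.Spor.Suz.Suz_three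
      (H921.Spor.Suz.Suz_eleven.orb (by norm_num)) (by norm_num) (by norm_num) (by norm_num))

end spor

/-! ### a copy in `GL₇` -/

section copy

variable {ι : Type} [Fintype ι] [DecidableEq ι] {F : Type u} [Field F]

/-- the same group in `GL (Fin 7) F` -/
structure Cop (P : Subgroup (GL ι F)) (P' : Subgroup (GL (Fin 7) F)) : Prop where
  core : Core P'
  fixQ : FixQ P'
  sd : SD P'
  bot : (scalars (Fin 7) F).subgroupOf P' = ⊥
  iso : Nonempty (Soc P ≃* Soc P')

variable [Fintype F] {p : ℕ} {Q : QuadraticForm F (ι → F)} {H P : Subgroup (GL ι F)}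

theorem C7.cop (c : C7 p Q H P) : ∃ P' : Subgroup (GL (Fin 7) F), Cop P P' := by
  let e : ι ≃ Fin 7 := Fintype.equivFinOfCardEq c.seven
  have hC := H879.Rx.core_rx e c.core
  have hQ := H879.Rx.fixQ_rx e c.fixQ
  exact ⟨H879.Rx.rx e P, hC, hQ, H879.Nine.sd_of_fixQ hQ, H879.TL.scalars_bot_of_odd hC hQ (by decide),
    ⟨H879.Rx.socEqv e P⟩⟩

end copy

/-! ### rows -/

namespace C7

variable {ι : Type} [Fintype ι] [DecidableEq ι] {F : Type u} [Field F] [Fintype F] {p : ℕ}
  {Q : QuadraticForm F (ι → F)} {H P : Subgroup (GL ι F)} (c : C7 p Q H P)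
include c

/-- `A₇` -/
theorem not_a7 (e : Soc P ≃* alternatingGroup (Fin 7)) : False := by
  obtain ⟨P', h⟩ := c.cop
  obtain ⟨s⟩ := h.iso
  let φ : alternatingGroup (Fin 7) ≃* P' := ((socEquiv h.bot).trans (s.symm.trans e)).symm
  refine H637.SevenA7.seven_A7 (P'.subtype.comp φ.toMonoidHom) ?_
  have h1 : (P'.subtype.comp φ.toMonoidHom).range = P' := by
    rw [MonoidHom.range_comp, MonoidHom.range_eq_top.2 φ.surjective, ← MonoidHom.range_eq_map,
      Subgroup.range_subtype]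
  rw [h1]
  exact h.core.absIrred

/-- `A_m`, `m ≥ 8` -/
theorem alt {m : ℕ} (hm : 8 ≤ m) (e : Soc P ≃* alternatingGroup (Fin m)) : Concl P := by
  have := Fact.mk c.prime
  have := c.charP
  have h2 := c.ne_two
  have h7 := c.seven
  have hsf := H614.AMod.Main.alt_sd_fr c.core p e hm (by omega) (fun h => h2 h.2)
  rcases H614.AMod.Main.alt_cases c.core p e hm (by omega) (fun h => h2 h.2) with h | h | h
  · rcases H614.AMod.Main.Nat'.dim c.core hm h p with ⟨h3, h4⟩ | ⟨h3, h4⟩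
    · obtain rfl : m = 8 := by omega
      exact (c.not_a8 e).elim
    · obtain rfl : m = 9 := by omega
      have hp3 : p = 3 := by
        have h5 : p ∣ 3 ^ 2 := by norm_num; exact h3
        exact (Nat.prime_dvd_prime_iff_eq c.prime Nat.prime_three).1 (c.prime.dvd_of_dvd_pow h5)
      left
      refine ⟨⟨e⟩, ?_⟩
      rw [← hp3]
      exact c.core.card_eq p hsf.2
  · have := h.n8
    omega
  · omega

/-- `Sp₆(2)` -/
theorem sp62 (h : IsS 3 2 (Soc P)) : Concl P := by
  have := Fact.mk c.prime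
  have := c.charP
  obtain ⟨K, iF, iT, hK, ⟨e⟩⟩ := h
  have h1 := H916.T8.sp hK c.core p e c.two (by rw [c.seven]; norm_num)
  right
  left
  refine ⟨?_, ?_⟩
  · let e0 : K ≃+* ZMod 2 := (ZMod.ringEquivOfPrime K Nat.prime_two hK).symm
    exact ⟨e.trans (Cfsg.Agent.LieClassical.FieldTransfer.pspCongr 3 e0)⟩
  · rw [c.core.card_eq p h1.2.2]
    exact c.prime

end C7

end Cfsg.Agent.H856.Tz
end

-- part: H875/TriSeven
section
/-!
# The invariant alternating trilinear form on `L(6 p^t)`, `p ≥ 7` (helper875)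

* `tri` : the trilinear form on `L j 6` with value `(dt c d) ^ 3 (dt d e) ^ 3 (dt e c) ^ 3` on the generators;
* `tri_seven` : `H` maximal in `omegaGL Q`, dimension 7, `P` the residual core of `H`, `Soc P ≃* PSL_2(E)`, defining
  characteristic: `P` fixes a nonzero alternating trilinear form.
-/

set_option autoImplicit false
set_option linter.unusedSectionVars false
set_option linter.unusedSimpArgs false

namespace Cfsg.Agent.H875.TriSeven

open Cfsg Cfsg.Geo Matrix Cfsg.Agent.H911.SLTwo Cfsg.Agent.H915.LD Cfsg.Agent.H875.Fn Cfsg.Agent.H875.Psl2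
  Cfsg.Agent.H875.TwoQuad

universe u v w

section form

variable {E : Type u} [Field E] [Fintype E] {k : Type v} [Field k] (j : E →+* k) (p : ℕ) [hp : Fact p.Prime] [CharP k p]
  (hr : 6 ≤ Fintype.card E - 1)

theorem mem_SS_six (h7 : 7 ≤ p) {m : ℕ} (hm : m ≤ 6) : m ∈ SS p 6 := by
  refine mem_SS.2 ⟨hm, fun h => ?_⟩
  have h1 : p ∣ (6 : ℕ).factorial := h.trans (by
    have := Nat.choose_mul_factorial_mul_factorial hm
    exact ⟨m.factorial * (6 - m).factorial, by rw [← this]; ring⟩)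
  have h2 := (hp.out.dvd_factorial).1 h1
  omega

open Classical in
/-- the coefficient functional -/
noncomputable def lam (m : ℕ) : L j 6 →ₗ[k] k :=
  if h : m ∈ SS p 6 then (((6 : ℕ).choose m : ℕ) : k)⁻¹ • (bas j p hr).coord ⟨m, h⟩ else 0

theorem lam_pL (h7 : 7 ≤ p) {m : ℕ} (hm : m ≤ 6) (c : E × E) :
    lam j p hr m (pL j 6 c) = j c.2 ^ m * j c.1 ^ (6 - m) := by
  classical
  have h := mem_SS_six p h7 hm
  have h0 : (((6 : ℕ).choose m : ℕ) : k) ≠ 0 := choose_ne_zero p h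
  unfold lam
  rw [dif_pos h, LinearMap.smul_apply, pL_eq_sum j p hr c, map_sum]
  rw [Finset.sum_eq_single ⟨m, h⟩]
  · rw [map_smul, Module.Basis.coord_apply, Module.Basis.repr_self, Finsupp.single_eq_same, smul_eq_mul, smul_eq_mul]
    field_simp
  · intro b _ hb
    rw [map_smul, Module.Basis.coord_apply, Module.Basis.repr_self, Finsupp.single_eq_of_ne (Ne.symm hb), smul_zero]
  · intro h
    exact absurd (Finset.mem_univ _) h

/-- the trilinear form -/
noncomputable def tri : L j 6 →ₗ[k] L j 6 →ₗ[k] L j 6 →ₗ[k] k :=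
  ∑ a ∈ Finset.range 4, ∑ b ∈ Finset.range 4, ∑ c ∈ Finset.range 4,
    ((-1 : k) ^ (a + b + c) * ((3 : ℕ).choose a : k) * ((3 : ℕ).choose b : k) * ((3 : ℕ).choose c : k)) •
      (lam j p hr (a + (3 - c))).smulRight ((lam j p hr (3 - a + b)).smulRight (lam j p hr (3 - b + c)))

theorem tri_pL (h7 : 7 ≤ p) (c d e : E × E) :
    tri j p hr (pL j 6 c) (pL j 6 d) (pL j 6 e) = (j (dt c d) * j (dt d e) * j (dt e c)) ^ 3 := by
  unfold tri
  simp only [LinearMap.sum_apply, LinearMap.smul_apply, LinearMap.smulRight_apply, smul_eq_mul]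
  have h1 : ∀ a ∈ Finset.range 4, ∀ b ∈ Finset.range 4, ∀ l ∈ Finset.range 4,
      ((-1 : k) ^ (a + b + l) * ((3 : ℕ).choose a : k) * ((3 : ℕ).choose b : k) * ((3 : ℕ).choose l : k)) *
        (lam j p hr (a + (3 - l)) (pL j 6 c) * (lam j p hr (3 - a + b) (pL j 6 d) * lam j p hr (3 - b + l) (pL j 6 e))) =
      ((-(j c.2 * j d.1)) ^ a * (j c.1 * j d.2) ^ (3 - a) * ((3 : ℕ).choose a : k)) *
      ((-(j d.2 * j e.1)) ^ b * (j d.1 * j e.2) ^ (3 - b) * ((3 : ℕ).choose b : k)) *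
      ((-(j e.2 * j c.1)) ^ l * (j e.1 * j c.2) ^ (3 - l) * ((3 : ℕ).choose l : k)) := by
    intro a ha b hb l hl
    rw [Finset.mem_range] at ha hb hl
    rw [lam_pL j p hr h7 (by omega), lam_pL j p hr h7 (by omega), lam_pL j p hr h7 (by omega)]
    have e1 : 6 - (a + (3 - l)) = (3 - a) + l := by omega
    have e2 : 6 - (3 - a + b) = a + (3 - b) := by omega
    have e3 : 6 - (3 - b + l) = b + (3 - l) := by omega
    rw [e1, e2, e3]
    simp only [neg_pow (j c.2 * j d.1), neg_pow (j d.2 * j e.1), neg_pow (j e.2 * j c.1), pow_add, mul_pow]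
    ring
  rw [Finset.sum_congr rfl fun a ha => Finset.sum_congr rfl fun b hb => Finset.sum_congr rfl fun l hl =>
    h1 a ha b hb l hl]
  simp only [← Finset.mul_sum, ← Finset.sum_mul]
  have h2 : ∀ x y : k, ∑ m ∈ Finset.range 4, (-x) ^ m * y ^ (3 - m) * ((3 : ℕ).choose m : k) = (y - x) ^ 3 := by
    intro x y
    rw [show y - x = -x + y by ring, add_pow]
  rw [h2, h2, h2]
  unfold dt
  simp only [map_sub, map_mul]
  ring

theorem span_ind {q : L j 6 → Prop} (x : L j 6) (h1 : ∀ c, q (pL j 6 c)) (h0 : q 0) (hadd : ∀ x y, q x → q y → q (x + y))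
    (hs : ∀ (a : k) x, q x → q (a • x)) : q x := by
  have hx : x ∈ Submodule.span k (Set.range (pL j 6)) := by rw [span_pL]; trivial
  induction hx using Submodule.span_induction with
  | mem x hx =>
    obtain ⟨c, rfl⟩ := hx
    exact h1 c
  | zero => exact h0
  | add x y _ _ hx hy => exact hadd x y hx hy
  | smul a x _ hx => exact hs a x hx

/-- two trilinear maps equal on the generators -/
theorem ext_tri {f g : L j 6 →ₗ[k] L j 6 →ₗ[k] L j 6 →ₗ[k] k}
    (h : ∀ c d e, f (pL j 6 c) (pL j 6 d) (pL j 6 e) = g (pL j 6 c) (pL j 6 d) (pL j 6 e)) : f = g := by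
  refine LinearMap.ext fun x => LinearMap.ext fun y => LinearMap.ext fun z => ?_
  refine span_ind j (q := fun x => f x y z = g x y z) x (fun c => ?_) ?_ (fun x x' h h' => ?_) fun a x h => ?_
  · refine span_ind j (q := fun y => f (pL j 6 c) y z = g (pL j 6 c) y z) y (fun d => ?_) ?_
      (fun x x' h h' => ?_) fun a x h => ?_
    · refine span_ind j (q := fun z => f (pL j 6 c) (pL j 6 d) z = g (pL j 6 c) (pL j 6 d) z) z (fun e => h c d e) ?_
        (fun x x' h h' => ?_) fun a x h => ?_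
      · rw [map_zero, map_zero]
      · rw [map_add, map_add, h, h']
      · rw [map_smul, map_smul, h]
    · rw [map_zero, map_zero]
    · rw [map_add, map_add, LinearMap.add_apply, LinearMap.add_apply, h, h']
    · rw [map_smul, map_smul, LinearMap.smul_apply, LinearMap.smul_apply, h]
  · rw [map_zero, map_zero]
  · rw [map_add, map_add, LinearMap.add_apply, LinearMap.add_apply, LinearMap.add_apply, LinearMap.add_apply, h, h']
  · rw [map_smul, map_smul, LinearMap.smul_apply, LinearMap.smul_apply, LinearMap.smul_apply, LinearMap.smul_apply, h]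

/-- precomposition -/
def comp3 {V W : Type*} [AddCommGroup V] [Module k V] [AddCommGroup W] [Module k W] (f : W →ₗ[k] W →ₗ[k] W →ₗ[k] k)
    (A : V →ₗ[k] W) : V →ₗ[k] V →ₗ[k] V →ₗ[k] k where
  toFun x := (f (A x)).compl₁₂ A A
  map_add' x y := by
    ext u v
    simp only [map_add, LinearMap.compl₁₂_apply, LinearMap.add_apply]
  map_smul' c x := by
    ext u v
    simp only [map_smul, LinearMap.compl₁₂_apply, LinearMap.smul_apply, RingHom.id_apply]

theorem comp3_apply {V W : Type*} [AddCommGroup V] [Module k V] [AddCommGroup W] [Module k W]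
    (f : W →ₗ[k] W →ₗ[k] W →ₗ[k] k) (A : V →ₗ[k] W) (x y z : V) : comp3 f A x y z = f (A x) (A y) (A z) := rfl

theorem tri_act (h7 : 7 ≤ p) {A : Matrix (Fin 2) (Fin 2) E} (hA : A.det = 1) (x y z : L j 6) :
    tri j p hr (actL j 6 A x) (actL j 6 A y) (actL j 6 A z) = tri j p hr x y z := by
  have h : comp3 (tri j p hr) (actL j 6 A) = tri j p hr := by
    refine ext_tri j fun c d e => ?_
    rw [comp3_apply, actL_pL, actL_pL, actL_pL, tri_pL j p hr h7, tri_pL j p hr h7, dt_mvM, dt_mvM, dt_mvM, hA,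
      one_mul, one_mul, one_mul]
  rw [← comp3_apply, h]

theorem tri_swap12 (h7 : 7 ≤ p) (x y z : L j 6) : tri j p hr y x z = - tri j p hr x y z := by
  have h : (tri j p hr).flip = (-1 : k) • tri j p hr := by
    refine ext_tri j fun c d e => ?_
    rw [LinearMap.flip_apply, LinearMap.smul_apply, LinearMap.smul_apply, LinearMap.smul_apply, tri_pL j p hr h7,
      tri_pL j p hr h7, dt_comm c d, dt_comm e c, dt_comm d e, smul_eq_mul]
    simp only [map_neg]
    ring
  have h1 : (tri j p hr).flip x y z = ((-1 : k) • tri j p hr) x y z := by rw [h]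
  rw [LinearMap.flip_apply, LinearMap.smul_apply, LinearMap.smul_apply, LinearMap.smul_apply, smul_eq_mul] at h1
  rw [h1]
  ring

theorem tri_swap23 (h7 : 7 ≤ p) (x y z : L j 6) : tri j p hr x z y = - tri j p hr x y z := by
  let g : L j 6 →ₗ[k] L j 6 →ₗ[k] L j 6 →ₗ[k] k := LinearMap.lflip.comp (tri j p hr)
  have h : g = (-1 : k) • tri j p hr := by
    refine ext_tri j fun c d e => ?_
    change tri j p hr (pL j 6 c) (pL j 6 e) (pL j 6 d) = _
    rw [LinearMap.smul_apply, LinearMap.smul_apply, LinearMap.smul_apply, tri_pL j p hr h7,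
      tri_pL j p hr h7, dt_comm e c, dt_comm d e, dt_comm c d, smul_eq_mul]
    simp only [map_neg]
    ring
  have h1 : g x y z = ((-1 : k) • tri j p hr) x y z := by rw [h]
  rw [LinearMap.smul_apply, LinearMap.smul_apply, LinearMap.smul_apply, smul_eq_mul] at h1
  change g x y z = _
  rw [h1]
  ring

theorem two_ne (h7 : 7 ≤ p) : (2 : k) ≠ 0 := by
  intro h
  have h1 : ((2 : ℕ) : k) = 0 := by exact_mod_cast h
  have h2 := Nat.le_of_dvd (by norm_num) ((CharP.cast_eq_zero_iff k p 2).1 h1)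
  omega

theorem tri_self (h7 : 7 ≤ p) (x y : L j 6) : tri j p hr x x y = 0 := by
  have h := tri_swap12 j p hr h7 x x y
  have h2 := two_ne (k := k) p h7
  have h3 : (2 : k) * tri j p hr x x y = 0 := by linear_combination h
  exact (mul_eq_zero.1 h3).resolve_left h2

theorem tri_self' (h7 : 7 ≤ p) (x y : L j 6) : tri j p hr x y y = 0 := by
  have h := tri_swap23 j p hr h7 x y y
  have h2 := two_ne (k := k) p h7
  have h3 : (2 : k) * tri j p hr x y y = 0 := by linear_combination h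
  exact (mul_eq_zero.1 h3).resolve_left h2

theorem tri_one (h7 : 7 ≤ p) : tri j p hr (pL j 6 (1, 0)) (pL j 6 (0, 1)) (pL j 6 (1, 1)) = 1 := by
  rw [tri_pL j p hr h7]
  unfold dt
  simp

end form

/-! ### Frobenius twists -/

section twist

variable {E : Type u} [Field E] [Fintype E] {k : Type v} [Field k] (j : E →+* k) (p : ℕ) [hp : Fact p.Prime] [CharP k p]
  {V : Type w} [AddCommGroup V] [Module k V] {R : _root_.Matrix.SpecialLinearGroup (Fin 2) E →* Module.End k V}

theorem pw_twist (t c : ℕ) (v : E × E) : pw j (p ^ t * c) v = pw ((iterateFrobenius k p t).comp j) c v := by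
  funext w
  unfold pw
  rw [RingHom.comp_apply, iterateFrobenius_def, pow_mul]

theorem L_twist (t c : ℕ) : L j (p ^ t * c) = L ((iterateFrobenius k p t).comp j) c := by
  unfold L
  rw [show pw j (p ^ t * c) = pw ((iterateFrobenius k p t).comp j) c from funext fun v => pw_twist j p t c v]

/-- the exponent `p ^ t * c` for `j` is the exponent `c` for `j` followed by a power of the Frobenius map -/
theorem isModel_twist {t c : ℕ} {Φ : V →ₗ[k] (E × E → k)} (hM : IsModel j R (p ^ t * c) Φ) :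
    IsModel ((iterateFrobenius k p t).comp j) R c Φ where
  ne_zero := by
    rintro rfl
    exact hM.ne_zero (mul_zero _)
  le := le_trans (Nat.le_mul_of_pos_left c (pow_pos hp.out.pos t)) hM.le
  inj := hM.inj
  act := hM.act
  range := by rw [hM.range, L_twist]

end twist

/-! ### the seven-dimensional orthogonal groups -/

section final

variable {ι : Type} [Fintype ι] [DecidableEq ι] {F : Type u} [Field F] [Fintype F] {E : Type w} [Field E] [Fintype E]
  {H P : Subgroup (GL ι F)} (p : ℕ) [hp : Fact p.Prime] [CharP E p] [CharP F p]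

seal _root_.Finset.sum _root_.Finset.filter in
theorem tri_of_model {θ : _root_.Matrix.SpecialLinearGroup (Fin 2) E →* P} (hθ : Function.Surjective θ) {J : E →+* F} (h7 : 7 ≤ p)
    {Φ : (ι → F) →ₗ[F] (E × E → F)} (hM : IsModel J (lin (P.subtype.comp θ) (RingHom.id F)) 6 Φ) :
    ∃ f : (ι → F) →ₗ[F] (ι → F) →ₗ[F] (ι → F) →ₗ[F] F, f ≠ 0 ∧ (∀ x y, f x x y = 0) ∧ (∀ x y, f x y y = 0) ∧
      ∀ g ∈ P, ∀ x y z, f ((g : Matrix ι ι F) *ᵥ x) ((g : Matrix ι ι F) *ᵥ y) ((g : Matrix ι ι F) *ᵥ z) = f x y z := by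
  refine ⟨comp3 (tri J p hM.le) (psiK hM).toLinearMap, fun h => ?_, fun x y => tri_self J p hM.le h7 _ _,
    fun x y => tri_self' J p hM.le h7 _ _, fun g hg x y z => ?_⟩
  · have h1 := congrArg (fun f => f ((psiK hM).symm (pL J 6 (1, 0))) ((psiK hM).symm (pL J 6 (0, 1)))
      ((psiK hM).symm (pL J 6 (1, 1)))) h
    have h2 : tri J p hM.le (psiK hM ((psiK hM).symm (pL J 6 (1, 0)))) (psiK hM ((psiK hM).symm (pL J 6 (0, 1))))
      (psiK hM ((psiK hM).symm (pL J 6 (1, 1)))) = 0 := h1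
    rw [LinearEquiv.apply_symm_apply, LinearEquiv.apply_symm_apply, LinearEquiv.apply_symm_apply,
      tri_one J p hM.le h7] at h2
    exact one_ne_zero h2
  · obtain ⟨a, ha⟩ := hθ ⟨g, hg⟩
    have h1 : ∀ x : ι → F, psiK hM ((g : Matrix ι ι F) *ᵥ x) = actL J 6 a.1 (psiK hM x) := by
      intro x
      rw [← psiK_lin]
      congr 1
      rw [lin_apply', MonoidHom.comp_apply, ha]
      congr 1
    rw [comp3_apply, comp3_apply]
    change tri J p hM.le (psiK hM _) (psiK hM _) (psiK hM _) = tri J p hM.le (psiK hM _) (psiK hM _) (psiK hM _)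
    rw [h1, h1, h1, tri_act J p hM.le h7 a.2]

include hp in
/-- **Dimension 7, socle `PSL_2(E)`, defining characteristic: an alternating trilinear form is fixed.** -/
theorem tri_seven {Q : (ι → F) → F} (h2 : (2 : F) ≠ 0) (hQ : IsNondegenerateQuadraticForm Q) (hn : Fintype.card ι = 7)
    (hH : IsMaximalIn (omegaGL Q) H) (hc : IsResidualCore H P) (e : Soc P ≃* ProjectiveSpecialLinearGroup (Fin 2) E) :
    ∃ f : (ι → F) →ₗ[F] (ι → F) →ₗ[F] (ι → F) →ₗ[F] F, f ≠ 0 ∧ (∀ x y, f x x y = 0) ∧ (∀ x y, f x y y = 0) ∧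
      ∀ g ∈ P, ∀ x y z, f ((g : Matrix ι ι F) *ᵥ x) ((g : Matrix ι ι F) *ᵥ y) ((g : Matrix ι ι F) *ᵥ z) = f x y z := by
  have hEF := card_eq_of_not_pow p (core_of_residual hc) e (PslRows.not_pow (by rw [hn]; omega))
  obtain ⟨θ, J, t, c, Φ, hsurj, -, hc0, hcp, hcard, hM⟩ := omega_single p h2 hQ (by omega) hH hc e hEF
  have hc6 : c = 6 := by omega
  subst hc6
  exact tri_of_model p hsurj (by omega) (isModel_twist (J : E →+* F) p hM)

end final

end Cfsg.Agent.H875.TriSeven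
end

-- part: H911/AdTri
section
/-!
# The alternating trilinear form of the adjoint module of `SL(3, E)` (helper911)

`f x y z = tr (x [y, z])`.
-/

set_option autoImplicit false
set_option linter.unusedSectionVars false
set_option linter.unusedVariables false

namespace Cfsg.Agent.H911.Ad.Mo

open Matrix

variable {k : Type*} [Field k] {E : Type*} [Field E] (σ : E →+* k)

/-- `tr (x [y, z])` -/
def tri (X Y Z : S k) : k := (X.1 * (Y.1 * Z.1 - Z.1 * Y.1)).trace

theorem tri_shift {X X' Y Y' W W' : S k} (hX : mk X = mk X') (hY : mk Y = mk Y') (hW : mk W = mk W') :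
    tri X Y W = tri X' Y' W' := by
  have key : ∀ {A B : S k}, mk A = mk B → ∃ a : k, A.1 = B.1 + a • (1 : Matrix (Fin 3) (Fin 3) k) := by
    intro A B h
    rw [← sub_eq_zero, ← map_sub, mk_eq_zero] at h
    obtain ⟨a, ha⟩ := h
    refine ⟨a, ?_⟩
    rw [ha]
    change A.1 = B.1 + (A.1 - B.1)
    rw [add_sub_cancel]
  obtain ⟨a, ha⟩ := key hX
  obtain ⟨b, hb⟩ := key hY
  obtain ⟨c, hc⟩ := key hW
  unfold tri
  have h1 : Y.1 * W.1 - W.1 * Y.1 = Y'.1 * W'.1 - W'.1 * Y'.1 := by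
    rw [hb, hc]
    simp only [Matrix.add_mul, Matrix.mul_add, Matrix.smul_mul, Matrix.mul_smul, Matrix.one_mul, Matrix.mul_one,
      smul_add, smul_smul, mul_comm b c]
    abel
  rw [h1, ha, Matrix.add_mul, Matrix.trace_add, Matrix.smul_mul, Matrix.one_mul, Matrix.trace_smul, Matrix.trace_sub,
    Matrix.trace_mul_comm Y'.1, sub_self, smul_zero, add_zero]

theorem tri_ad (g : _root_.Matrix.SpecialLinearGroup (Fin 3) E) (X Y W : S k) :
    tri (adS σ g X) (adS σ g Y) (adS σ g W) = tri X Y W := by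
  have h1 : ∀ A B : Matrix (Fin 3) (Fin 3) k, (mp σ g * A * mp σ g⁻¹) * (mp σ g * B * mp σ g⁻¹) =
      mp σ g * (A * B) * mp σ g⁻¹ := by
    intro A B
    rw [Matrix.mul_assoc (mp σ g * A), ← Matrix.mul_assoc (mp σ g⁻¹), ← Matrix.mul_assoc (mp σ g⁻¹), mp_inv_mul,
      Matrix.one_mul, Matrix.mul_assoc, ← Matrix.mul_assoc A, ← Matrix.mul_assoc]
  unfold tri
  rw [adS_val, adS_val, adS_val, h1, h1, ← Matrix.sub_mul, ← Matrix.mul_sub, h1, trace_conj]

theorem tri_self (X Y : S k) : tri X X Y = 0 := by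
  unfold tri
  rw [Matrix.mul_sub, Matrix.trace_sub, ← Matrix.mul_assoc, ← Matrix.mul_assoc, Matrix.trace_mul_comm (X.1 * Y.1),
    ← Matrix.mul_assoc, sub_self]

theorem tri_self' (X Y : S k) : tri X Y Y = 0 := by
  unfold tri
  rw [sub_self, Matrix.mul_zero, Matrix.trace_zero]

theorem tri_add₁ (X X' Y W : S k) : tri (X + X') Y W = tri X Y W + tri X' Y W := by
  unfold tri
  change ((X.1 + X'.1) * _).trace = _
  rw [Matrix.add_mul, Matrix.trace_add]

theorem tri_smul₁ (a : k) (X Y W : S k) : tri (a • X) Y W = a * tri X Y W := by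
  unfold tri
  change ((a • X.1) * _).trace = _
  rw [Matrix.smul_mul, Matrix.trace_smul, smul_eq_mul]

theorem tri_add₂ (X Y Y' W : S k) : tri X (Y + Y') W = tri X Y W + tri X Y' W := by
  unfold tri
  change (X.1 * ((Y.1 + Y'.1) * W.1 - W.1 * (Y.1 + Y'.1))).trace = _
  rw [← Matrix.trace_add, ← Matrix.mul_add, Matrix.add_mul, Matrix.mul_add]
  congr 2
  abel

theorem tri_smul₂ (a : k) (X Y W : S k) : tri X (a • Y) W = a * tri X Y W := by
  unfold tri
  change (X.1 * ((a • Y.1) * W.1 - W.1 * (a • Y.1))).trace = _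
  rw [Matrix.smul_mul, Matrix.mul_smul, ← smul_sub, Matrix.mul_smul, Matrix.trace_smul, smul_eq_mul]

theorem tri_add₃ (X Y W W' : S k) : tri X Y (W + W') = tri X Y W + tri X Y W' := by
  unfold tri
  change (X.1 * (Y.1 * (W.1 + W'.1) - (W.1 + W'.1) * Y.1)).trace = _
  rw [← Matrix.trace_add, ← Matrix.mul_add, Matrix.add_mul, Matrix.mul_add]
  congr 2
  abel

theorem tri_smul₃ (a : k) (X Y W : S k) : tri X Y (a • W) = a * tri X Y W := by
  unfold tri
  change (X.1 * (Y.1 * (a • W.1) - (a • W.1) * Y.1)).trace = _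
  rw [Matrix.smul_mul, Matrix.mul_smul, ← smul_sub, Matrix.mul_smul, Matrix.trace_smul, smul_eq_mul]

end Cfsg.Agent.H911.Ad.Mo

namespace Cfsg.Agent.H911.Ad

open Matrix
open Cfsg Cfsg.Geo Cfsg.Agent.H915.LD

section tri

variable {F : Type*} [Field F] {V : Type*} [AddCommGroup V] [Module F V] (θ : V ≃ₗ[F] Mo.M F)

/-- a representative -/
noncomputable def rp (v : V) : Mo.S F := Classical.choose (Mo.mk_surj (θ v))

theorem mk_rp (v : V) : Mo.mk (rp θ v) = θ v := Classical.choose_spec (Mo.mk_surj (θ v))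

theorem tri_eq {x y z : V} {X Y Z : Mo.S F} (hX : Mo.mk X = θ x) (hY : Mo.mk Y = θ y) (hZ : Mo.mk Z = θ z) :
    Mo.tri (rp θ x) (rp θ y) (rp θ z) = Mo.tri X Y Z :=
  Mo.tri_shift ((mk_rp θ x).trans hX.symm) ((mk_rp θ y).trans hY.symm) ((mk_rp θ z).trans hZ.symm)

/-- the trilinear form -/
noncomputable def triF : V →ₗ[F] V →ₗ[F] V →ₗ[F] F :=
  LinearMap.mk₂ F (fun x y =>
    { toFun := fun z => Mo.tri (rp θ x) (rp θ y) (rp θ z)
      map_add' := fun z z' => by
        rw [tri_eq θ (mk_rp θ x) (mk_rp θ y) (Z := rp θ z + rp θ z') (by rw [map_add, map_add, mk_rp, mk_rp]), Mo.tri_add₃]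
      map_smul' := fun a z => by
        rw [tri_eq θ (mk_rp θ x) (mk_rp θ y) (Z := a • rp θ z) (by rw [map_smul, map_smul, mk_rp]), Mo.tri_smul₃]; rfl })
    (fun x x' y => LinearMap.ext fun z => by
      change Mo.tri (rp θ (x + x')) (rp θ y) (rp θ z) = Mo.tri (rp θ x) (rp θ y) (rp θ z) + Mo.tri (rp θ x') (rp θ y) (rp θ z)
      rw [tri_eq θ (X := rp θ x + rp θ x') (by rw [map_add, map_add, mk_rp, mk_rp]) (mk_rp θ y) (mk_rp θ z), Mo.tri_add₁])
    (fun a x y => LinearMap.ext fun z => by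
      change Mo.tri (rp θ (a • x)) (rp θ y) (rp θ z) = a * Mo.tri (rp θ x) (rp θ y) (rp θ z)
      rw [tri_eq θ (X := a • rp θ x) (by rw [map_smul, map_smul, mk_rp]) (mk_rp θ y) (mk_rp θ z), Mo.tri_smul₁])
    (fun x y y' => LinearMap.ext fun z => by
      change Mo.tri (rp θ x) (rp θ (y + y')) (rp θ z) = Mo.tri (rp θ x) (rp θ y) (rp θ z) + Mo.tri (rp θ x) (rp θ y') (rp θ z)
      rw [tri_eq θ (mk_rp θ x) (Y := rp θ y + rp θ y') (by rw [map_add, map_add, mk_rp, mk_rp]) (mk_rp θ z), Mo.tri_add₂])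
    (fun a x y => LinearMap.ext fun z => by
      change Mo.tri (rp θ x) (rp θ (a • y)) (rp θ z) = a * Mo.tri (rp θ x) (rp θ y) (rp θ z)
      rw [tri_eq θ (mk_rp θ x) (Y := a • rp θ y) (by rw [map_smul, map_smul, mk_rp]) (mk_rp θ z), Mo.tri_smul₂])

theorem triF_apply (x y z : V) : triF θ x y z = Mo.tri (rp θ x) (rp θ y) (rp θ z) := rfl

theorem triF_eq {x y z : V} {X Y Z : Mo.S F} (hX : Mo.mk X = θ x) (hY : Mo.mk Y = θ y) (hZ : Mo.mk Z = θ z) :
    triF θ x y z = Mo.tri X Y Z := tri_eq θ hX hY hZ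

theorem triF_self (x y : V) : triF θ x x y = 0 := Mo.tri_self _ _

theorem triF_self' (x y : V) : triF θ x y y = 0 := Mo.tri_self' _ _

theorem triF_ne : triF θ ≠ 0 := by
  intro h0
  have h1 := triF_eq θ (x := θ.symm (Mo.mk (Mo.e F (show (0 : Fin 3) ≠ 1 by decide))))
    (y := θ.symm (Mo.mk (Mo.e F (show (1 : Fin 3) ≠ 2 by decide))))
    (z := θ.symm (Mo.mk (Mo.e F (show (2 : Fin 3) ≠ 0 by decide))))
    (θ.apply_symm_apply _).symm (θ.apply_symm_apply _).symm (θ.apply_symm_apply _).symm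
  rw [h0] at h1
  have h2 : Mo.tri (Mo.e F (show (0 : Fin 3) ≠ 1 by decide)) (Mo.e F (show (1 : Fin 3) ≠ 2 by decide))
      (Mo.e F (show (2 : Fin 3) ≠ 0 by decide)) = 1 := by
    change (Matrix.single 0 1 1 * (Matrix.single 1 2 1 * Matrix.single 2 0 1 - Matrix.single 2 0 1 * Matrix.single 1 2 1) :
      Matrix (Fin 3) (Fin 3) F).trace = 1
    rw [Matrix.single_mul_single_same, Matrix.single_mul_single_of_ne _ _ _ _ (by decide), sub_zero,
      Matrix.single_mul_single_same, Matrix.trace_single_eq_same, mul_one, mul_one]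
  rw [h2] at h1
  exact zero_ne_one h1

theorem triF_inv {E : Type*} [Field E] {σ : E →+* F} {G : _root_.Matrix.SpecialLinearGroup (Fin 3) E} {g : V → V}
    (hg : ∀ v, θ (g v) = Mo.ad σ G (θ v)) (x y z : V) : triF θ (g x) (g y) (g z) = triF θ x y z := by
  rw [triF_eq θ (X := Mo.adS σ G (rp θ x)) (Y := Mo.adS σ G (rp θ y)) (Z := Mo.adS σ G (rp θ z)), Mo.tri_ad, triF_apply]
  · rw [hg, ← mk_rp, Mo.ad_mk]
  · rw [hg, ← mk_rp, Mo.ad_mk]
  · rw [hg, ← mk_rp, Mo.ad_mk]

end tri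

section P

variable {F : Type*} [Field F] [Finite F] {ι : Type} [Fintype ι] [DecidableEq ι] {P : Subgroup (GL ι F)}
  {E : Type*} [Field E] [Finite E] (p : ℕ) [hp : Fact p.Prime] [hFp : CharP F p] [hEp : CharP E p]
include hp hFp hEp

/-- **The invariant alternating trilinear form.** -/
theorem psl3_tri (hC : Core P) (hsd : SD P) (Φ : Soc P ≃* ProjectiveSpecialLinearGroup (Fin 3) E)
    (hn : Fintype.card ι ≤ 11) : ∃ f : (ι → F) →ₗ[F] (ι → F) →ₗ[F] (ι → F) →ₗ[F] F, f ≠ 0 ∧ (∀ x y, f x x y = 0) ∧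
      (∀ x y, f x y y = 0) ∧ ∀ g ∈ P, ∀ x y z, f ((g : Matrix ι ι F) *ᵥ x) ((g : Matrix ι ι F) *ᵥ y)
        ((g : Matrix ι ι F) *ᵥ z) = f x y z := by
  obtain ⟨σ, φ, θ, hσ, hφ, hθ⟩ := psl3_model p hC hsd Φ hn
  refine ⟨triF θ, triF_ne θ, triF_self θ, triF_self' θ, fun g hg x y z => ?_⟩
  rw [← hφ] at hg
  obtain ⟨G, rfl⟩ := hg
  exact triF_inv θ (G := G) (g := fun v => (φ G : Matrix ι ι F) *ᵥ v) (hθ G) x y z

end P

end Cfsg.Agent.H911.Ad
end

-- part: H929/UThreeTri
section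
/-!
# Self-dual cores of type `PSU(3, 3^f)` in dimension seven: an invariant alternating trilinear form (helper929)

* **`exists_alt_psu3`** : `SD P`, `n = 7` ⟹ `P` fixes a nonzero alternating trilinear form (`tr (x [y, z])` on `su_3 / scalars`).
-/

set_option autoImplicit false
set_option linter.unusedSectionVars false
set_option linter.style.haveILetI false

namespace Cfsg.Agent.H929.U3

open Cfsg Cfsg.Geo Cfsg.Agent.LieClassical.HermSiegel Cfsg.Agent.LieClassical.HermBasic Matrix Cfsg.Agent.H906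
  Cfsg.Agent.H915.LD Cfsg.Agent.H905.Md Cfsg.Agent.H919.U3 Cfsg.Agent.H919.Gram

universe u

section Tri

variable {K : Type*} [Field K]

/-- `tr (X [Y, Z])` -/
def tri (X Y Z : Matrix (Fin 3) (Fin 3) K) : K := (X * (Y * Z - Z * Y)).trace

theorem tri_eq (X Y Z : Matrix (Fin 3) (Fin 3) K) : tri X Y Z = (X * Y * Z).trace - (X * Z * Y).trace := by
  rw [tri, Matrix.mul_sub, Matrix.trace_sub, Matrix.mul_assoc, Matrix.mul_assoc]

theorem tri_add1 (X X' Y Z : Matrix (Fin 3) (Fin 3) K) : tri (X + X') Y Z = tri X Y Z + tri X' Y Z := by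
  simp only [tri, Matrix.add_mul, Matrix.trace_add]

theorem tri_add2 (X Y Y' Z : Matrix (Fin 3) (Fin 3) K) : tri X (Y + Y') Z = tri X Y Z + tri X Y' Z := by
  simp only [tri_eq, Matrix.mul_add, Matrix.add_mul, Matrix.trace_add]
  ring

theorem tri_add3 (X Y Z Z' : Matrix (Fin 3) (Fin 3) K) : tri X Y (Z + Z') = tri X Y Z + tri X Y Z' := by
  simp only [tri_eq, Matrix.mul_add, Matrix.add_mul, Matrix.trace_add]
  ring

theorem tri_smul1 (c : K) (X Y Z : Matrix (Fin 3) (Fin 3) K) : tri (c • X) Y Z = c * tri X Y Z := by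
  simp only [tri_eq, Matrix.smul_mul, Matrix.trace_smul, smul_eq_mul]
  ring

theorem tri_smul2 (c : K) (X Y Z : Matrix (Fin 3) (Fin 3) K) : tri X (c • Y) Z = c * tri X Y Z := by
  simp only [tri_eq, Matrix.smul_mul, Matrix.mul_smul, Matrix.trace_smul, smul_eq_mul]
  ring

theorem tri_smul3 (c : K) (X Y Z : Matrix (Fin 3) (Fin 3) K) : tri X Y (c • Z) = c * tri X Y Z := by
  simp only [tri_eq, Matrix.smul_mul, Matrix.mul_smul, Matrix.trace_smul, smul_eq_mul]
  ring

theorem tri_self (X Z : Matrix (Fin 3) (Fin 3) K) : tri X X Z = 0 := by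
  rw [tri_eq, Matrix.trace_mul_comm (X * Z) X, Matrix.mul_assoc, sub_self]

theorem tri_z23 (X Z : Matrix (Fin 3) (Fin 3) K) : tri X Z Z = 0 := by
  rw [tri_eq, sub_self]

theorem tri_one1 (Y Z : Matrix (Fin 3) (Fin 3) K) : tri 1 Y Z = 0 := by
  rw [tri_eq, Matrix.one_mul, Matrix.one_mul, Matrix.trace_mul_comm, sub_self]

theorem tri_one2 (X Z : Matrix (Fin 3) (Fin 3) K) : tri X 1 Z = 0 := by
  rw [tri_eq, Matrix.mul_one, Matrix.mul_one, sub_self]

theorem tri_one3 (X Y : Matrix (Fin 3) (Fin 3) K) : tri X Y 1 = 0 := by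
  rw [tri_eq, Matrix.mul_one, Matrix.mul_one, sub_self]

theorem tri_scalars (X Y Z : Matrix (Fin 3) (Fin 3) K) (a b c : K) :
    tri (X + a • 1) (Y + b • 1) (Z + c • 1) = tri X Y Z := by
  simp only [tri_add1, tri_add2, tri_add3, tri_smul1, tri_smul2, tri_smul3, tri_one1, tri_one2, tri_one3, mul_zero,
    add_zero]

/-- values on rank-one matrices -/
theorem tri_am {E : Type*} [Field E] [Fintype E] {q : ℕ} (j : E →+* K)
    (u v w : Iso q E) : tri (am j u).1 (am j v).1 (am j w).1 =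
      j (hermForm 3 E q v.1 u.1 * hermForm 3 E q w.1 v.1 * hermForm 3 E q u.1 w.1) -
        j (hermForm 3 E q w.1 u.1 * hermForm 3 E q v.1 w.1 * hermForm 3 E q u.1 v.1) := by
  rw [tri_eq]
  simp only [Matrix.trace, Matrix.diag_apply, Matrix.mul_apply, am_apply, Fin.sum_univ_three, herm_three, map_mul,
    map_add, map_pow]
  ring

end Tri

section Data

variable {F : Type u} [Field F] {ι : Type} [Fintype ι] [DecidableEq ι] {P : Subgroup (GL ι F)} {p : ℕ}
  {E : Type} [Field E] [Fintype E] {q : ℕ} {e : Soc P ≃* PSU 3 E q} (D : SU3Data P p E q e)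

/-- the identification with trace-zero matrices modulo scalars -/
theorem SU3Data.exists_tz (hE : Fintype.card E = q ^ 2) (hb : D.b = 1 + q) (h7 : 7 ≤ Fintype.card ι)
    (h3 : (3 : AlgebraicClosure F) = 0) :
    ∃ S : (ι → AlgebraicClosure F) →ₗ[AlgebraicClosure F] Tz (AlgebraicClosure F),
      ∀ w, ∃ a : AlgebraicClosure F, (S (D.V w)).1 = (am D.j w).1 + a • 1 := by
  classical
  have hfin : Finite (Iso q E) := inferInstance
  have := Fintype.ofFinite (Iso q E)
  set K := AlgebraicClosure F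
  have h1 : (1 : Matrix (Fin 3) (Fin 3) K) ∈ Tz K := by
    rw [LinearMap.mem_ker, Matrix.traceLinearMap_apply, Matrix.trace_one, Fintype.card_fin]
    push_cast
    exact h3
  let one : Tz K := ⟨1, h1⟩
  have hone : one ≠ 0 := by
    intro h0
    have := congrArg Subtype.val h0
    exact one_ne_zero this
  let Z : Submodule K (Tz K) := Submodule.span K {one}
  have hZ : Module.finrank K Z = 1 := finrank_span_singleton hone
  have hd : Module.finrank K (Tz K ⧸ Z) ≤ 7 := by
    have h2 := Submodule.finrank_quotient_add_finrank Z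
    have h4 := finrank_Tz K
    omega
  have hker : ∀ c : Iso q E → K, ∑ x, c x • (Submodule.Quotient.mk (am D.j x) : Tz K ⧸ Z) = 0 →
      ∑ x, c x • D.V x = 0 := by
    intro c hc
    have h2 : (Submodule.Quotient.mk (∑ x, c x • am D.j x) : Tz K ⧸ Z) = 0 := by
      rw [← hc]
      change Z.mkQ (∑ x, c x • am D.j x) = ∑ x, c x • Z.mkQ (am D.j x)
      simp only [map_sum, map_smul]
    rw [Submodule.Quotient.mk_eq_zero] at h2
    obtain ⟨a, ha⟩ := Submodule.mem_span_singleton.1 h2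
    have h4 : ∀ u : Iso q E, D.Φ u ⬝ᵥ (∑ x, c x • D.V x) = 0 := by
      intro u
      have h5 : ∀ s : Finset (Iso q E), (QuadraticMap.polar (qf K) (am D.j u) (∑ x ∈ s, c x • am D.j x)) =
          - (D.Φ u ⬝ᵥ ∑ x ∈ s, c x • D.V x) := by
        intro s
        induction s using Finset.induction_on with
        | empty => rw [Finset.sum_empty, Finset.sum_empty, QuadraticMap.polar_zero_right, dotProduct_zero, neg_zero]
        | insert x s hx ih =>
          rw [Finset.sum_insert hx, Finset.sum_insert hx, QuadraticMap.polar_add_right, ih, dotProduct_add,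
            QuadraticMap.polar_smul_right, polar_am hE, dotProduct_smul, D.ker.coef, hb, smul_eq_mul, smul_eq_mul]
          ring
      have h6 := h5 Finset.univ
      rw [← ha, QuadraticMap.polar_smul_right, polar_eq] at h6
      have h7 : ∑ i, ∑ k, (am D.j u).1 i k * one.1 k i = 0 := by
        have h8 := (am D.j u).2
        rw [LinearMap.mem_ker, Matrix.traceLinearMap_apply, Matrix.trace] at h8
        rw [← h8]
        refine Finset.sum_congr rfl fun i _ => ?_
        rw [Finset.sum_eq_single i]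
        · change _ * (1 : Matrix (Fin 3) (Fin 3) K) i i = _
          rw [Matrix.one_apply_eq, mul_one, Matrix.diag_apply]
        · intro k _ hk
          change _ * (1 : Matrix (Fin 3) (Fin 3) K) k i = _
          rw [Matrix.one_apply_ne hk, mul_zero]
        · intro h
          exact absurd (Finset.mem_univ i) h
      rw [h7, neg_zero, smul_zero] at h6
      exact neg_eq_zero.1 h6.symm
    have h5 : ∀ y : ι → K, y ⬝ᵥ (∑ x, c x • D.V x) = 0 := by
      intro y
      have hy : y ∈ Submodule.span K (Set.range D.Φ) := by rw [D.ker.spanL]; trivial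
      induction hy using Submodule.span_induction with
      | mem y hy =>
        obtain ⟨u, rfl⟩ := hy
        exact h4 u
      | zero => rw [zero_dotProduct]
      | add x y _ _ hx hy => rw [add_dotProduct, hx, hy, add_zero]
      | smul c x _ hx => rw [smul_dotProduct, hx, smul_zero]
    funext i
    have h6 := h5 (Pi.single i 1)
    rw [single_dotProduct, one_mul] at h6
    exact h6
  obtain ⟨L, hL⟩ := exists_lin D.V (fun x => (Submodule.Quotient.mk (am D.j x) : Tz K ⧸ Z)) D.ker.spanR (hker :)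
    (by rw [Module.finrank_pi]; exact hd.trans h7)
  obtain ⟨s, hs⟩ := LinearMap.exists_rightInverse_of_surjective Z.mkQ (Submodule.range_mkQ Z)
  refine ⟨s ∘ₗ L, fun w => ?_⟩
  have h2 : Z.mkQ (s (L (D.V w))) = Z.mkQ (am D.j w) := by
    have := LinearMap.congr_fun hs (L (D.V w))
    rw [LinearMap.comp_apply, LinearMap.id_apply] at this
    rw [this, hL]
    rfl
  rw [← sub_eq_zero, ← map_sub, Submodule.mkQ_apply, Submodule.Quotient.mk_eq_zero] at h2
  obtain ⟨a, ha⟩ := Submodule.mem_span_singleton.1 h2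
  refine ⟨a, ?_⟩
  have h4 := congrArg Subtype.val ha
  rw [LinearMap.comp_apply]
  change a • (1 : Matrix (Fin 3) (Fin 3) K) = (s (L (D.V w))).1 - (am D.j w).1 at h4
  rw [h4]
  abel

end Data

/-! ### Trilinear maps -/

section Mk

variable {R V W : Type*} [CommRing R] [AddCommGroup V] [Module R V] [AddCommGroup W] [Module R W]

/-- trilinear maps from functions -/
def mk3 (T : V → V → V → W) (a1 : ∀ x x' y z, T (x + x') y z = T x y z + T x' y z)
    (s1 : ∀ (c : R) x y z, T (c • x) y z = c • T x y z) (a2 : ∀ x y y' z, T x (y + y') z = T x y z + T x y' z)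
    (s2 : ∀ (c : R) x y z, T x (c • y) z = c • T x y z) (a3 : ∀ x y z z', T x y (z + z') = T x y z + T x y z')
    (s3 : ∀ (c : R) x y z, T x y (c • z) = c • T x y z) : V →ₗ[R] V →ₗ[R] V →ₗ[R] W where
  toFun x := LinearMap.mk₂ R (T x) (a2 x) (fun c y z => s2 c x y z) (a3 x) (fun c y z => s3 c x y z)
  map_add' x x' := by
    ext y z
    exact a1 x x' y z
  map_smul' c x := by
    ext y z
    exact s1 c x y z

theorem mk3_apply (T : V → V → V → W) (a1 : ∀ x x' y z, T (x + x') y z = T x y z + T x' y z)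
    (s1 : ∀ (c : R) x y z, T (c • x) y z = c • T x y z) (a2 : ∀ x y y' z, T x (y + y') z = T x y z + T x y' z)
    (s2 : ∀ (c : R) x y z, T x (c • y) z = c • T x y z) (a3 : ∀ x y z z', T x y (z + z') = T x y z + T x y z')
    (s3 : ∀ (c : R) x y z, T x y (c • z) = c • T x y z) (x y z : V) : mk3 T a1 s1 a2 s2 a3 s3 x y z = T x y z := rfl

theorem ext3 {τ : Type*} {b : τ → V} (hb : Submodule.span R (Set.range b) = ⊤) {f g : V →ₗ[R] V →ₗ[R] V →ₗ[R] W}
    (h : ∀ i j k, f (b i) (b j) (b k) = g (b i) (b j) (b k)) : f = g :=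
  LinearMap.ext_on_range hb fun i => LinearMap.ext_on_range hb fun j => LinearMap.ext_on_range hb fun k => h i j k

end Mk

section Main

variable {F : Type u} [Field F] [Finite F] {ι : Type} [Fintype ι] [DecidableEq ι] {P : Subgroup (GL ι F)}
  (p : ℕ) [hp : Fact p.Prime] [hFp : CharP F p] {E : Type} [Field E] [Fintype E] [hEp : CharP E p]

include p hp hFp hEp in
/-- **the invariant alternating trilinear form** -/
theorem exists_alt_psu3 {q : ℕ} (hC : Core P) (hsd : SD P) (hq3 : 3 ≤ q) (hE : Fintype.card E = q ^ 2)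
    (e : Soc P ≃* PSU 3 E q) (h7 : Fintype.card ι = 7) :
    ∃ f : (ι → F) →ₗ[F] (ι → F) →ₗ[F] (ι → F) →ₗ[F] F, (∀ x y, f x x y = 0) ∧ (∀ x y, f x y y = 0) ∧
      (∃ x y z, f x y z ≠ 0) ∧ ∀ g ∈ P, ∀ x y z, f ((g : Matrix ι ι F) *ᵥ x) ((g : Matrix ι ι F) *ᵥ y)
        ((g : Matrix ι ι F) *ᵥ z) = f x y z := by
  classical
  obtain ⟨D⟩ := core_model p hC hq3 hE e (by omega)
  have hb := (D.sd_iff p hC hq3 hE (by omega)).1 hsd
  have hchar : CharP (AlgebraicClosure F) p := charP_of_injective_algebraMap (algebraMap F _).injective p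
  have hp3 : p = 3 := by
    rcases core_psu3_sd p hC hq3 hE e (by omega) hsd with h | h
    · exact h.1
    · omega
  have h3 : (3 : AlgebraicClosure F) = 0 := by
    have := CharP.cast_eq_zero (AlgebraicClosure F) p
    rw [hp3] at this
    simpa only [_root_.Nat.cast_ofNat] using this
  obtain ⟨S, hS⟩ := D.exists_tz hE hb h7.ge h3
  let T : (ι → AlgebraicClosure F) →ₗ[AlgebraicClosure F] (ι → AlgebraicClosure F) →ₗ[AlgebraicClosure F]
      (ι → AlgebraicClosure F) →ₗ[AlgebraicClosure F] AlgebraicClosure F :=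
    mk3 (fun x y z => tri (S x).1 (S y).1 (S z).1)
      (fun x x' y z => by rw [map_add]; exact tri_add1 _ _ _ _) (fun c x y z => by rw [map_smul]; exact tri_smul1 _ _ _ _)
      (fun x y y' z => by rw [map_add]; exact tri_add2 _ _ _ _) (fun c x y z => by rw [map_smul]; exact tri_smul2 _ _ _ _)
      (fun x y z z' => by rw [map_add]; exact tri_add3 _ _ _ _) (fun c x y z => by rw [map_smul]; exact tri_smul3 _ _ _ _)
  have hT : ∀ x y z, T x y z = tri (S x).1 (S y).1 (S z).1 := fun _ _ _ => rfl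
  have hTV : ∀ u v w, T (D.V u) (D.V v) (D.V w) =
      D.j (hermForm 3 E q v.1 u.1 * hermForm 3 E q w.1 v.1 * hermForm 3 E q u.1 w.1) -
        D.j (hermForm 3 E q w.1 u.1 * hermForm 3 E q v.1 w.1 * hermForm 3 E q u.1 v.1) := by
    intro u v w
    obtain ⟨a, ha⟩ := hS u
    obtain ⟨b, hb'⟩ := hS v
    obtain ⟨c, hc⟩ := hS w
    rw [hT, ha, hb', hc, tri_scalars, tri_am]
  -- invariance
  have hinv : ∀ (g : SU 3 E q) x y z, T (acRep D.rep g *ᵥ x) (acRep D.rep g *ᵥ y) (acRep D.rep g *ᵥ z) = T x y z := by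
    intro g
    have h4 : mk3 (R := AlgebraicClosure F)
        (fun x y z => T (acRep D.rep g *ᵥ x) (acRep D.rep g *ᵥ y) (acRep D.rep g *ᵥ z))
        (fun x x' y z => by rw [Matrix.mulVec_add, map_add]; rfl) (fun c x y z => by rw [Matrix.mulVec_smul, map_smul]; rfl)
        (fun x y y' z => by rw [Matrix.mulVec_add, map_add]; rfl) (fun c x y z => by rw [Matrix.mulVec_smul, map_smul]; rfl)
        (fun x y z z' => by rw [Matrix.mulVec_add, map_add]) (fun c x y z => by rw [Matrix.mulVec_smul, map_smul]) = T := by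
      apply ext3 D.ker.spanR
      intro u v w
      rw [mk3_apply, ← D.V_act hE, ← D.V_act hE, ← D.V_act hE, hTV, hTV]
      simp only [actIso, herm_act]
    intro x y z
    exact LinearMap.congr_fun (LinearMap.congr_fun (LinearMap.congr_fun h4 x) y) z
  -- nonzero
  obtain ⟨e₂, e₃, hfr⟩ := exists_fr hE D.iso D.ne
  have h30 : e₃ ≠ 0 := by
    rintro rfl
    have := hfr.h13
    rw [herm_zero_right hE] at this
    exact zero_ne_one this
  obtain ⟨y, hy⟩ : ∃ y : E, y ^ q ≠ y := by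
    by_contra hcon
    push Not at hcon
    have h5 : (Finset.univ : Finset E).card ≤ q := by
      have h6 := FiniteField.X_pow_card_sub_X_natDegree_eq E (p := q) (by omega)
      have h8 : (Polynomial.X ^ q - Polynomial.X : Polynomial E) ≠ 0 :=
        FiniteField.X_pow_card_sub_X_ne_zero E (by omega)
      have h9 : (Finset.univ : Finset E).val ≤ (Polynomial.X ^ q - Polynomial.X : Polynomial E).roots := by
        rw [Finset.val_le_iff_val_subset]
        intro x _
        rw [Polynomial.mem_roots h8]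
        simp [hcon x]
      have h10 := Multiset.card_le_card h9
      exact h10.trans ((Polynomial.card_roots' _).trans h6.le)
    rw [Finset.card_univ, hE] at h5
    nlinarith only [hq3, h5]
  obtain ⟨x, hx⟩ := _root_.Cfsg.Agent.LieClassical.HermBasic.exists_norm_eq hE (c := -(y + y ^ q)) (by
    rw [neg_pow_q hE, add_pow_q hE, pow_q_pow_q hE, add_comm])
  have hw : hermForm 3 E q (y • D.e₀ + x • e₂ + (1 : E) • e₃) (y • D.e₀ + x • e₂ + (1 : E) • e₃) = 0 := by
    rw [hfr.herm_comb hE, hx, one_pow]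
    ring
  let w : Iso q E := ⟨_, hw, hfr.comb_ne_zero hE one_ne_zero⟩
  have hne : T (D.V ⟨D.e₀, D.iso, D.ne⟩) (D.V ⟨e₃, hfr.h33, h30⟩) (D.V w) ≠ 0 := by
    have h5 : hermForm 3 E q w.1 e₃ = y := by
      have := hfr.herm_comb hE y x 1 0 0 1
      simp only [zero_smul, zero_add, one_smul, one_pow, zero_pow_q hE, mul_one, mul_zero, add_zero] at this
      simpa [w] using this
    have h6 : hermForm 3 E q D.e₀ w.1 = 1 := by
      have := hfr.herm_comb hE 1 0 0 y x 1
      simp only [zero_smul, add_zero, one_smul, one_pow, zero_mul, mul_one] at this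
      simpa [w] using this
    have h8 : hermForm 3 E q w.1 D.e₀ = 1 := by rw [herm_swap hE, h6, one_pow]
    have h9 : hermForm 3 E q e₃ w.1 = y ^ q := by rw [herm_swap hE, h5]
    rw [hTV, h5, h6, hfr.h31 hE, h8, h9, hfr.h13, one_mul, mul_one, one_mul, mul_one, ← map_sub]
    rw [Ne, map_eq_zero_iff _ D.j.injective, sub_eq_zero]
    exact fun h => hy h.symm
  -- basis vectors
  obtain ⟨a, b, c, habc⟩ : ∃ a b c : ι, T (Pi.single a 1) (Pi.single b 1) (Pi.single c 1) ≠ 0 := by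
    by_contra hcon
    push Not at hcon
    apply hne
    have h5 : T = 0 := by
      apply ext3 (b := fun a : ι => (Pi.single a 1 : ι → AlgebraicClosure F))
      · have h6 := (Pi.basisFun (AlgebraicClosure F) ι).span_eq
        have h8 : (⇑(Pi.basisFun (AlgebraicClosure F) ι)) = fun a : ι => (Pi.single a 1 : ι → AlgebraicClosure F) := by
          funext a
          rw [Pi.basisFun_apply]
        rw [h8] at h6
        exact h6
      · intro a b c
        rw [hcon]
        rfl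
    rw [h5]
    rfl
  -- a functional
  obtain ⟨lam, hlam⟩ : ∃ lam : Module.Dual F (AlgebraicClosure F),
      lam (T (Pi.single a 1) (Pi.single b 1) (Pi.single c 1)) ≠ 0 := by
    by_contra hcon
    push Not at hcon
    exact habc ((Module.forall_dual_apply_eq_zero_iff F _).1 hcon)
  let i : (ι → F) → (ι → AlgebraicClosure F) := fun x k => algebraMap F (AlgebraicClosure F) (x k)
  have hia : ∀ x y, i (x + y) = i x + i y := fun x y => by
    funext k
    exact map_add _ _ _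
  have his : ∀ (c : F) x, i (c • x) = algebraMap F (AlgebraicClosure F) c • i x := fun c x => by
    funext k
    exact map_mul _ _ _
  have hlamsm : ∀ (c : F) (z : AlgebraicClosure F), lam (algebraMap F (AlgebraicClosure F) c • z) = c • lam z := by
    intro c z
    rw [smul_eq_mul, ← Algebra.smul_def, map_smul]
  refine ⟨mk3 (fun x y z => lam (T (i x) (i y) (i z)))
    (fun x x' y z => by rw [hia, map_add, LinearMap.add_apply, LinearMap.add_apply, map_add])
    (fun c x y z => by rw [his, map_smul, LinearMap.smul_apply, LinearMap.smul_apply, hlamsm])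
    (fun x y y' z => by rw [hia, map_add, LinearMap.add_apply, map_add])
    (fun c x y z => by rw [his, map_smul, LinearMap.smul_apply, hlamsm])
    (fun x y z z' => by rw [hia, map_add, map_add]) (fun c x y z => by rw [his, map_smul, hlamsm]), ?_, ?_, ?_, ?_⟩
  · intro x y
    rw [mk3_apply, hT, tri_self, map_zero]
  · intro x y
    rw [mk3_apply, hT, tri_z23, map_zero]
  · refine ⟨Pi.single a 1, Pi.single b 1, Pi.single c 1, ?_⟩
    have hi : ∀ k : ι, i (Pi.single k 1) = Pi.single k 1 := by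
      intro k
      funext l
      rcases eq_or_ne l k with rfl | h
      · simp only [i, Pi.single_eq_same, map_one]
      · simp only [i, Pi.single_eq_of_ne h, map_zero]
    rw [mk3_apply, hi, hi, hi]
    exact hlam
  · intro g hg x y z
    obtain ⟨h, rfl⟩ : g ∈ D.rep.range := D.range_rep.ge hg
    have hm : ∀ x : ι → F, i ((D.rep h : Matrix ι ι F) *ᵥ x) = acRep D.rep h *ᵥ i x := by
      intro x
      funext k
      simp only [i, Matrix.mulVec, dotProduct, map_sum, map_mul, acRep_apply, Matrix.map_apply]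
    change lam (T (i ((D.rep h : Matrix ι ι F) *ᵥ x)) (i ((D.rep h : Matrix ι ι F) *ᵥ y))
      (i ((D.rep h : Matrix ι ι F) *ᵥ z))) = lam (T (i x) (i y) (i z))
    rw [hm x, hm y, hm z]
    exact congrArg lam (hinv h (i x) (i y) (i z))

end Main

end Cfsg.Agent.H929.U3
end

-- part: H856/Tz4
section
/-!
# `Ω₇(q)`: own characteristic and the assembly (helper856)
-/

set_option autoImplicit false
set_option linter.unusedSectionVars false

namespace Cfsg.Agent.H856.Tz

open QuadraticMap Matrix Cfsg Cfsg.Geo Cfsg.Agent.H915.LD Cfsg.Agent.H936.List12 Cfsg.Agent.H912.Bd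
  Cfsg.Agent.H912.Five
open Cfsg.Agent.LieClassical.OrthCore

universe u v

/-- the octonion group over isomorphic finite fields -/
theorem g2_congr {K : Type v} {F : Type u} [Field K] [Field F] [Finite K] [Finite F] (σ : K ≃+* F) :
    Nonempty (Cfsg.Lie.G2 K ≃* Cfsg.Lie.G2 F) := by
  let f : Cfsg.Lie.G2 K →* Cfsg.Lie.G2 F :=
    ((Matrix.GeneralLinearGroup.map (n := Fin 8) (σ : K →+* F)).comp (Cfsg.Lie.G2 K).subtype).codRestrict _
      (fun g => Cfsg.Agent.H161.Oct.map_mem_G2 (σ : K →+* F) g.2)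
  have hinj : Function.Injective f := by
    intro g h hgh
    apply Subtype.ext
    apply Cfsg.Agent.H161.Oct.emb_inj (σ : K →+* F)
    have h1 := congrArg Subtype.val hgh
    exact congrArg (Cfsg.Agent.H161.Oct.toE F) h1
  have hcard : Nat.card (Cfsg.Lie.G2 K) = Nat.card (Cfsg.Lie.G2 F) := by
    rw [Cfsg.Agent.H638.G2Iso.card_G2, Cfsg.Agent.H638.G2Iso.card_G2, Nat.card_congr σ.toEquiv]
  exact ⟨MulEquiv.ofBijective f ((Nat.bijective_iff_injective_and_card f).2 ⟨hinj, hcard⟩)⟩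

/-- `PSL_m(K)`, `m ≥ 4`, own characteristic -/
theorem own_psl {F : Type u} [Field F] [Finite F] {p : ℕ} [Fact p.Prime] [CharP F p] {P : Subgroup (GL (Fin 7) F)}
    (hC : Core P) (hQ : FixQ P) {K : Type v} [Field K] [Finite K] [CharP K p] {m : ℕ} (hm : 4 ≤ m)
    (e : Soc P ≃* ProjectiveSpecialLinearGroup (Fin m) K) : False := by
  have hc7 : Fintype.card (Fin 7) = 7 := Fintype.card_fin 7
  rcases (show m < 7 ∨ m = 7 ∨ 8 ≤ m by omega) with h | h | h
  · have h1 := H887.DS.dim_cases p hC (by omega) (by rw [hc7]; exact h) (by rw [hc7]; norm_num) e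
    rw [hc7] at h1
    rcases h1 with ⟨h1, -⟩ | ⟨-, h1 | ⟨-, h1⟩⟩ | ⟨-, h1⟩ <;> omega
  · subst h
    have h1 := H905.Md.psl_eq (l := 6) p hC.absIrred hC.perfect (by norm_num) (by norm_num only [_root_.IsEmpty.forall_iff]) e hC.no_subfield rfl
    rw [h1.2] at hQ
    exact H879.Nine.not_fixQ_sl (by norm_num) hQ
  · obtain ⟨l, rfl⟩ : ∃ l, m = l + 1 := ⟨m - 1, by omega⟩
    have h2 : (8).choose 2 ≤ (l + 1).choose 2 := Nat.choose_le_choose 2 h
    have h3 : (8).choose 2 = 28 := by decide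
    have h1 := H905.Md.psl_dim p hC.absIrred hC.perfect (by omega) (by omega) e (by omega)
      (Or.inl (by rw [hc7]; omega))
    rw [hc7] at h1
    omega

namespace C7

variable {ι : Type} [Fintype ι] [DecidableEq ι] {F : Type u} [Field F] [Fintype F] {p : ℕ}
  {Q : QuadraticForm F (ι → F)} {H P : Subgroup (GL ι F)} (c : C7 p Q H P)
include c

/-- `A₅` -/
theorem not_a5 (hp5 : p ≠ 5) (e : Soc P ≃* alternatingGroup (Fin 5)) : False := by
  have := Fact.mk c.prime
  have := c.charP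
  have h := H937.T2.a5_dims p c.core e hp5
  rw [c.seven] at h
  exact absurd h (by decide)

/-- `A₆` -/
theorem not_a6 (hp3 : p ≠ 3) (e : Soc P ≃* alternatingGroup (Fin 6)) : False := by
  have := Fact.mk c.prime
  have := c.charP
  have h := H937.T2.a6_dims p c.core e
    (H937.T2.not_dvd_scalars c.core Nat.prime_three (by rw [c.seven]; norm_num)) hp3
  rw [c.seven] at h
  exact absurd h (by decide)

/-- `L₂(q)`, own characteristic -/
theorem own_l2 (E : Type v) [Field E] [Fintype E] [CharP E p] (e : Soc P ≃* ProjectiveSpecialLinearGroup (Fin 2) E) :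
    Concl P := by
  have := Fact.mk c.prime
  have := c.charP
  obtain ⟨f, h0, h1, h2, hinv⟩ := H875.TriSeven.tri_seven p c.two c.ndf c.seven c.max c.res e
  exact c.g2_of_form f h1 h2 h0 hinv

/-- `L₃(q)`, own characteristic -/
theorem own_l3 (E : Type) [Field E] [Fintype E] [CharP E p] (e : Soc P ≃* ProjectiveSpecialLinearGroup (Fin 3) E) :
    Concl P := by
  have := Fact.mk c.prime
  have := c.charP
  obtain ⟨f, h0, h1, h2, hinv⟩ := H911.Ad.psl3_tri p c.core c.sd e (by rw [c.seven]; norm_num)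
  exact c.g2_of_form f h1 h2 h0 hinv

/-- `U₃(q)`, own characteristic -/
theorem own_u3 (E : Type) [Field E] [Fintype E] [CharP E p] {q : ℕ} (hE : Fintype.card E = q ^ 2) (hq : 3 ≤ q)
    (e : Soc P ≃* PSU 3 E q) : Concl P := by
  have := Fact.mk c.prime
  have := c.charP
  obtain ⟨f, h1, h2, ⟨x, y, z, h0⟩, hinv⟩ := H929.U3.exists_alt_psu3 p c.core c.sd hq hE e c.seven
  exact c.g2_of_form f h1 h2 (by rintro rfl; exact h0 rfl) hinv

/-- Ree groups -/
theorem own_ree (hp3 : p = 3) (h : Lie.IsoRee (Soc P)) : Concl P := by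
  have := c.charP
  subst hp3
  obtain ⟨K, _, _, m, hm, hK, ⟨e⟩⟩ := h
  obtain ⟨-, -, f, h1, h2, h0, hinv⟩ := H141.ReeK.ree_tri c.core hm hK e (by rw [c.seven]; norm_num)
  exact c.g2_of_form f h1 h2 h0 hinv

/-- `G₂(q)` -/
theorem own_g2 (K : Type) [Field K] [Fintype K] [CharP K p] (h3 : 3 ≤ Fintype.card K)
    (e : Soc P ≃* Lie.chevG2.group K) : Concl P := by
  have := Fact.mk c.prime
  have := c.charP
  obtain ⟨-, -, ⟨σ⟩, -, -⟩ := H927.G2.core_g2 p c.core (by rwa [Nat.card_eq_fintype_card]) e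
    (by rw [c.seven]; norm_num)
  obtain ⟨e1⟩ := H638.G2Iso.equiv (F := K)
  obtain ⟨e2⟩ := g2_congr σ
  exact Or.inr (Or.inr ⟨(e.trans e1.symm).trans e2⟩)

end C7

end Cfsg.Agent.H856.Tz
end

-- part: H856/Tz5
section
/-!
# `Ω₇(q)`: the assembly (helper856)
-/

set_option autoImplicit false
set_option linter.unusedSectionVars false

namespace Cfsg.Agent.H856.Tz

open QuadraticMap Matrix Cfsg Cfsg.Geo Cfsg.Agent.H915.LD Cfsg.Agent.H936.List12 Cfsg.Agent.H912.Bd
  Cfsg.Agent.H912.Five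
open Cfsg.Agent.LieClassical.OrthCore

universe u v

namespace C7

variable {ι : Type} [Fintype ι] [DecidableEq ι] {F : Type u} [Field F] [Fintype F] {p : ℕ}
  {Q : QuadraticForm F (ι → F)} {H P : Subgroup (GL ι F)} (c : C7 p Q H P) {P' : Subgroup (GL (Fin 7) F)}
include c

/-- cross characteristic -/
theorem cross (h' : Cop P P') (h : CandD p 7 (Soc P')) : Concl P := by
  have := Fact.mk c.prime
  have := c.charP
  obtain ⟨s⟩ := h'.iso
  have hseven := c.seven
  have h2 := c.ne_two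
  rcases h with h | h | h | ⟨-, -, h⟩ | h
  · -- alternating groups
    obtain ⟨m, h5, h14, -, -, -, ⟨e0⟩⟩ := h
    have e := s.trans e0
    rcases (show m = 5 ∨ m = 6 ∨ m = 7 ∨ 8 ≤ m by omega) with rfl | rfl | rfl | hm8
    · by_cases hp5 : p = 5
      · subst hp5
        obtain ⟨f⟩ := Cfsg.Agent.S0253.result (F := ZMod 5) (ZMod.card 5)
        exact c.own_l2 (ZMod 5) (e.trans f.symm)
      · exact (c.not_a5 hp5 e).elim
    · by_cases hp3 : p = 3
      · subst hp3
        obtain ⟨K, _, _, -, _, ⟨f⟩⟩ := H937.T2.exists_nine e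
        exact c.own_l2 K f
      · exact (c.not_a6 hp3 e).elim
    · exact (c.not_a7 e).elim
    · exact c.alt hm8 e
  · -- classical groups
    rcases h with ⟨q, hq, hpq, -, h⟩ | ⟨-, h8, -⟩ | ⟨h3, -, h⟩ | ⟨-, h1, -⟩ | ⟨-, h3, -, h⟩ | ⟨-, h8, -⟩ |
      ⟨-, h1, -⟩ | ⟨-, -, h⟩ | ⟨-, -, h⟩
    · obtain ⟨K, iK, iKf, hK, ⟨e0⟩⟩ := h
      have e := s.trans e0
      have h5 : 5 ≤ Fintype.card K := by
        rw [hK]
        revert hq
        simp only [Finset.mem_insert, Finset.mem_singleton]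
        omega
      have h9 : Fintype.card K ≠ 9 := by
        rw [hK]
        revert hq
        simp only [Finset.mem_insert, Finset.mem_singleton]
        omega
      have h1 := H464.Sl2.l2_degrees p c.core h5 h9 (by rw [hK]; exact hpq) e (by rw [hseven]; norm_num)
      rw [hseven] at h1
      rcases h1 with ⟨h1, h2⟩ | ⟨h1, h2⟩ | ⟨h1, h2⟩ | ⟨h1, h2⟩ | ⟨h1, h2⟩ | ⟨h1, h2⟩ | ⟨h1, h2⟩ | ⟨h1, h2⟩ | ⟨h1, h2⟩
      · exact absurd h2 (by decide)
      · refine (c.not_l27 h1 ?_ e).elim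
        rintro rfl
        exact hpq (by rw [← hK, h1])
      · exact c.l28 h1 e
      · exact absurd h2 (by decide)
      · refine c.l213 h1 ?_ e
        rintro rfl
        exact hpq (by rw [← hK, h1])
      · exact absurd h2 (by decide)
      · exact absurd h2 (by decide)
      · exact absurd h2 (by decide)
      · omega
    · omega
    · obtain ⟨K, iK, iKf, hK, ⟨e⟩⟩ := h
      exact c.u33 (by rw [hK]; norm_num) h3 (s.trans e)
    · omega
    · obtain ⟨K, iK, iKf, hK, ⟨e⟩⟩ := h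
      have h1 := H659.Sp4.u42_stage' c.core p h2 h3 (by rw [hseven]; norm_num) (k := K) (by rw [hK]; norm_num)
        (s.trans e)
      rw [hseven] at h1
      omega
    · omega
    · omega
    · obtain ⟨K, iK, iKf, hK, ⟨e⟩⟩ := h
      exact c.sp62 ⟨K, iK, iKf, hK, ⟨s.trans e⟩⟩
    · obtain ⟨K, iK, iKf, hK, ⟨e⟩⟩ := h
      have h1 := H916.T8.om hK c.core p (s.trans e) c.two (by rw [hseven]; norm_num)
      rw [hseven] at h1
      omega
  · -- multipliers
    rcases h with ⟨-, h1, -⟩ | ⟨-, h1, -⟩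
    · omega
    · omega
  · have h1 := H814.Sz8.core_sz8 h'.core c.two (by rw [Fintype.card_fin]; norm_num) h
    rw [Fintype.card_fin] at h1
    omega
  · -- sporadic groups
    rcases spor_cases h'.core h'.sd h with ⟨h11, ⟨e⟩⟩ | ⟨⟨e⟩⟩
    · exact c.j1 h11 (s.trans e)
    · exact (H48.Seven.no_orb p h'.core e H921.Spor.J2.J2_two Nat.prime_two (Ne.symm h2) (by norm_num)
        (by norm_num)).elim

/-- own characteristic -/
theorem own (h' : Cop P P') (h : H905.Md.SmallDC p 7 (Soc P'))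
    (hOm : ¬ (IsPOmegaOdd (Soc P) ∨
      (∃ (K : Type) (_ : Field K) (_ : Fintype K) (k : ℕ), 4 ≤ k ∧ Odd (Fintype.card K) ∧
        Nonempty (Soc P ≃* Cfsg.POmega K (quadFormPlus k K))) ∨
      ∃ (K : Type) (_ : Field K) (_ : Fintype K) (k : ℕ) (a b : K), 4 ≤ k ∧ Odd (Fintype.card K) ∧
        (∀ z₁ z₂ : K, z₁ ^ 2 + a * z₁ * z₂ + b * z₂ ^ 2 = 0 → z₁ = 0 ∧ z₂ = 0) ∧
        Nonempty (Soc P ≃* Cfsg.POmega K (quadFormMinus (k - 1) K a b)))) : Concl P := by
  have hp := Fact.mk c.prime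
  have := c.charP
  obtain ⟨s⟩ := h'.iso
  have hseven := c.seven
  have h2 := c.ne_two
  have two_odd : ∀ (K : Type) [Field K] [Fintype K] [CharP K p], Odd (Fintype.card K) := by
    intro K _ _ _
    obtain ⟨k, -, hk⟩ := FiniteField.card K p
    rw [hk]
    exact (hp.out.odd_of_ne_two c.ne_two).pow
  rcases h with h | h | h | ⟨h2', -⟩ | ⟨h3, h⟩ | h | h | h | h | h | ⟨-, h2', -⟩
  · obtain ⟨K, iK, iKf, iKp, l, hl, hl4, ⟨e⟩⟩ := h
    rcases (show l = 1 ∨ l = 2 ∨ 3 ≤ l by omega) with rfl | rfl | hl3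
    · exact c.own_l2 K (s.trans e)
    · exact c.own_l3 K (s.trans e)
    · exact (own_psl (p := p) h'.core h'.fixQ (by omega) e).elim
  · obtain ⟨K, iK, iKf, iKp, m, hm, hm2, hm3, ⟨e⟩⟩ := h
    by_cases h3 : m = 2
    · subst h3
      have h1 := (H905.Sp4.core_psp4 p c.core (K := K) (by rw [Nat.card_eq_fintype_card]; exact hm3 rfl) (s.trans e)
        (by rw [hseven]; norm_num)).2.2
      rw [hseven] at h1
      omega
    · have h1 := H879.TL.kill_psp c.core c.two c.bot (by omega) (two_odd K) (s.trans e)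
      rw [hseven] at h1
      omega
  · obtain ⟨K, iK, iKf, iKp, N, q, hK, hN, hN2, hN3, ⟨e⟩⟩ := h
    rcases (show N = 3 ∨ N = 4 ∨ 5 ≤ N by omega) with rfl | rfl | hN5
    · refine c.own_u3 K hK ?_ (s.trans e)
      have h4 := Fintype.one_lt_card (α := K)
      rw [hK] at h4
      by_contra hq
      have h5 : q = 0 ∨ q = 1 ∨ q = 2 := by omega
      rcases h5 with rfl | rfl | rfl
      · norm_num at h4
      · norm_num at h4
      · exact hN3 ⟨rfl, rfl⟩
    · exact (H876.D3.not_four_seven p K c.seven hK c.core (s.trans e)).elim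
    · exact (H879.Nine.own_psu (p := p) (by norm_num) h'.core h'.sd hN5 hK e).elim
  · exact absurd h2' h2
  · obtain ⟨K, iK, iKf, m, hm, hK, ⟨e⟩⟩ := h
    exact c.own_ree h3 ⟨K, iK, iKf, m, hm, hK, ⟨s.trans e⟩⟩
  · obtain ⟨K, iK, iKf, iKp, m, hm, hm2, ho, ⟨e⟩⟩ := h
    exact (hOm (Or.inl ⟨K, iK, iKf, m, hm, ho, ⟨s.trans e⟩⟩)).elim
  · obtain ⟨K, iK, iKf, iKp, m, hm, hm2, ⟨e⟩⟩ := h
    omega
  · obtain ⟨K, iK, iKf, iKp, m, a, b, hm, hm2, hab, ⟨e⟩⟩ := h
    exact (hOm (Or.inr (Or.inr ⟨K, iK, iKf, m, a, b, hm, two_odd K, hab, ⟨s.trans e⟩⟩))).elim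
  · obtain ⟨-, K, iK, iKf, iKp, h3, ⟨e⟩⟩ := h
    exact c.own_g2 K h3 (s.trans e)
  · obtain ⟨-, K, iK, iKf, iKp, q, hq, hK, ⟨e⟩⟩ := h
    have h1 := (H392.TD.d4_small p c.core hq hK (s.trans e) (by rw [hseven]; norm_num)).1
    omega
  · exact absurd h2' h2

/-- **the conclusion** -/
theorem main (hk : H879.Nine.Known.{u})
    (hOm : ¬ (IsPOmegaOdd (Soc P) ∨
      (∃ (K : Type) (_ : Field K) (_ : Fintype K) (k : ℕ), 4 ≤ k ∧ Odd (Fintype.card K) ∧
        Nonempty (Soc P ≃* Cfsg.POmega K (quadFormPlus k K))) ∨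
      ∃ (K : Type) (_ : Field K) (_ : Fintype K) (k : ℕ) (a b : K), 4 ≤ k ∧ Odd (Fintype.card K) ∧
        (∀ z₁ z₂ : K, z₁ ^ 2 + a * z₁ * z₂ + b * z₂ ^ 2 = 0 → z₁ = 0 ∧ z₂ = 0) ∧
        Nonempty (Soc P ≃* Cfsg.POmega K (quadFormMinus (k - 1) K a b)))) : Concl P := by
  have hp := Fact.mk c.prime
  have := c.charP
  obtain ⟨P', h'⟩ := c.cop
  have hs : IsSimpleGroup (Soc P') := h'.core.simple
  by_cases hL : IsLieTypeChar p (Soc P')
  · have h1 := H905.Md.small_dc (p := p) h'.core.absIrred.1 h'.core.perfect hL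
      (by rw [Fintype.card_fin]; norm_num)
    rw [Fintype.card_fin] at h1
    exact c.own h' h1 hOm
  · rcases list₁ (by norm_num) h'.core (hk _ hs) hL with h1 | h1
    · exact c.cross h' h1
    · exact absurd h1.1 c.ne_two

end C7

end Cfsg.Agent.H856.Tz
end

private theorem dce_445be37d0952 : _root_.True := by
  try have : _root_.True := by simp only [_root_.Cfsg.Agent.H856.Sx.Aw.eq_1]
  try have : _root_.True := by simp only [_root_.Cfsg.Agent.H929.U3.actIso.eq_1]
  try have : _root_.True := by simp only [_root_.Cfsg.Agent.H875.TriSeven.lam.congr_simp]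
  try have : _root_.True := by simp only [_root_.Cfsg.Agent.H929.U3.tri.eq_1]
  exact _root_.True.intro
end

-- part: H856/Tz6
section
set_option linter.all false
open scoped Cfsg.Agent.FastGrp

/-!
# `Ω₇(q)`: the statement (helper856)
-/

set_option autoImplicit false
set_option linter.unusedSectionVars false

namespace Cfsg.Agent.H856.Tz

open QuadraticMap Matrix Cfsg Cfsg.Geo Cfsg.Agent.H915.LD
open Cfsg.Agent.LieClassical.OrthCore

universe u v

theorem final (hk : H879.Nine.Known.{u}) {F : Type u} [Field F] [Fintype F] (hodd : Odd (Fintype.card F))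
    (H : Subgroup (GL (Unit ⊕ (Fin 3 ⊕ Fin 3)) F))
    (hH : IsMaximalIn (omegaGL (quadFormOdd 3 F)) H) (hS : InOrthogonalResidualClass H) :
    ∃ P : Subgroup (GL (Unit ⊕ (Fin 3 ⊕ Fin 3)) F), IsResidualCore H P ∧ Concl P := by
  obtain ⟨P, hP, -⟩ := hS
  obtain ⟨p, hch⟩ := CharP.exists F
  have hp : p.Prime := CharP.char_is_prime F p
  have h2 : (2 : F) ≠ 0 := by
    intro h0
    have h1 : ((2 : ℕ) : F) = 0 := by exact_mod_cast h0
    rw [CharP.cast_eq_zero_iff F p] at h1
    obtain rfl : p = 2 := (Nat.prime_dvd_prime_iff_eq hp Nat.prime_two).1 h1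
    have := Fact.mk hp
    obtain ⟨k, -, hk⟩ := FiniteField.card F 2
    rw [hk, Nat.odd_iff] at hodd
    have : 2 ∣ 2 ^ (k : ℕ) := dvd_pow_self 2 k.ne_zero
    omega
  have hlt := hH.1
  obtain ⟨Q, hQ, hQn⟩ := H883.Bridge.exists_quadraticForm (H883.Bridge.isNondegenerateQuadraticForm_odd hodd 3)
  rw [← hQ] at hH
  have c : C7 p Q H P := ⟨hp, hch, h2, by simp, hQn, hH, hP⟩
  exact ⟨P, hP, c.main hk
    (fun hT => H922.OmGL.not_pomega hodd (by norm_num) hlt hP.le (core_of_residual hP) hT)⟩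

end Cfsg.Agent.H856.Tz
end
end
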