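import Cfsg.Agent.H856.Tri
import Cfsg.Agent.H179.G2Std_m3
import Cfsg.Agent.LieClassical.OrthFinite
import Cfsg.Agent.H161.G2Emb
import Cfsg.Agent.H638.G2Iso
import Cfsg.Agent.S1052
import Cfsg.Agent.S1055
import Cfsg.Agent.H464.Sl2Basic
import Cfsg.Agent.Lib.Refl
import Cfsg.Agent.Lib.FinFast
import Cfsg.Agent.FastGrp
import Cfsg.Agent.Prune
set_option linter.all false

section
prune_inst 0x7fffadfbbbffe9dedfff7e7fa6dacffdffbb1fffe6fffdcbffe061ff0b9f17920fc5fb8f89e030fc1ff6e21410b87853f9ffefffe06bd87ffffd1ff41ffbee4fe5f7350851dc98b40fbc0fff03f0778e7f3fffffffffffffffffffffffffffbeffbfffffffff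

-- part: H179/G2Main
section
prune_inst 0x4204000002000000000001000000000000000000000000000a000040000000280000000000020001080000000000000000000200000000000000000000001000800000020400000000000000000000000000000000000000000000000000000000000000
set_option linter.all false
open scoped Cfsg.Agent.FastGrp

-- part: H179/G2Null
section
/-!
# Null vectors of the quadratic form of an alternating 3-form in dimension 7
-/

namespace Cfsg.Agent.H179.G2

open QuadraticMap Module

variable {F V : Type*} [Field F] [AddCommGroup V] [Module F V]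

section pol

variable (e : Basis (Fin 7) F V) {f : V →ₗ[F] V →ₗ[F] V →ₗ[F] F}

/-- polarised form of the fundamental identity -/
theorem pf21_eq (h : IsAltForm f) (h2 : (2 : F) ≠ 0) (x z : V) (c : Fin 6 → V) :
    pf21 (fun u v => f x u v) (fun u v => f z u v) (c 0) (c 1) (c 2) (c 3) (c 4) (c 5) =
      polar (Qf e f) x z * e.det (Matrix.vecCons x c) + Qf e f x * e.det (Matrix.vecCons z c) := by
  have h1 := pf6_eq e h (x + z) c
  have h3 := pf6_eq e h (x + -z) c
  have h4 := pf6_eq e h x c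
  have h5 := pf6_eq e h z c
  rw [AlternatingMap.map_vecCons_add, QuadraticMap.map_add (Qf e f)] at h1
  rw [AlternatingMap.map_vecCons_add, QuadraticMap.map_add (Qf e f), QuadraticMap.map_neg,
    QuadraticMap.polar_neg_right, ← neg_one_smul F z, AlternatingMap.map_vecCons_smul] at h3
  simp only [map_add, LinearMap.add_apply, smul_eq_mul, pf6, pf4, neg_mul, one_mul, map_neg, LinearMap.neg_apply, neg_smul, one_smul]
    at h1 h3 h4 h5
  simp only [pf21, pf4]
  have key : (2 : F) * (pf21 (fun u v => f x u v) (fun u v => f z u v) (c 0) (c 1) (c 2) (c 3) (c 4)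
      (c 5)) = 2 * (polar (Qf e f) x z * e.det (Matrix.vecCons x c) +
        Qf e f x * e.det (Matrix.vecCons z c)) := by
    simp only [pf21, pf4]
    (clear * - h5 h1 h3; grobner)
  have := mul_left_cancel₀ h2 key
  simpa only [pf21, pf4] using this

/-- a linearly independent family extends to seven vectors with nonzero determinant -/
theorem exists_ext (m : ℕ) : ∀ (k : ℕ) (_ : k + m = 7) (v : Fin k → V), LinearIndependent F v →
    ∃ w : Fin 7 → V, e.det w ≠ 0 ∧ ∀ (i : ℕ) (hi : i < k) (hi7 : i < 7), w ⟨i, hi7⟩ = v ⟨i, hi⟩ := by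
  have hfr : finrank F V = 7 := by rw [finrank_eq_card_basis e, Fintype.card_fin]
  induction m with
  | zero =>
    intro k hk v hv
    obtain rfl : k = 7 := hk
    refine ⟨v, ?_, fun i hi _ => rfl⟩
    have hs := hv.span_eq_top_of_card_eq_finrank (by rw [hfr, Fintype.card_fin])
    exact ((Module.Basis.is_basis_iff_det e).1 ⟨hv, hs⟩).ne_zero
  | succ m ih =>
    intro k hk v hv
    obtain ⟨x, hx⟩ := exists_linearIndependent_snoc_of_lt_finrank hv (by omega)
    obtain ⟨w, hw, hwi⟩ := ih (k + 1) (by omega) _ hx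
    refine ⟨w, hw, fun i hi hi7 => ?_⟩
    rw [hwi i (by omega) hi7]
    exact Fin.snoc_castSucc (α := fun _ => V) x v ⟨i, hi⟩

theorem exists_in {K : Submodule F V} [FiniteDimensional F K] {x : V} (hx : x ∈ K) (hx0 : x ≠ 0)
    (m : ℕ) (hm : m + 1 ≤ finrank F K) :
    ∃ v : Fin (m + 1) → V, LinearIndependent F v ∧ v 0 = x ∧ ∀ i, v i ∈ K := by
  have key : ∃ v : Fin (m + 1) → K, LinearIndependent F v ∧ v 0 = ⟨x, hx⟩ := by
    induction m with
    | zero =>
      refine ⟨fun _ => ⟨x, hx⟩, ?_, rfl⟩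
      change LinearIndependent F (fun _ : Fin 1 => (⟨x, hx⟩ : K))
      rw [linearIndependent_unique_iff]
      intro h; exact hx0 (congrArg Subtype.val h)
    | succ m ih =>
      obtain ⟨v, hv, hv0⟩ := ih (by omega)
      obtain ⟨y, hy⟩ := exists_linearIndependent_snoc_of_lt_finrank hv (by omega)
      refine ⟨_, hy, ?_⟩
      rw [← hv0]
      exact Fin.snoc_castSucc (α := fun _ => K) y v 0
  obtain ⟨v, hv, hv0⟩ := key
  exact ⟨fun i => v i, hv.map' K.subtype K.ker_subtype, by simp [hv0], fun i => (v i).2⟩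

end pol

section ker

/-- an alternating form on a 7-space all of whose Pfaffians of size six vanish has a radical of
dimension at least three -/
theorem ker_ge (hfr : finrank F V = 7) (w : V →ₗ[F] V →ₗ[F] F) (h : ∀ u, w u u = 0)
    (hp : ∀ c : Fin 6 → V, pf6 (fun u v => w u v) (c 0) (c 1) (c 2) (c 3) (c 4) (c 5) = 0) :
    3 ≤ finrank F (LinearMap.ker w) := by
  have : FiniteDimensional F V := Module.finite_of_finrank_pos (by omega)
  have hs : ∀ u v, w u v = - w v u := by
    intro u v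
    have := h (u + v)
    simp only [map_add, LinearMap.add_apply, h, zero_add, add_zero] at this
    exact eq_neg_of_add_eq_zero_right this
  -- reduction to the orthogonal complement of a hyperbolic pair
  have hred : ∀ a b : V, w a b ≠ 0 → ∀ v : V, ∃ v' : V, w a v' = 0 ∧ w b v' = 0 ∧
      (∀ u, w u a = 0 → w u b = 0 → w u v' = w u v) := by
    intro a b hab v
    refine ⟨v - (w a v / w a b) • b + (w b v / w a b) • a, ?_, ?_, ?_⟩
    · simp only [map_add, map_sub, map_smul, smul_eq_mul, h]; field_simp; ring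
    · simp only [map_add, map_sub, map_smul, smul_eq_mul, h, hs b a]; field_simp; ring
    · intro u h1 h2
      simp only [map_add, map_sub, map_smul, smul_eq_mul, h1, h2]; ring
  by_cases h0 : ∃ a b, w a b ≠ 0
  swap
  · have : w = 0 := by
      push Not at h0
      ext a b; exact h0 a b
    rw [this, LinearMap.ker_zero, finrank_top, hfr]; norm_num
  obtain ⟨a, b, hab⟩ := h0
  by_cases h1 : ∃ c d, w a c = 0 ∧ w b c = 0 ∧ w a d = 0 ∧ w b d = 0 ∧ w c d ≠ 0
  · obtain ⟨c, d, hac, hbc, had, hbd, hcd⟩ := h1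
    let l : V →ₗ[F] (Fin 4 → F) := LinearMap.pi ![w a, w b, w c, w d]
    have hl := LinearMap.finrank_range_add_finrank_ker l
    have hr : finrank F (LinearMap.range l) ≤ 4 := by
      have := Submodule.finrank_le (LinearMap.range l)
      simpa using this
    have hle : LinearMap.ker l ≤ LinearMap.ker w := by
      intro u hu
      have hu' : ∀ i, (![w a, w b, w c, w d] i) u = 0 := fun i => congrFun hu i
      have ua : w a u = 0 := hu' 0
      have ub : w b u = 0 := hu' 1
      have uc : w c u = 0 := hu' 2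
      have ud : w d u = 0 := hu' 3
      rw [LinearMap.mem_ker]
      ext v
      obtain ⟨v', va, vb, hv⟩ := hred a b hab v
      obtain ⟨v'', vc, vd, hv'⟩ := hred c d hcd v'
      have e1 : w u v'' = w u v := by
        rw [hv' u (by rw [hs, uc, neg_zero]) (by rw [hs, ud, neg_zero]),
          hv u (by rw [hs, ua, neg_zero]) (by rw [hs, ub, neg_zero])]
      have e2 : w a v'' = 0 := by rw [hv' a hac had, va]
      have e3 : w b v'' = 0 := by rw [hv' b hbc hbd, vb]
      have := hp ![a, b, c, d, u, v'']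
      simp only [Matrix.cons_val, pf6, pf4, hac, had, ua, e2, uc, vc, zero_mul,
        mul_zero, sub_zero, add_zero] at this
      rw [LinearMap.zero_apply, ← e1]
      rcases mul_eq_zero.1 this with h | h
      · exact absurd h hab
      · have h' : w c d = 0 ∨ w u v'' = 0 := by simpa only [ud, vd, _root_.mul_eq_zero] using h
        exact h'.resolve_left hcd
    have := Submodule.finrank_mono hle
    omega
  · push Not at h1
    let l : V →ₗ[F] (Fin 2 → F) := LinearMap.pi ![w a, w b]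
    have hl := LinearMap.finrank_range_add_finrank_ker l
    have hr : finrank F (LinearMap.range l) ≤ 2 := by
      have := Submodule.finrank_le (LinearMap.range l)
      simpa using this
    have hle : LinearMap.ker l ≤ LinearMap.ker w := by
      intro u hu
      have hu' : ∀ i, (![w a, w b] i) u = 0 := fun i => congrFun hu i
      have ua : w a u = 0 := hu' 0
      have ub : w b u = 0 := hu' 1
      rw [LinearMap.mem_ker]
      ext v
      obtain ⟨v', va, vb, hv⟩ := hred a b hab v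
      rw [← hv u (by rw [hs, ua, neg_zero]) (by rw [hs, ub, neg_zero])]
      exact h1 u v' ua ub va vb
    have := Submodule.finrank_mono hle
    omega

end ker

variable {e : Basis (Fin 7) F V} {f : V →ₗ[F] V →ₗ[F] V →ₗ[F] F}

/-- `f` is an alternating 3-form whose quadratic form is non-degenerate -/
structure Nice (e : Basis (Fin 7) F V) (f : V →ₗ[F] V →ₗ[F] V →ₗ[F] F) : Prop where
  alt : IsAltForm f
  two : (2 : F) ≠ 0
  nd : ∀ x, (∀ y, polar (Qf e f) x y = 0) → x = 0

namespace Nice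

theorem finrank_eq (e : Basis (Fin 7) F V) : finrank F V = 7 := by
  rw [finrank_eq_card_basis e, Fintype.card_fin]

omit [AddCommGroup V] in
theorem vecCons_eq (w : Fin 7 → V) : Matrix.vecCons (w 0) (fun i => w i.succ) = w := by
  funext i
  refine Fin.cases rfl (fun j => rfl) i

/-- the radical of `f x` for a nonsingular vector `x` -/
theorem rad_nonsing (N : Nice e f) {x y : V} (hx : Qf e f x ≠ 0) (hy : f x y = 0) :
    ∃ c : F, c • x = y := by
  by_contra hc
  push Not at hc
  have hx0 : x ≠ 0 := fun h => hx (by rw [h, QuadraticMap.map_zero])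
  have hli : LinearIndependent F ![x, y] := (LinearIndependent.pair_iff' hx0).2 hc
  obtain ⟨w, hw, hwi⟩ := exists_ext e 5 2 rfl _ hli
  have w0 : w 0 = x := by have := hwi 0 (by norm_num) (by norm_num); exact this
  have w1 : w 1 = y := by have := hwi 1 (by norm_num) (by norm_num); exact this
  have := pf6_eq e N.alt x (fun i => w i.succ)
  rw [← w0, vecCons_eq, w0] at this
  have e1 : pf6 (fun u v => f x u v) (w (Fin.succ 0)) (w (Fin.succ 1)) (w (Fin.succ 2))
      (w (Fin.succ 3)) (w (Fin.succ 4)) (w (Fin.succ 5)) = 0 := by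
    change pf6 (fun u v => f x u v) (w 1) (w 2) (w 3) (w 4) (w 5) (w 6) = 0
    simp only [pf6, w1, hy, LinearMap.zero_apply]; ring
  rw [e1] at this
  exact mul_ne_zero hx hw this.symm

theorem ker_le (N : Nice e f) {x : V} (hx0 : x ≠ 0) (hx : Qf e f x = 0) :
    finrank F (LinearMap.ker (f x)) ≤ 3 := by
  have : FiniteDimensional F V := e.finiteDimensional_of_finite
  by_contra hc
  push Not at hc
  have hxk : x ∈ LinearMap.ker (f x) := by
    rw [LinearMap.mem_ker]; ext v; exact N.alt.self x v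
  obtain ⟨v, hv, hv0, hvk⟩ := exists_in hxk hx0 3 hc
  obtain ⟨w, hw, hwi⟩ := exists_ext e 3 4 rfl _ hv
  have w0 : w 0 = x := (hwi 0 (by norm_num) (by norm_num)).trans hv0
  have w1 : f x (w 1) = 0 := by rw [show w 1 = v 1 from hwi 1 (by norm_num) (by norm_num)]; exact hvk 1
  have w2 : f x (w 2) = 0 := by rw [show w 2 = v 2 from hwi 2 (by norm_num) (by norm_num)]; exact hvk 2
  have w3 : f x (w 3) = 0 := by rw [show w 3 = v 3 from hwi 3 (by norm_num) (by norm_num)]; exact hvk 3
  apply hx0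
  apply N.nd
  intro z
  have := pf21_eq e N.alt N.two x z (fun i => w i.succ)
  rw [hx, zero_mul, add_zero, ← w0, vecCons_eq, w0] at this
  have e1 : pf21 (fun u v => f x u v) (fun u v => f z u v) (w (Fin.succ 0)) (w (Fin.succ 1))
      (w (Fin.succ 2)) (w (Fin.succ 3)) (w (Fin.succ 4)) (w (Fin.succ 5)) = 0 := by
    change pf21 (fun u v => f x u v) (fun u v => f z u v) (w 1) (w 2) (w 3) (w 4) (w 5) (w 6) = 0
    simp only [pf21, pf4, w1, w2, w3, LinearMap.zero_apply]; ring
  rw [e1] at this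
  exact (mul_eq_zero.1 this.symm).resolve_right hw

theorem ker_eq (N : Nice e f) {x : V} (hx0 : x ≠ 0) (hx : Qf e f x = 0) :
    finrank F (LinearMap.ker (f x)) = 3 := by
  refine le_antisymm (N.ker_le hx0 hx) (ker_ge (finrank_eq e) (f x) (N.alt.z23 x) fun c => ?_)
  rw [pf6_eq e N.alt, hx, zero_mul]

/-- the vectors of the radical of a null vector are null -/
theorem null_of_ker (N : Nice e f) {x y : V} (hx0 : x ≠ 0) (hx : Qf e f x = 0) (hy : f x y = 0) :
    Qf e f y = 0 := by
  by_contra hq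
  have hyx : f y x = 0 := by
    ext v
    rw [N.alt.swap12, hy]; simp
  obtain ⟨c, rfl⟩ := N.rad_nonsing hq hyx
  rw [QuadraticMap.map_smul] at hx
  rcases mul_eq_zero.1 hx with h | h
  · rcases mul_eq_zero.1 h with h | h <;> exact hx0 (by rw [h, zero_smul])
  · exact hq h

/-- two vectors in the radical of the null vector `x` have a product proportional to `x` -/
theorem exists_lam (N : Nice e f) {x r s : V} (hx : Qf e f x = 0) (hr : f x r = 0)
    (hs : f x s = 0) (hli : LinearIndependent F ![x, r, s]) :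
    ∃ l : F, l ≠ 0 ∧ ∀ z, f z r s = l * polar (Qf e f) x z := by
  have hx0 : x ≠ 0 := hli.ne_zero 0
  obtain ⟨w, hw, hwi⟩ := exists_ext e 4 3 rfl _ hli
  have w0 : w 0 = x := by have := hwi 0 (by norm_num) (by norm_num); exact this
  have w1 : w 1 = r := by have := hwi 1 (by norm_num) (by norm_num); exact this
  have w2 : w 2 = s := by have := hwi 2 (by norm_num) (by norm_num); exact this
  have key : ∀ z, f z r s * pf4 (fun u v => f x u v) (w 3) (w 4) (w 5) (w 6) =
      polar (Qf e f) x z * e.det w := by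
    intro z
    have := pf21_eq e N.alt N.two x z (fun i => w i.succ)
    rw [hx, zero_mul, add_zero, ← w0, vecCons_eq, w0] at this
    rw [← this]
    change _ = pf21 (fun u v => f x u v) (fun u v => f z u v) (w 1) (w 2) (w 3) (w 4) (w 5) (w 6)
    simp only [pf21, pf4, w1, w2, hr, hs, LinearMap.zero_apply]; ring
  obtain ⟨z0, hz0⟩ : ∃ z, polar (Qf e f) x z ≠ 0 := by
    by_contra h
    push Not at h
    exact hx0 (N.nd x h)
  have hp : pf4 (fun u v => f x u v) (w 3) (w 4) (w 5) (w 6) ≠ 0 := by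
    intro h
    have := key z0
    rw [h, mul_zero] at this
    exact mul_ne_zero hz0 hw this.symm
  refine ⟨e.det w / pf4 (fun u v => f x u v) (w 3) (w 4) (w 5) (w 6), div_ne_zero hw hp, ?_⟩
  intro z
  have := key z
  field_simp
  rw [this]; ring

end Nice

end Cfsg.Agent.H179.G2
end

-- part: H179/G2Rank
section
/-!
# An alternating 3-form in dimension 7 without radical has a nonzero quadratic form (finite fields)
-/

namespace Cfsg.Agent.H179.G2

open QuadraticMap Module

variable {F V : Type*} [Field F] [AddCommGroup V] [Module F V]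

/-- the mixed part of `pf4` -/
def mix4 (A B : V → V → F) (a b c d : V) : F :=
  A a b * B c d - A a c * B b d + A a d * B b c + B a b * A c d - B a c * A b d + B a d * A b c

omit [AddCommGroup V] [Module F V] in
theorem pf4_add (A B : V → V → F) (t : F) (a b c d : V) :
    pf4 (fun u v => A u v + t * B u v) a b c d =
      pf4 A a b c d + t * mix4 A B a b c d + t ^ 2 * pf4 B a b c d := by
  simp only [pf4, mix4]; ring

/-- a form with a nonzero Pfaffian of size four has a radical of codimension at least four -/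
theorem ker_le_of_pf4 (w : V →ₗ[F] V →ₗ[F] F) (h : ∀ u, w u u = 0) (hfr : finrank F V = 7)
    {a b c d : V} (hp : pf4 (fun u v => w u v) a b c d ≠ 0) : finrank F (LinearMap.ker w) ≤ 3 := by
  have : FiniteDimensional F V := Module.finite_of_finrank_pos (by omega)
  have hs : ∀ u v, w u v = - w v u := by
    intro u v
    have := h (u + v)
    simp only [map_add, LinearMap.add_apply, h, zero_add, add_zero] at this
    exact eq_neg_of_add_eq_zero_right this
  let T : V →ₗ[F] (Fin 4 → F) := LinearMap.pi ![w.flip a, w.flip b, w.flip c, w.flip d]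
  have hle : LinearMap.ker w ≤ LinearMap.ker T := by
    intro u hu
    have hu' : w u = 0 := hu
    rw [LinearMap.mem_ker]
    funext i
    fin_cases i
    · change w u a = 0; rw [hu']; rfl
    · change w u b = 0; rw [hu']; rfl
    · change w u c = 0; rw [hu']; rfl
    · change w u d = 0; rw [hu']; rfl
  have hsurj : LinearMap.range T = ⊤ := by
    have hli : LinearIndependent F ![T a, T b, T c, T d] := by
      rw [Fintype.linearIndependent_iff]
      intro g hg
      simp only [Fin.sum_univ_succ, Fin.sum_univ_zero, Matrix.cons_val_zero, Matrix.cons_val_succ,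
        add_zero] at hg
      have e0 : g 0 * w a a + (g 1 * w b a + (g 2 * w c a + g 3 * w d a)) = 0 := congrFun hg 0
      have e1 : g 0 * w a b + (g 1 * w b b + (g 2 * w c b + g 3 * w d b)) = 0 := congrFun hg 1
      have e2 : g 0 * w a c + (g 1 * w b c + (g 2 * w c c + g 3 * w d c)) = 0 := congrFun hg 2
      have e3 : g 0 * w a d + (g 1 * w b d + (g 2 * w c d + g 3 * w d d)) = 0 := congrFun hg 3
      rw [h, hs b a, hs c a, hs d a] at e0
      rw [h, hs c b, hs d b] at e1
      rw [h, hs d c] at e2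
      rw [h] at e3
      simp only [pf4] at hp
      have k0 : g 0 = 0 := by
        refine (mul_eq_zero.1 (?_ : g 0 * (w a b * w c d - w a c * w b d + w a d * w b c) = 0)).resolve_right hp
        linear_combination w c d * e1 - w b d * e2 + w b c * e3
      have k1 : g 1 = 0 := by
        refine (mul_eq_zero.1 (?_ : g 1 * (w a b * w c d - w a c * w b d + w a d * w b c) = 0)).resolve_right hp
        linear_combination -w c d * e0 + w a d * e2 - w a c * e3
      have k2 : g 2 = 0 := by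
        refine (mul_eq_zero.1 (?_ : g 2 * (w a b * w c d - w a c * w b d + w a d * w b c) = 0)).resolve_right hp
        linear_combination w b d * e0 - w a d * e1 + w a b * e3
      have k3 : g 3 = 0 := by
        refine (mul_eq_zero.1 (?_ : g 3 * (w a b * w c d - w a c * w b d + w a d * w b c) = 0)).resolve_right hp
        (clear * - e0 e1 e2; grobner)
      intro i
      fin_cases i
      exacts [k0, k1, k2, k3]
    rw [eq_top_iff, ← hli.span_eq_top_of_card_eq_finrank (by simp), Submodule.span_le]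
    rintro _ ⟨i, rfl⟩
    fin_cases i
    exacts [⟨a, rfl⟩, ⟨b, rfl⟩, ⟨c, rfl⟩, ⟨d, rfl⟩]
  have h1 := LinearMap.finrank_range_add_finrank_ker T
  rw [hsurj, finrank_top, Module.finrank_fin_fun] at h1
  have h2 := Submodule.finrank_mono hle
  omega

/-- a nonzero alternating form has a radical of codimension at least two -/
theorem ker_le_of_ne (w : V →ₗ[F] V →ₗ[F] F) (h : ∀ u, w u u = 0) (hfr : finrank F V = 7)
    (hw : w ≠ 0) : finrank F (LinearMap.ker w) ≤ 5 := by
  have : FiniteDimensional F V := Module.finite_of_finrank_pos (by omega)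
  have hs : ∀ u v, w u v = - w v u := by
    intro u v
    have := h (u + v)
    simp only [map_add, LinearMap.add_apply, h, zero_add, add_zero] at this
    exact eq_neg_of_add_eq_zero_right this
  obtain ⟨a, b, hab⟩ : ∃ a b, w a b ≠ 0 := by
    by_contra hc
    push Not at hc
    exact hw (by ext a b; exact hc a b)
  let T : V →ₗ[F] (Fin 2 → F) := LinearMap.pi ![w.flip a, w.flip b]
  have hle : LinearMap.ker w ≤ LinearMap.ker T := by
    intro u hu
    have hu' : w u = 0 := hu
    rw [LinearMap.mem_ker]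
    funext i
    fin_cases i
    · change w u a = 0; rw [hu']; rfl
    · change w u b = 0; rw [hu']; rfl
  have hsurj : LinearMap.range T = ⊤ := by
    have hli : LinearIndependent F ![T a, T b] := by
      rw [Fintype.linearIndependent_iff]
      intro g hg
      simp only [Fin.sum_univ_succ, Fin.sum_univ_zero, Matrix.cons_val_zero, Matrix.cons_val_succ,
        add_zero] at hg
      have e0 : g 0 * w a a + g 1 * w b a = 0 := congrFun hg 0
      have e1 : g 0 * w a b + g 1 * w b b = 0 := congrFun hg 1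
      rw [h, hs b a] at e0
      rw [h] at e1
      have k0 : g 0 = 0 := (mul_eq_zero.1 (by linear_combination e1 : g 0 * w a b = 0)).resolve_right hab
      have k1 : g 1 = 0 := (mul_eq_zero.1 (by linear_combination -e0 : g 1 * w a b = 0)).resolve_right hab
      intro i
      fin_cases i
      exacts [k0, k1]
    rw [eq_top_iff, ← hli.span_eq_top_of_card_eq_finrank (by simp), Submodule.span_le]
    rintro _ ⟨i, rfl⟩
    fin_cases i
    exacts [⟨a, rfl⟩, ⟨b, rfl⟩]
  have h1 := LinearMap.finrank_range_add_finrank_ker T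
  rw [hsurj, finrank_top, Module.finrank_fin_fun] at h1
  have h2 := Submodule.finrank_mono hle
  omega

open Finset in
/-- the counting argument -/
theorem count_aux [Fintype F] [Fintype V] [DecidableEq V] [DecidableEq F] (hfr : finrank F V = 7)
    (h2 : (2 : F) ≠ 0) (f : V →ₗ[F] V →ₗ[F] V →ₗ[F] F) (hz : ∀ x u, f x u u = 0)
    (hrad : ∀ x, f x = 0 → x = 0) (K : Submodule F V) (hK : finrank F K = 3)
    (b : Basis (Fin 3) F K) (p : V → F) (hp0 : p (b 0) ≠ 0)
    (hpb : ∀ y : V, ∃ m : F, ∀ t : F, p (y + t • (b 0 : V)) = p y + t * m + t ^ 2 * p (b 0))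
    (hker : ∀ y ∈ K, p y ≠ 0 → LinearMap.ker (f y) = K) (hle : ∀ y ∈ K, K ≤ LinearMap.ker (f y))
    (hdet : ∀ z, ∃ y ∈ K, y ≠ 0 ∧ f y z = 0) : False := by
  classical
  have : FiniteDimensional F V := Module.finite_of_finrank_pos (by omega)
  set q := Fintype.card F with hq
  have hq3 : 3 ≤ q := by
    have h1 : 1 < q := Fintype.one_lt_card
    have h3 : q ≠ 2 := by
      intro h
      apply h2
      have := Nat.cast_card_eq_zero F
      rw [← hq, h] at this
      exact_mod_cast this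
    omega
  have hcard : ∀ W : Submodule F V, #{z : V | z ∈ W} = q ^ finrank F W := by
    intro W
    rw [hq, ← Module.card_eq_pow_finrank (K := F) (V := W), Fintype.card_subtype]
  have hpne : ∀ z ∉ K, ∀ y ∈ K, f y z = 0 → p y = 0 := by
    intro z hz y hy hyz
    by_contra h
    apply hz
    rw [← hker y hy h]
    exact hyz
  set S : Finset V := {z : V | z ∉ K} with hS
  have hScard : #S + q ^ 3 = q ^ 7 := by
    have h1 := Finset.card_filter_add_card_filter_not (s := (Finset.univ : Finset V)) (fun z => z ∈ K)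
    rw [hcard K, hK, Finset.card_univ, Module.card_eq_pow_finrank (K := F) (V := V), hfr, ← hq] at h1
    rw [hS]; omega
  set t : Finset K := {y : K | y ≠ 0 ∧ p y = 0} with ht
  -- bound for `t`
  have htcard : #t ≤ 2 * q ^ 2 := by
    let g : K → F × F := fun y => (b.repr y 1, b.repr y 2)
    have h1 := Finset.card_le_mul_card_image (f := g) t 2 (by
      intro c _
      by_contra hc
      push Not at hc
      obtain ⟨y, y', y'', hy, hy', hy'', n1, n2, n3⟩ := Finset.two_lt_card_iff.1 hc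
      simp only [ht, Finset.mem_filter, Finset.mem_univ, true_and, g] at hy hy' hy''
      have hdiff : ∀ u v : K, (b.repr u 1, b.repr u 2) = c → (b.repr v 1, b.repr v 2) = c →
          (v : V) = (u : V) + (b.repr v 0 - b.repr u 0) • (b 0 : V) := by
        intro u v hu hv
        have hu1 := congrArg Prod.fst (hu.trans hv.symm)
        have hu2 := congrArg Prod.snd (hu.trans hv.symm)
        simp only at hu1 hu2
        have e1 := b.sum_repr u
        have e2 := b.sum_repr v
        rw [Fin.sum_univ_three] at e1 e2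
        rw [hu1, hu2] at e1
        have e3 : v = u + (b.repr v 0 - b.repr u 0) • b 0 := by
          conv_lhs => rw [← e2]
          conv_rhs => rw [← e1]
          simp only [map_add, map_smul, Finsupp.add_apply, Finsupp.smul_apply, Basis.repr_self,
            smul_eq_mul]
          simp only [sub_smul, _root_.Fin.isValue, _root_.Finsupp.single_eq_same, _root_.mul_one, _root_.ne_eq, _root_.zero_ne_one, _root_.not_false_eq_true, _root_.Finsupp.single_eq_of_ne, _root_.MulZeroClass.mul_zero, _root_.add_zero, _root_.Fin.reduceEq, _root_.sub_smul]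
          abel
        have e4 := congrArg Subtype.val e3
        exact e4
      obtain ⟨m, hm⟩ := hpb y
      have e1 := hdiff y y' hy.2 hy'.2
      have e2 := hdiff y y'' hy.2 hy''.2
      have f1 := hm (b.repr y' 0 - b.repr y 0)
      have f2 := hm (b.repr y'' 0 - b.repr y 0)
      rw [← e1, hy'.1.2, hy.1.2, zero_add] at f1
      rw [← e2, hy''.1.2, hy.1.2, zero_add] at f2
      have s1 : b.repr y' 0 - b.repr y 0 ≠ 0 := by
        intro h
        rw [h, zero_smul, add_zero] at e1
        exact n1 (Subtype.ext e1.symm)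
      have s2 : b.repr y'' 0 - b.repr y 0 ≠ 0 := by
        intro h
        rw [h, zero_smul, add_zero] at e2
        exact n2 (Subtype.ext e2.symm)
      have g1 : m + (b.repr y' 0 - b.repr y 0) * p (b 0) = 0 :=
        (mul_eq_zero.1 (by linear_combination -f1 :
          (b.repr y' 0 - b.repr y 0) * (m + (b.repr y' 0 - b.repr y 0) * p (b 0)) = 0)).resolve_left s1
      have g2 : m + (b.repr y'' 0 - b.repr y 0) * p (b 0) = 0 :=
        (mul_eq_zero.1 (by linear_combination -f2 :
          (b.repr y'' 0 - b.repr y 0) * (m + (b.repr y'' 0 - b.repr y 0) * p (b 0)) = 0)).resolve_left s2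
      have g3 : (b.repr y' 0 - b.repr y 0) = (b.repr y'' 0 - b.repr y 0) :=
        mul_right_cancel₀ hp0 (by linear_combination g1 - g2)
      apply n3
      apply Subtype.ext
      rw [e1, e2, g3])
    refine h1.trans ?_
    have h2' := Finset.card_le_univ (t.image g)
    rw [Fintype.card_prod, ← hq] at h2'
    calc 2 * #(t.image g) ≤ 2 * (q * q) := Nat.mul_le_mul_left 2 h2'
      _ = 2 * q ^ 2 := by ring
  -- double counting
  have hmain : #S * (q - 1) ≤ #t * (q ^ 5 - q ^ 3) := by
    refine Finset.card_mul_le_card_mul (fun z (y : K) => f (y : V) z = 0) ?_ ?_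
    · intro z hz
      have hzK : z ∉ K := by simpa [hS] using hz
      obtain ⟨y0, hy0K, hy0, hy0z⟩ := hdet z
      have h1 : #({c : F | c ≠ 0} : Finset F) = q - 1 := by
        rw [Finset.filter_ne' (s := (Finset.univ : Finset F)) 0, Finset.card_erase_of_mem (Finset.mem_univ _),
          Finset.card_univ]
      rw [← h1]
      refine Finset.card_le_card_of_injOn (fun c => c • (⟨y0, hy0K⟩ : K)) ?_ ?_
      · intro c hc
        have hc0 : c ≠ 0 := by simpa using hc
        have hfz : f (c • y0) z = 0 := by rw [map_smul, LinearMap.smul_apply, hy0z, smul_zero]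
        rw [Finset.mem_coe, Finset.bipartiteAbove, Finset.mem_filter, ht, Finset.mem_filter]
        refine ⟨⟨Finset.mem_univ _, ?_, ?_⟩, hfz⟩
        · intro h
          have := congrArg Subtype.val h
          exact smul_ne_zero hc0 hy0 this
        · exact hpne z hzK _ (K.smul_mem c hy0K) hfz
      · intro c _ c' _ hcc
        have := congrArg Subtype.val hcc
        exact smul_left_injective F hy0 this
    · intro y hy
      have hy' : y ≠ 0 ∧ p y = 0 := by simpa [ht] using hy
      have hfy : f (y : V) ≠ 0 := fun h => hy'.1 (Subtype.ext (hrad _ h))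
      have h5 := ker_le_of_ne (f (y : V)) (hz y) hfr hfy
      have h6 := hcard (LinearMap.ker (f (y : V)))
      have h7 : q ^ finrank F (LinearMap.ker (f (y : V))) ≤ q ^ 5 := Nat.pow_le_pow_right (by omega) h5
      have h8 : #(S.bipartiteBelow (fun z (y : K) => f (y : V) z = 0) y) + #{z : V | z ∈ K} =
          #{z : V | z ∈ LinearMap.ker (f (y : V))} := by
        rw [← Finset.card_union_of_disjoint]
        · congr 1
          ext z
          simp only [Finset.bipartiteBelow, hS, Finset.mem_union, Finset.mem_filter, Finset.mem_univ,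
            true_and, LinearMap.mem_ker]
          constructor
          · rintro (h | h)
            · exact h.2
            · exact hle y y.2 h
          · intro h
            by_cases hzK : z ∈ K
            · exact Or.inr hzK
            · exact Or.inl ⟨hzK, h⟩
        · rw [Finset.disjoint_left]
          intro z h1 h2
          simp only [Finset.bipartiteBelow, hS, Finset.mem_filter, Finset.mem_univ, true_and] at h1 h2
          exact h1.1 h2
      rw [hcard K, hK, h6] at h8
      omega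
  have h9 := hmain.trans (Nat.mul_le_mul_right _ htcard)
  obtain ⟨u, hu⟩ : ∃ u, q = u + 3 := ⟨q - 3, by omega⟩
  have h10 : #S = (u + 3) ^ 7 - (u + 3) ^ 3 := by rw [← hu]; omega
  have h35 : (u + 3) ^ 3 ≤ (u + 3) ^ 5 := Nat.pow_le_pow_right (by omega) (by norm_num)
  have h37 : (u + 3) ^ 3 ≤ (u + 3) ^ 7 := Nat.pow_le_pow_right (by omega) (by norm_num)
  rw [h10, hu] at h9
  have h11 : u + 3 - 1 = u + 2 := by omega
  rw [h11] at h9
  zify [h35, h37] at h9
  linarith only [h9, sq_nonneg ((u : ℤ)), pow_nonneg (Int.natCast_nonneg u) 3, pow_nonneg (Int.natCast_nonneg u) 4, pow_nonneg (Int.natCast_nonneg u) 5, pow_nonneg (Int.natCast_nonneg u) 6, pow_nonneg (Int.natCast_nonneg u) 7, pow_nonneg (Int.natCast_nonneg u) 8]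

variable {e : Basis (Fin 7) F V} {f : V →ₗ[F] V →ₗ[F] V →ₗ[F] F}

/-- an alternating 3-form in dimension 7 over a finite field of odd characteristic whose radical is
zero has a nonzero quadratic form -/
theorem qf_ne [Finite F] (h : IsAltForm f) (h2 : (2 : F) ≠ 0) (hrad : ∀ x, f x = 0 → x = 0) :
    ∃ x, Qf e f x ≠ 0 := by
  classical
  have hfd : FiniteDimensional F V := e.finiteDimensional_of_finite
  have hfr : finrank F V = 7 := by rw [finrank_eq_card_basis e, Fintype.card_fin]
  by_contra hq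
  push Not at hq
  have hpol : ∀ x z, polar (Qf e f) x z = 0 := fun x z => by simp [polar, hq]
  have h6 : ∀ x (c : Fin 6 → V),
      pf6 (fun u v => f x u v) (c 0) (c 1) (c 2) (c 3) (c 4) (c 5) = 0 := fun x c => by
    rw [pf6_eq e h, hq, zero_mul]
  have h21 : ∀ x z (c : Fin 6 → V),
      pf21 (fun u v => f x u v) (fun u v => f z u v) (c 0) (c 1) (c 2) (c 3) (c 4) (c 5) = 0 :=
    fun x z c => by rw [pf21_eq e h h2, hq, hpol, zero_mul, zero_mul, add_zero]
  by_cases hA : ∃ x0 a b c d, pf4 (fun u v => f x0 u v) a b c d ≠ 0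
  · obtain ⟨x0, c1, c2, c3, c4, hp0⟩ := hA
    set K := LinearMap.ker (f x0) with hKdef
    have hK : finrank F K = 3 :=
      le_antisymm (ker_le_of_pf4 (f x0) (h.z23 x0) hfr hp0) (ker_ge hfr (f x0) (h.z23 x0) (h6 x0))
    have hKK : ∀ r ∈ K, ∀ s ∈ K, ∀ z, f z r s = 0 := by
      intro r hr s hs z
      have hr' : f x0 r = 0 := hr
      have hs' : f x0 s = 0 := hs
      have := h21 x0 z ![r, s, c1, c2, c3, c4]
      simp only [Matrix.cons_val, pf21] at this
      simp only [pf4, hr', hs', LinearMap.zero_apply] at this hp0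
      refine (mul_eq_zero.1 (?_ : f z r s * _ = 0)).resolve_right hp0
      (clear * - this; grobner)
    have hle : ∀ y ∈ K, K ≤ LinearMap.ker (f y) := by
      intro y hy s hs
      rw [LinearMap.mem_ker]
      ext v
      rw [h.rot, h.rot, hKK y hy s hs v]; rfl
    have hx0 : x0 ≠ 0 := by
      rintro rfl
      apply hp0
      simp [pf4]
    have hx0K : x0 ∈ K := by rw [hKdef, LinearMap.mem_ker]; ext v; exact h.self x0 v
    obtain ⟨v, hv, hv0, hvK⟩ := exists_in hx0K hx0 2 (by rw [hK])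
    -- a basis of `K` starting with `x0`
    have hvli : LinearIndependent F (fun i => (⟨v i, hvK i⟩ : K)) := by
      apply LinearIndependent.of_comp K.subtype
      exact hv
    let b : Basis (Fin 3) F K :=
      basisOfLinearIndependentOfCardEqFinrank hvli (by rw [hK, Fintype.card_fin])
    have hb : ∀ i, (b i : V) = v i := by
      intro i
      have : b i = ⟨v i, hvK i⟩ := by
        have := coe_basisOfLinearIndependentOfCardEqFinrank hvli (by rw [hK, Fintype.card_fin])
        exact congrFun this i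
      rw [this]
    have hb0 : (b 0 : V) = x0 := by rw [hb, hv0]
    have hdet : ∀ z, ∃ y ∈ K, y ≠ 0 ∧ f y z = 0 := by
      intro z
      let T : V →ₗ[F] (Fin 3 → F) := LinearMap.pi fun i => f (v i) z
      by_cases hT : LinearMap.range T = ⊤
      · exfalso
        have hex : ∀ j : Fin 3, ∃ w, T w = Pi.single j 1 := fun j =>
          LinearMap.range_eq_top.1 hT _
        choose w hw using hex
        have hval : ∀ i j, f (v i) z (w j) = if i = j then 1 else 0 := by
          intro i j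
          have := congrFun (hw j) i
          rw [Pi.single_apply] at this
          exact this
        have h66 := h6 (x0 + z) ![v 0, v 1, v 2, w 0, w 1, w 2]
        have hv1 : ∀ i, f x0 (v i) = 0 := hvK
        have hv2 : ∀ i j, f z (v i) (v j) = 0 := fun i j => hKK _ (hvK i) _ (hvK j) z
        have hv3 : ∀ i j, f z (v i) (w j) = - if i = j then 1 else 0 := fun i j => by
          rw [h.swap12, hval]
        simp only [Matrix.cons_val, pf6, pf4, map_add, LinearMap.add_apply, hv1, hv2, hv3,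
          LinearMap.zero_apply] at h66
        have h01 : ((0 : Fin 3) = 1) = False := by simp
        have h02 : ((0 : Fin 3) = 2) = False := by simp
        have h10 : ((1 : Fin 3) = 0) = False := by simp
        have h12 : ((1 : Fin 3) = 2) = False := by simp
        have h20 : ((2 : Fin 3) = 0) = False := by simp
        have h21' : ((2 : Fin 3) = 1) = False := by simp
        simp only [h01, h02, h10, h12, h20, h21', if_true, if_false] at h66
        norm_num at h66
      · obtain ⟨φ, hφ, hφr⟩ := Submodule.exists_dual_map_eq_bot_of_lt_top (lt_top_iff_ne_top.2 hT)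
          inferInstance
        have h0 : ∀ u, φ (T u) = 0 := by
          intro u
          have : φ (T u) ∈ (LinearMap.range T).map φ := ⟨_, ⟨u, rfl⟩, rfl⟩
          rw [hφr] at this
          exact (Submodule.mem_bot _).1 this
        refine ⟨∑ i, φ (Pi.single i 1) • v i, K.sum_mem fun i _ => K.smul_mem _ (hvK i), ?_, ?_⟩
        · intro hs
          have h4 := (Fintype.linearIndependent_iff.1 hv) _ hs
          apply hφ
          refine LinearMap.pi_ext' fun i => ?_
          ext
          simpa only [_root_.LinearMap.coe_comp, _root_.LinearMap.coe_single, _root_.Function.comp_apply, _root_.LinearMap.zero_comp, _root_.LinearMap.zero_apply] using h4 i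
        · ext u
          rw [map_sum, LinearMap.sum_apply, LinearMap.sum_apply, LinearMap.zero_apply, ← h0 u]
          have h3 : T u = ∑ i, f (v i) z u • (Pi.single i 1 : Fin 3 → F) := by
            ext j
            simp [T, Finset.sum_apply, Pi.single_apply]
          rw [h3, map_sum]
          refine Finset.sum_congr rfl fun i _ => ?_
          rw [map_smul, map_smul, LinearMap.smul_apply, LinearMap.smul_apply, smul_eq_mul,
            smul_eq_mul, mul_comm]
    cases nonempty_fintype F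
    have : Finite V := Module.finite_of_finite F
    cases nonempty_fintype V
    refine count_aux hfr h2 f h.z23 hrad K hK b (fun y => pf4 (fun u v => f y u v) c1 c2 c3 c4)
      (by rw [hb0]; exact hp0) ?_ ?_ hle hdet
    · intro y
      refine ⟨mix4 (fun u v => f y u v) (fun u v => f x0 u v) c1 c2 c3 c4, fun t => ?_⟩
      rw [hb0, ← pf4_add]
      simp only [map_add, map_smul, LinearMap.add_apply, LinearMap.smul_apply, smul_eq_mul]
    · intro y hy hpy
      have h3 := ker_le_of_pf4 (f y) (h.z23 y) hfr hpy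
      exact (Submodule.eq_of_le_of_finrank_le (hle y hy) (by rw [hK]; exact h3)).symm
  · push Not at hA
    obtain ⟨x0, hx0⟩ : ∃ x0, f x0 ≠ 0 := by
      by_contra hc
      push Not at hc
      exact (e.ne_zero 0) (hrad _ (hc (e 0)))
    obtain ⟨a, b, hab⟩ : ∃ a b, f x0 a b ≠ 0 := by
      by_contra hc
      push Not at hc
      exact hx0 (by ext a b; exact hc a b)
    have hKK : ∀ r, f x0 r = 0 → ∀ s, f x0 s = 0 → ∀ z, f z r s = 0 := by
      intro r hr s hs z
      have h1 := hA (x0 + z) r s a b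
      have h3 := hA z r s a b
      simp only [pf4, map_add, LinearMap.add_apply, hr, hs, LinearMap.zero_apply] at h1 h3
      refine (mul_eq_zero.1 (?_ : f z r s * f x0 a b = 0)).resolve_right hab
      linear_combination h1 - h3
    have hW : ∀ u, f x0 a u = 0 → f x0 b u = 0 → f x0 u = 0 := by
      intro u ha hb
      ext v
      have h1 := hA x0 a b u v
      simp only [pf4, ha, hb] at h1
      refine (mul_eq_zero.1 (?_ : f x0 a b * f x0 u v = 0)).resolve_left hab
      linear_combination h1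
    -- a vector in `K` killed by `f · a b`
    let T : V →ₗ[F] (Fin 3 → F) := LinearMap.pi ![f x0 a, f x0 b, f a b]
    have hT := LinearMap.finrank_range_add_finrank_ker T
    have hT2 : finrank F (LinearMap.range T) ≤ 3 := by
      have := Submodule.finrank_le (LinearMap.range T)
      simpa using this
    have hpos : 0 < finrank F (LinearMap.ker T) := by omega
    obtain ⟨u, hu⟩ := Module.finrank_pos_iff_exists_ne_zero.1 hpos
    obtain ⟨u, huT⟩ := u
    have hu0 : u ≠ 0 := fun h => hu (Subtype.ext h)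
    have hua : f x0 a u = 0 := congrFun huT 0
    have hub : f x0 b u = 0 := congrFun huT 1
    have huab : f a b u = 0 := congrFun huT 2
    have huK : f x0 u = 0 := hW u hua hub
    apply hu0
    apply hrad
    have hw : ∀ w, f x0 w = 0 → f u w = 0 := by
      intro w hw
      ext z
      rw [h.rot, h.rot, hKK u huK w hw]; rfl
    have hab' : f u a b = 0 := by rw [h.rot, huab]
    have hs : f x0 b a = - f x0 a b := h.swap23 _ _ _
    have hdec : ∀ v, ∃ α β : F, ∃ w, f x0 w = 0 ∧ v = α • a + β • b + w := by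
      intro v
      refine ⟨-(f x0 b v / f x0 a b), f x0 a v / f x0 a b,
        v - (-(f x0 b v / f x0 a b)) • a - (f x0 a v / f x0 a b) • b, hW _ ?_ ?_, by abel⟩
      · simp only [map_sub, map_smul, smul_eq_mul, h.z23]; field_simp; ring
      · simp only [map_sub, map_smul, smul_eq_mul, h.z23, hs]; field_simp; ring
    ext v v'
    obtain ⟨α, β, w, hwK, rfl⟩ := hdec v
    obtain ⟨α', β', w', hwK', rfl⟩ := hdec v'
    have e1 : f u a w' = 0 := by rw [h.swap23, hw w' hwK']; simp
    have e2 : f u b w' = 0 := by rw [h.swap23, hw w' hwK']; simp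
    have e3 : f u b a = 0 := by rw [h.swap23, hab', neg_zero]
    simp only [map_add, map_smul, LinearMap.add_apply, LinearMap.smul_apply, hw w hwK, e1, e2, e3,
      hab', h.z23, LinearMap.zero_apply, smul_zero, add_zero]

end Cfsg.Agent.H179.G2
end

-- part: H179/G2Cross
section
/-!
# The cross product of a non-degenerate alternating 3-form in dimension 7
-/

namespace Cfsg.Agent.H179.G2

open QuadraticMap Module

variable {F V : Type*} [Field F] [AddCommGroup V] [Module F V]

/-- the polar form of `Qf e f` as a bilinear map -/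
noncomputable def bb (e : Basis (Fin 7) F V) (f : V →ₗ[F] V →ₗ[F] V →ₗ[F] F) :
    V →ₗ[F] V →ₗ[F] F :=
  polarBilin (Qf e f)

variable {e : Basis (Fin 7) F V} {f : V →ₗ[F] V →ₗ[F] V →ₗ[F] F}

theorem bb_apply (x y : V) : bb e f x y = polar (Qf e f) x y := rfl

theorem bb_comm (x y : V) : bb e f x y = bb e f y x := QuadraticMap.polar_comm _ _ _

theorem bb_self (x : V) : bb e f x x = 2 * Qf e f x := by
  rw [bb_apply, QuadraticMap.polar_self, two_smul]; ring

theorem Qf_add (x y : V) : Qf e f (x + y) = Qf e f x + Qf e f y + bb e f x y :=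
  QuadraticMap.map_add _ x y

theorem Qf_smul (c : F) (x : V) : Qf e f (c • x) = c ^ 2 * Qf e f x := by
  rw [QuadraticMap.map_smul, smul_eq_mul]; ring

namespace Nice

theorem null_iff (N : Nice e f) (x : V) : bb e f x x = 0 ↔ Qf e f x = 0 := by
  rw [bb_self]
  exact ⟨fun h => (mul_eq_zero.1 h).resolve_left N.two, fun h => by rw [h, mul_zero]⟩

theorem ext (N : Nice e f) {x y : V} (h : ∀ z, bb e f x z = bb e f y z) : x = y := by
  rw [← sub_eq_zero]
  apply N.nd
  intro z
  have : bb e f (x - y) z = 0 := by rw [map_sub, LinearMap.sub_apply, h, sub_self]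
  exact this

theorem isRefl (e : Basis (Fin 7) F V) (f : V →ₗ[F] V →ₗ[F] V →ₗ[F] F) :
    LinearMap.IsRefl (bb e f) := fun x y h => by rw [bb_comm]; exact h

theorem nondeg (N : Nice e f) : (bb e f).Nondegenerate :=
  (LinearMap.IsRefl.nondegenerate_iff_separatingLeft (isRefl e f)).2 fun x hx => N.nd x hx

/-- the cross product -/
noncomputable def cr (N : Nice e f) : V →ₗ[F] V →ₗ[F] V :=
  haveI : FiniteDimensional F V := e.finiteDimensional_of_finite
  f.compr₂ (LinearMap.BilinForm.toDual (bb e f) N.nondeg).symm.toLinearMap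

theorem bb_cr (N : Nice e f) (x y z : V) : bb e f (N.cr x y) z = f x y z := by
  have : FiniteDimensional F V := e.finiteDimensional_of_finite
  exact LinearMap.BilinForm.apply_toDual_symm_apply (B := bb e f) (hB := N.nondeg) (f x y) z

theorem cr_self (N : Nice e f) (x : V) : N.cr x x = 0 := by
  apply N.ext; intro z; rw [N.bb_cr, N.alt.self, map_zero, LinearMap.zero_apply]

theorem cr_anti (N : Nice e f) (x y : V) : N.cr x y = - N.cr y x := by
  apply N.ext; intro z
  rw [N.bb_cr, map_neg, LinearMap.neg_apply, N.bb_cr, N.alt.swap12]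

theorem cr_eq_zero (N : Nice e f) {x y : V} : N.cr x y = 0 ↔ f x y = 0 := by
  constructor
  · intro h
    ext z
    rw [← N.bb_cr, h]; simp
  · intro h
    apply N.ext; intro z; rw [N.bb_cr, h]; simp only [_root_.LinearMap.zero_apply, _root_.map_zero]

theorem bb_cr_skew (N : Nice e f) (x y z : V) : bb e f (N.cr x y) z = - bb e f y (N.cr x z) := by
  rw [bb_comm y, N.bb_cr, N.bb_cr, N.alt.swap23]

theorem bb_cr_right (N : Nice e f) (x y z : V) : bb e f z (N.cr x y) = f x y z := by
  rw [bb_comm, N.bb_cr]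

theorem exists_third {K : Submodule F V} [FiniteDimensional F K] (hK : 3 ≤ finrank F K) {w x : V}
    (hw : w ∈ K) (hx : x ∈ K) (hli : LinearIndependent F ![w, x]) :
    ∃ s ∈ K, LinearIndependent F ![w, x, s] := by
  have h1 : LinearIndependent F (![⟨w, hw⟩, ⟨x, hx⟩] : Fin 2 → K) := by
    apply LinearIndependent.of_comp K.subtype
    have : K.subtype ∘ (![⟨w, hw⟩, ⟨x, hx⟩] : Fin 2 → K) = ![w, x] := by
      funext i; fin_cases i <;> rfl
    rw [this]; exact hli
  obtain ⟨s, hs⟩ := exists_linearIndependent_snoc_of_lt_finrank h1 (by omega)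
  refine ⟨s, s.2, ?_⟩
  have h2 := hs.map' K.subtype K.ker_subtype
  have : K.subtype ∘ (Fin.snoc (α := fun _ => K) (![⟨w, hw⟩, ⟨x, hx⟩] : Fin 2 → K) s) =
      ![w, x, s] := by
    funext i; fin_cases i <;> rfl
  rw [← this]; exact h2

/-- the square of the multiplication by a null vector -/
theorem null_cross (N : Nice e f) {x : V} (hx0 : x ≠ 0) (hx : Qf e f x = 0) :
    ∃ k : F, k ≠ 0 ∧ ∀ y, N.cr x (N.cr x y) = (k * bb e f x y) • x := by
  have : FiniteDimensional F V := e.finiteDimensional_of_finite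
  have hfr := finrank_eq (F := F) e
  set K := LinearMap.ker (f x) with hK
  have hK3 : finrank F K = 3 := N.ker_eq hx0 hx
  have hKn : ∀ k ∈ K, Qf e f k = 0 := fun k hk => N.null_of_ker hx0 hx hk
  have hKb : ∀ k ∈ K, ∀ k' ∈ K, bb e f k k' = 0 := by
    intro k hk k' hk'
    have := Qf_add (e := e) (f := f) k k'
    rw [hKn k hk, hKn k' hk', hKn _ (K.add_mem hk hk')] at this
    simpa only [_root_.add_zero, _root_.zero_add] using this.symm
  set P := LinearMap.BilinForm.orthogonal (bb e f) K with hP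
  have hP4 : finrank F P = 4 := by
    rw [hP, LinearMap.BilinForm.finrank_orthogonal N.nondeg, hfr, hK3]
  have hmemP : ∀ v, v ∈ P ↔ ∀ k ∈ K, bb e f k v = 0 := fun v => Iff.rfl
  have hKP : K ≤ P := fun k hk => (hmemP k).2 fun k' hk' => hKb k' hk' k hk
  have hlt : K < P := by
    refine lt_of_le_of_ne hKP fun h => ?_
    rw [h, hP4] at hK3; omega
  obtain ⟨n, hnP, hnK⟩ := SetLike.exists_of_lt hlt
  have hPeq : K ⊔ F ∙ n = P := by
    refine Submodule.eq_of_le_of_finrank_le (sup_le hKP ?_) ?_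
    · rw [Submodule.span_singleton_le_iff_mem]; exact hnP
    · rw [hP4]
      have : K < K ⊔ F ∙ n := by
        refine lt_of_le_of_ne le_sup_left fun h => hnK ?_
        rw [h]
        exact Submodule.mem_sup_right (Submodule.mem_span_singleton_self n)
      have := Submodule.finrank_lt_finrank_of_lt this
      omega
  have hdec : ∀ v ∈ P, ∃ k ∈ K, ∃ a : F, v = k + a • n := by
    intro v hv
    rw [← hPeq, Submodule.mem_sup] at hv
    obtain ⟨k, hk, m, hm, rfl⟩ := hv
    obtain ⟨a, rfl⟩ := Submodule.mem_span_singleton.1 hm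
    exact ⟨k, hk, a, rfl⟩
  have hnk : ∀ k ∈ K, bb e f k n = 0 := (hmemP n).1 hnP
  have hqn : bb e f n n ≠ 0 := by
    intro h
    apply hnK
    have hoo : LinearMap.BilinForm.orthogonal (bb e f) P = K := by
      rw [hP]
      exact LinearMap.BilinForm.orthogonal_orthogonal N.nondeg (isRefl e f) K
    rw [← hoo]
    intro v hv
    obtain ⟨k, hk, a, rfl⟩ := hdec v hv
    change bb e f (k + a • n) n = 0
    simp [hnk k hk, h]
  -- image of `cr x`
  have him : ∀ y, N.cr x y ∈ P := by
    intro y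
    rw [hmemP]
    intro k hk
    rw [N.bb_cr_right, N.alt.swap23, show f x k = 0 from hk]; simp
  set w := N.cr x n with hw
  have hker : ∀ k ∈ K, N.cr x k = 0 := fun k hk => N.cr_eq_zero.2 hk
  have hsq : ∀ y, N.cr x (N.cr x y) = (-(bb e f w y) / bb e f n n) • w := by
    intro y
    obtain ⟨k, hk, a, ha⟩ := hdec _ (him y)
    have h1 : bb e f (N.cr x y) n = a * bb e f n n := by
      rw [ha]; simp only [hnk k hk, _root_.map_add, _root_.map_smul, _root_.LinearMap.add_apply, _root_.LinearMap.smul_apply, _root_.smul_eq_mul, _root_.zero_add]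
    have h2 : bb e f (N.cr x y) n = - bb e f w y := by
      rw [N.bb_cr_skew, ← hw, bb_comm]
    have h3 : a = -(bb e f w y) / bb e f n n := by
      field_simp; rw [← h1, h2]
    rw [← h3, ha, map_add, map_smul, hker k hk, zero_add]
  have hwn : bb e f w n = 0 := by rw [hw, N.bb_cr, N.alt.z23]
  have hwK : w ∈ K := by
    rw [hK, LinearMap.mem_ker, ← N.cr_eq_zero, hw, hsq n, hwn]; simp
  have hw0 : w ≠ 0 := fun h => hnK (N.cr_eq_zero.1 h)
  have hwq : Qf e f w = 0 := hKn w hwK
  by_cases hwx : ∃ c : F, c • x = w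
  · obtain ⟨c, hc⟩ := hwx
    have hc0 : c ≠ 0 := fun h => hw0 (by rw [← hc, h, zero_smul])
    refine ⟨-(c ^ 2) / bb e f n n, div_ne_zero (neg_ne_zero.2 (pow_ne_zero 2 hc0)) hqn, fun y => ?_⟩
    rw [hsq y, ← hc, smul_smul, map_smul, LinearMap.smul_apply, smul_eq_mul]
    congr 1
    field_simp
  · exfalso
    push Not at hwx
    -- the radical of `w`
    have hxw : f w x = 0 := by
      ext v
      rw [N.alt.swap12, show f x w = 0 from hwK]; simp
    have hKw : finrank F (LinearMap.ker (f w)) = 3 := N.ker_eq hw0 hwq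
    have hwx' : ∀ c : F, c • w ≠ x := by
      intro c hc
      have hc0 : c ≠ 0 := by
        rintro rfl
        exact hx0 (by rw [← hc, zero_smul])
      apply hwx c⁻¹
      rw [← hc, smul_smul, inv_mul_cancel₀ hc0, one_smul]
    have hli2 : LinearIndependent F ![w, x] := (LinearIndependent.pair_iff' hw0).2 hwx'
    have hwk : f w w = 0 := by ext v; exact N.alt.self w v
    obtain ⟨s, hsk, hli3⟩ := exists_third (K := LinearMap.ker (f w)) (by omega) hwk hxw hli2
    obtain ⟨l, hl, hls⟩ := N.exists_lam hwq hxw hsk hli3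
    have h1 : N.cr x s = l • w := by
      apply N.ext; intro z
      rw [N.bb_cr, N.alt.rot, N.alt.rot, hls z, map_smul, LinearMap.smul_apply, smul_eq_mul, bb_apply]
    have h2 : s - l • n ∈ K := by
      rw [hK, LinearMap.mem_ker, ← N.cr_eq_zero, map_sub, map_smul, h1, ← hw, sub_self]
    have h3 : Qf e f s = 0 := N.null_of_ker hw0 hwq hsk
    have h4 : s = (s - l • n) + l • n := by abel
    rw [← N.null_iff, h4] at h3
    simp only [map_add, LinearMap.add_apply, map_smul, LinearMap.smul_apply, smul_eq_mul,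
      hKb _ h2 _ h2, hnk _ h2, bb_comm n (s - l • n)] at h3
    apply mul_ne_zero (mul_ne_zero hl hl) hqn
    linear_combination h3

end Nice

end Cfsg.Agent.H179.G2
end

-- part: H179/G2Oct
section
/-!
# The composition identity of a non-degenerate alternating 3-form in dimension 7
-/

namespace Cfsg.Agent.H179.G2

open QuadraticMap Module

variable {F V : Type*} [Field F] [AddCommGroup V] [Module F V]
variable {e : Basis (Fin 7) F V} {f : V →ₗ[F] V →ₗ[F] V →ₗ[F] F}

namespace Nice

theorem exists_bb_ne (N : Nice e f) {x : V} (hx : x ≠ 0) : ∃ z, bb e f x z ≠ 0 := by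
  by_contra h
  push Not at h
  exact hx (N.nd x h)

theorem exists_bb_one (N : Nice e f) {x : V} (hx : x ≠ 0) : ∃ z, bb e f x z = 1 := by
  obtain ⟨z, hz⟩ := N.exists_bb_ne hx
  exact ⟨(bb e f x z)⁻¹ • z, by rw [map_smul, smul_eq_mul, inv_mul_cancel₀ hz]⟩

theorem exists_pair (N : Nice e f) {x y : V} (hx : ∀ c : F, c • y ≠ x) :
    ∃ z, bb e f x z = 1 ∧ bb e f y z = 0 := by
  by_cases hy0 : y = 0
  · subst hy0
    have hx0 : x ≠ 0 := fun h => hx 0 (by rw [h, zero_smul])
    obtain ⟨z, hz⟩ := N.exists_bb_one hx0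
    exact ⟨z, hz, by simp⟩
  by_contra hc
  push Not at hc
  obtain ⟨z0, hz0⟩ := N.exists_bb_one hy0
  have h1 : ∀ z, bb e f y z = 0 → bb e f x z = 0 := by
    intro z hz
    by_contra hxz
    refine hc ((bb e f x z)⁻¹ • z) ?_ ?_
    · rw [map_smul, smul_eq_mul, inv_mul_cancel₀ hxz]
    · rw [map_smul, hz, smul_zero]
  apply hx (bb e f x z0)
  apply N.ext
  intro z
  have := h1 (z - bb e f y z • z0) (by simp [hz0])
  simp only [map_sub, map_smul, smul_eq_mul, LinearMap.smul_apply] at this ⊢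
  linear_combination -this

theorem lin_zero {x y : V} (hy : ∀ c : F, c • x ≠ y) (hx : x ≠ 0) {a b : F}
    (h : a • x + b • y = 0) : a = 0 ∧ b = 0 := by
  have hb : b = 0 := by
    by_contra hb
    apply hy (-(b⁻¹ * a))
    have : y = b⁻¹ • (b • y) := by rw [smul_smul, inv_mul_cancel₀ hb, one_smul]
    rw [this, eq_neg_of_add_eq_zero_right h]
    module
  refine ⟨?_, hb⟩
  rw [hb, zero_smul, add_zero] at h
  exact (smul_eq_zero.1 h).resolve_right hx

/-- orthogonal null vectors have the same constant -/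
theorem kap_orth (N : Nice e f) {x y : V} (hx0 : x ≠ 0) (hx : Qf e f x = 0)
    (hy : Qf e f y = 0) (hxy : bb e f x y = 0) (hli : ∀ c : F, c • x ≠ y)
    {kx ky : F} (hkx : ∀ z, N.cr x (N.cr x z) = (kx * bb e f x z) • x)
    (hky : ∀ z, N.cr y (N.cr y z) = (ky * bb e f y z) • y) : kx = ky := by
  have hy0 : y ≠ 0 := fun h => hli 0 (by rw [h, zero_smul])
  have hli' : ∀ c : F, c • y ≠ x := by
    intro c hc
    have hc0 : c ≠ 0 := by
      rintro rfl
      exact hx0 (by rw [← hc, zero_smul])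
    exact hli c⁻¹ (by rw [← hc, smul_smul, inv_mul_cancel₀ hc0, one_smul])
  have hu0 : x + y ≠ 0 := fun h => hli (-1) (by rw [neg_one_smul]; exact (eq_neg_of_add_eq_zero_right h).symm)
  have hv0 : x - y ≠ 0 := fun h => hli 1 (by rw [one_smul]; exact sub_eq_zero.1 h)
  have hu : Qf e f (x + y) = 0 := by rw [Qf_add, hx, hy, hxy]; simp
  have hv : Qf e f (x - y) = 0 := by
    rw [sub_eq_add_neg, Qf_add, hx, QuadraticMap.map_neg, hy, map_neg, hxy]; simp
  obtain ⟨ku, -, hku⟩ := N.null_cross hu0 hu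
  obtain ⟨kv, -, hkv⟩ := N.null_cross hv0 hv
  have key : ∀ z, (2 : F) • ((kx * bb e f x z) • x + (ky * bb e f y z) • y) =
      (ku * (bb e f x z + bb e f y z)) • (x + y) + (kv * (bb e f x z - bb e f y z)) • (x - y) := by
    intro z
    have h1 := hku z
    have h2 := hkv z
    simp only [map_add, map_sub, LinearMap.add_apply, LinearMap.sub_apply, hkx z, hky z] at h1 h2
    rw [← h1, ← h2]
    module
  obtain ⟨z1, h11, h12⟩ := N.exists_pair hli'
  obtain ⟨z2, h21, h22⟩ := N.exists_pair hli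
  have e1 := key z1
  have e2 := key z2
  rw [h11, h12] at e1
  rw [h21, h22] at e2
  have e1' : (2 * kx - ku - kv) • x + (kv - ku) • y = 0 := by
    linear_combination (norm := module) e1
  have e2' : (kv - ku) • x + (2 * ky - ku - kv) • y = 0 := by
    linear_combination (norm := module) e2
  obtain ⟨a1, a2⟩ := lin_zero hli hx0 e1'
  obtain ⟨b1, b2⟩ := lin_zero hli hx0 e2'
  have : 2 * (kx - ky) = 0 := by linear_combination a1 - b2
  exact sub_eq_zero.1 ((mul_eq_zero.1 this).resolve_left N.two)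

/-- all null vectors have the same constant -/
theorem kap_const (N : Nice e f) {x y : V} (hx0 : x ≠ 0) (hx : Qf e f x = 0) (hy0 : y ≠ 0)
    (hy : Qf e f y = 0) {kx ky : F} (hkx : ∀ z, N.cr x (N.cr x z) = (kx * bb e f x z) • x)
    (hky : ∀ z, N.cr y (N.cr y z) = (ky * bb e f y z) • y) : kx = ky := by
  have : FiniteDimensional F V := e.finiteDimensional_of_finite
  by_cases hli : ∀ c : F, c • x ≠ y
  · by_cases hxy : bb e f x y = 0
    · exact N.kap_orth hx0 hx hy hxy hli hkx hky
    · have hyx : bb e f y x ≠ 0 := by rwa [bb_comm]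
      have hxk : x ∈ LinearMap.ker (f x) := by
        rw [LinearMap.mem_ker]; ext v; exact N.alt.self x v
      obtain ⟨v, hv, hv0, hvk⟩ := exists_in hxk hx0 1 (by rw [N.ker_eq hx0 hx]; norm_num)
      have hv2 : LinearIndependent F ![x, v 1] := by
        have : v = ![x, v 1] := by funext i; fin_cases i; exacts [hv0, rfl]
        rwa [this] at hv
      rw [LinearIndependent.pair_iff' hx0] at hv2
      set r := v 1 with hr
      have hrk : f x r = 0 := hvk 1
      set z := r - (bb e f y r / bb e f y x) • x with hz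
      have hzx : ∀ c : F, c • x ≠ z := by
        intro c hc
        apply hv2 (c + bb e f y r / bb e f y x)
        rw [add_smul, hc, hz]; abel
      have hz0 : z ≠ 0 := fun h => hzx 0 (by rw [h, zero_smul])
      have hzk : f x z = 0 := by
        rw [hz, map_sub, map_smul, hrk, show f x x = 0 from hxk]; simp
      have hzq : Qf e f z = 0 := N.null_of_ker hx0 hx hzk
      have hyz : bb e f y z = 0 := by
        rw [hz, map_sub, map_smul, smul_eq_mul]; field_simp; ring
      have hxz : bb e f x z = 0 := by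
        have h1 : f x (x + z) = 0 := by rw [map_add, hzk, show f x x = 0 from hxk, add_zero]
        have h2 := N.null_of_ker hx0 hx h1
        rw [Qf_add, hx, hzq] at h2
        simpa only [_root_.add_zero, _root_.zero_add] using h2
      obtain ⟨kz, -, hkz⟩ := N.null_cross hz0 hzq
      have e1 : kx = kz := N.kap_orth hx0 hx hzq hxz hzx hkx hkz
      have e2 : ky = kz := by
        refine N.kap_orth hy0 hy hzq hyz ?_ hky hkz
        intro c hc
        rw [← hc, map_smul, smul_eq_mul] at hxz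
        rcases mul_eq_zero.1 hxz with h | h
        · exact hz0 (by rw [← hc, h, zero_smul])
        · exact hxy h
      rw [e1, e2]
  · push Not at hli
    obtain ⟨c, rfl⟩ := hli
    obtain ⟨z, hz⟩ := N.exists_bb_one hx0
    have hc0 : c ≠ 0 := by rintro rfl; exact hy0 (zero_smul _ _)
    have h1 := hky z
    simp only [map_smul, LinearMap.smul_apply, hkx z, hz, smul_eq_mul, smul_smul] at h1
    have h2 : (c ^ 2 * (kx - ky)) • x = 0 := by
      linear_combination (norm := module) h1
    have h3 := (smul_eq_zero.1 h2).resolve_right hx0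
    exact sub_eq_zero.1 ((mul_eq_zero.1 h3).resolve_left (pow_ne_zero 2 hc0))

/-- the common constant of the null vectors -/
theorem exists_kappa (N : Nice e f) (h : ∃ u, u ≠ 0 ∧ Qf e f u = 0) :
    ∃ k : F, k ≠ 0 ∧ ∀ x, Qf e f x = 0 → ∀ y, N.cr x (N.cr x y) = (k * bb e f x y) • x := by
  obtain ⟨u, hu0, hu⟩ := h
  obtain ⟨k, hk, hku⟩ := N.null_cross hu0 hu
  refine ⟨k, hk, fun x hx y => ?_⟩
  by_cases hx0 : x = 0
  · subst hx0; simp
  · obtain ⟨k', -, hk'⟩ := N.null_cross hx0 hx
    rw [N.kap_const hu0 hu hx0 hx hku hk']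
    exact hk' y

/-- the defect of the linearised composition identity -/
noncomputable def Psi (N : Nice e f) (k : F) (u v y : V) : V :=
  N.cr u (N.cr v y) + N.cr v (N.cr u y) -
    k • (bb e f u y • v + bb e f v y • u - (2 * bb e f u v) • y)

variable (N : Nice e f) (k : F)

theorem Psi_add (u v v' y : V) : N.Psi k u (v + v') y = N.Psi k u v y + N.Psi k u v' y := by
  simp only [Psi, map_add, LinearMap.add_apply]
  module

theorem Psi_smul (c : F) (u v y : V) : N.Psi k u (c • v) y = c • N.Psi k u v y := by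
  simp only [Psi, map_smul, LinearMap.smul_apply, smul_eq_mul]
  module

theorem Psi_comm (u v y : V) : N.Psi k u v y = N.Psi k v u y := by
  simp only [Psi, bb_comm v u]
  module

theorem Psi_add' (u v y y' : V) : N.Psi k u v (y + y') = N.Psi k u v y + N.Psi k u v y' := by
  simp only [Psi, map_add]
  module

theorem Psi_smul' (c : F) (u v y : V) : N.Psi k u v (c • y) = c • N.Psi k u v y := by
  simp only [Psi, map_smul, smul_eq_mul]
  module

theorem Psi_addl (u u' v y : V) : N.Psi k (u + u') v y = N.Psi k u v y + N.Psi k u' v y := by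
  simp only [Psi, map_add, LinearMap.add_apply]
  module

theorem Psi_smull (c : F) (u v y : V) : N.Psi k (c • u) v y = c • N.Psi k u v y := by
  simp only [Psi, map_smul, LinearMap.smul_apply, smul_eq_mul]
  module

theorem Psi_self (x : V) : N.Psi k x x x = 0 := by
  simp only [Psi, N.cr_self, map_zero, add_zero]
  module

variable {k}
variable (hk : ∀ x, Qf e f x = 0 → ∀ y, N.cr x (N.cr x y) = (k * bb e f x y) • x)
include hk

theorem Psi_null {x : V} (hx : Qf e f x = 0) (y : V) : N.Psi k x x y = 0 := by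
  simp only [Psi, hk x hx y, (N.null_iff x).2 hx]
  module

omit hk in
theorem smul_two (N : Nice e f) {v : V} (h : (2 : F) • v = 0) : v = 0 :=
  (smul_eq_zero.1 h).resolve_left N.two

theorem Psi_orth {u v : V} (hu : Qf e f u = 0) (hv : Qf e f v = 0) (huv : bb e f u v = 0)
    (y : V) : N.Psi k u v y = 0 := by
  have h1 : Qf e f (u + v) = 0 := by rw [Qf_add, hu, hv, huv]; simp
  have h2 := N.Psi_null hk h1 y
  rw [Psi_add, Psi_comm, N.Psi_comm k (u + v) v, Psi_add, Psi_add, N.Psi_null hk hu,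
    N.Psi_null hk hv, N.Psi_comm k v u] at h2
  apply N.smul_two
  rw [← h2]; module

/-- `Psi u w` vanishes for a null vector `u` and a vector `w` orthogonal to `u` -/
theorem Psi_perp {u w : V} (hu0 : u ≠ 0) (hu : Qf e f u = 0) (huw : bb e f u w = 0) (y : V) :
    N.Psi k u w y = 0 := by
  have : FiniteDimensional F V := e.finiteDimensional_of_finite
  by_cases hw : Qf e f w = 0
  · exact N.Psi_orth hk hu hw huw y
  have hwu : bb e f w u = 0 := by rw [bb_comm, huw]
  have huk : u ∈ LinearMap.ker (f u) := by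
    rw [LinearMap.mem_ker]; ext v; exact N.alt.self u v
  -- a vector `r` in the radical of `u`, orthogonal to `w`
  obtain ⟨r, hrk, hwr, hru⟩ : ∃ r, f u r = 0 ∧ bb e f w r = 0 ∧ ∀ c : F, c • u ≠ r := by
    obtain ⟨v, hv, hv0, hvk⟩ := exists_in huk hu0 2 (by rw [N.ker_eq hu0 hu])
    have hv01 : ∀ c : F, c • u ≠ v 1 := by
      intro c hc
      have := hv.comp ![(0 : Fin 3), 1] (by decide)
      have h3 : v ∘ ![(0 : Fin 3), 1] = ![u, v 1] := by
        funext i; fin_cases i; exacts [hv0, rfl]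
      rw [h3, LinearIndependent.pair_iff' hu0] at this
      exact this c hc
    by_cases h1 : bb e f w (v 1) = 0
    · exact ⟨v 1, hvk 1, h1, hv01⟩
    · refine ⟨v 2 - (bb e f w (v 2) / bb e f w (v 1)) • v 1, ?_, ?_, ?_⟩
      · rw [map_sub, map_smul, show f u (v 2) = 0 from hvk 2, show f u (v 1) = 0 from hvk 1]; simp
      · rw [map_sub, map_smul, smul_eq_mul]; field_simp; ring
      · intro c hc
        have h2 : ∑ i, (![c, bb e f w (v 2) / bb e f w (v 1), -1] : Fin 3 → F) i • v i = 0 := by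
          rw [Fin.sum_univ_three]
          simp only [Matrix.cons_val]
          rw [hv0, hc]; module
        have := (Fintype.linearIndependent_iff.1 hv) _ h2 2
        simp at this
  have hrq : Qf e f r = 0 := N.null_of_ker hu0 hu hrk
  have hur : bb e f u r = 0 := by
    have h1 : f u (u + r) = 0 := by rw [map_add, hrk, show f u u = 0 from huk, add_zero]
    have h2 := N.null_of_ker hu0 hu h1
    rw [Qf_add, hu, hrq] at h2
    simpa only [_root_.add_zero, _root_.zero_add] using h2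
  -- a vector `y0` orthogonal to `u` and `w` but not to `r`
  obtain ⟨y0, hy1, hy2, hy3⟩ : ∃ y0, bb e f u y0 = 0 ∧ bb e f w y0 = 0 ∧ bb e f r y0 = 1 := by
    obtain ⟨y0, hy1, hy2, hy3⟩ : ∃ y0, bb e f u y0 = 0 ∧ bb e f w y0 = 0 ∧ bb e f r y0 ≠ 0 := by
      by_contra h
      push Not at h
      have h1 : r ∈ LinearMap.BilinForm.orthogonal (bb e f)
          (LinearMap.BilinForm.orthogonal (bb e f) (Submodule.span F {u, w})) := by
        intro v hv
        change bb e f v r = 0
        rw [bb_comm]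
        refine h v ?_ ?_
        · exact hv u (Submodule.subset_span (by simp))
        · exact hv w (Submodule.subset_span (by simp))
      rw [LinearMap.BilinForm.orthogonal_orthogonal N.nondeg (isRefl e f),
        Submodule.mem_span_pair] at h1
      obtain ⟨a, b, hab⟩ := h1
      rw [← hab, map_add, map_smul, map_smul, hwu, bb_self, smul_zero, zero_add, smul_eq_mul] at hwr
      have hb : b = 0 := by
        rcases mul_eq_zero.1 hwr with h | h
        · exact h
        · exact absurd h (mul_ne_zero N.two hw)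
      exact hru a (by rw [← hab, hb, zero_smul, add_zero])
    refine ⟨(bb e f r y0)⁻¹ • y0, by rw [map_smul, hy1, smul_zero],
      by rw [map_smul, hy2, smul_zero], by rw [map_smul, smul_eq_mul, inv_mul_cancel₀ hy3]⟩
  set rs := y0 - Qf e f y0 • r with hrs
  have hyr : bb e f y0 r = 1 := by rw [bb_comm, hy3]
  have hrs0 : Qf e f rs = 0 := by
    rw [← N.null_iff, hrs]
    simp only [map_sub, LinearMap.sub_apply, map_smul, LinearMap.smul_apply, smul_eq_mul,
      bb_self, hrq, hyr, hy3]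
    ring
  have hurs : bb e f u rs = 0 := by rw [hrs, map_sub, map_smul, hy1, hur]; simp
  have hwrs : bb e f w rs = 0 := by rw [hrs, map_sub, map_smul, hy2, hwr]; simp
  have hrrs : bb e f r rs = 1 := by
    rw [hrs, map_sub, map_smul, hy3, bb_self, hrq]; simp
  have ht0 : Qf e f (w + rs + (-Qf e f w) • r) = 0 := by
    rw [← N.null_iff]
    simp only [map_add, LinearMap.add_apply, map_smul, LinearMap.smul_apply, smul_eq_mul, hwrs,
      hwr, bb_comm rs w, bb_comm r w, bb_comm rs r, hrrs, bb_self, hrs0, hrq]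
    ring
  have hut : bb e f u (w + rs + (-Qf e f w) • r) = 0 := by
    simp only [map_add, map_smul, huw, hurs, hur]; simp
  have h1 := N.Psi_orth hk hu ht0 hut y
  rw [Psi_add, Psi_add, Psi_smul, N.Psi_orth hk hu hrs0 hurs y, N.Psi_orth hk hu hrq hur y] at h1
  simpa using h1

/-- `Psi u v` vanishes for a null vector `u` -/
theorem Psi_null_left {u : V} (hu0 : u ≠ 0) (hu : Qf e f u = 0) (x y : V) : N.Psi k u x y = 0 := by
  -- a null vector `v` with `b(u, v) = 1`
  obtain ⟨v0, hv0⟩ := N.exists_bb_one hu0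
  have hlin : ∀ v, bb e f u v = 1 → ∀ x y, N.Psi k u x y = bb e f u x • N.Psi k u v y := by
    intro v hv x y
    have h1 := N.Psi_perp hk hu0 hu (w := x + (-bb e f u x) • v) (by
      rw [map_add, map_smul, hv, smul_eq_mul]; ring) y
    rw [Psi_add, Psi_smul] at h1
    linear_combination (norm := module) h1
  have hE : ∀ v, Qf e f v = 0 → bb e f u v = 1 → N.Psi k u v u = 0 ∧ N.Psi k u v v = 0 := by
    intro v hv huv
    have h1 := N.Psi_self k (u + v)
    have h2 := N.Psi_self k (u + (-1 : F) • v)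
    simp only [Psi_add, Psi_add', Psi_addl, Psi_smul, Psi_smul', Psi_smull, N.Psi_null hk hu,
      N.Psi_null hk hv, N.Psi_comm k v u] at h1 h2
    constructor
    · apply N.smul_two; apply N.smul_two
      linear_combination (norm := module) h1 - h2
    · apply N.smul_two; apply N.smul_two
      linear_combination (norm := module) h1 + h2
  set v := v0 + (-Qf e f v0) • u with hv
  have hvq : Qf e f v = 0 := by
    rw [← N.null_iff, hv]
    simp only [map_add, LinearMap.add_apply, map_smul, LinearMap.smul_apply, smul_eq_mul, bb_self,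
      hu, bb_comm v0 u, hv0]
    ring
  have huv : bb e f u v = 1 := by
    rw [hv, map_add, map_smul, hv0, bb_self, hu]; simp
  obtain ⟨hEu, hEv⟩ := hE v hvq huv
  have hy1 : ∀ y, bb e f u y ≠ 0 → N.Psi k u v y = 0 := by
    intro y hy
    set t := y + (-(Qf e f y / bb e f u y)) • u with ht
    have htq : Qf e f t = 0 := by
      rw [← N.null_iff, ht]
      simp only [map_add, LinearMap.add_apply, map_smul, LinearMap.smul_apply, smul_eq_mul, bb_self,
        hu, bb_comm y u]
      field_simp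
      ring
    have hut : bb e f u t = bb e f u y := by
      rw [ht, map_add, map_smul, bb_self, hu]; simp
    have h1 := (hE ((bb e f u y)⁻¹ • t) (by rw [Qf_smul, htq, mul_zero])
      (by rw [map_smul, hut, smul_eq_mul, inv_mul_cancel₀ hy])).2
    rw [Psi_smul, Psi_smul', smul_smul, hlin v huv t] at h1
    have h2 : N.Psi k u v t = 0 := by
      rw [smul_smul] at h1
      refine (smul_eq_zero.1 h1).resolve_left (mul_ne_zero (mul_ne_zero ?_ ?_) ?_)
      · exact inv_ne_zero hy
      · exact inv_ne_zero hy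
      · rwa [hut]
    rw [ht, Psi_add', Psi_smul', hEu, smul_zero, add_zero] at h2
    exact h2
  have hy2 : ∀ y, N.Psi k u v y = 0 := by
    intro y
    by_cases hy : bb e f u y = 0
    · have h1 := hy1 (y + v) (by rw [map_add, hy, huv, zero_add]; exact one_ne_zero)
      rwa [Psi_add', hEv, add_zero] at h1
    · exact hy1 y hy
  rw [hlin v huv x y, hy2, smul_zero]

/-- **the linearised composition identity** -/
theorem Psi_zero (h : ∃ u, u ≠ 0 ∧ Qf e f u = 0) (x z y : V) : N.Psi k x z y = 0 := by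
  obtain ⟨u, hu0, hu⟩ := h
  have h0 : ∀ t, Qf e f t = 0 → N.Psi k t z y = 0 := by
    intro t ht
    by_cases ht0 : t = 0
    · subst ht0
      have := N.Psi_smul k (0 : F) z 0 y
      rw [Psi_comm, zero_smul, zero_smul] at this
      simpa using this
    · exact N.Psi_null_left hk ht0 ht z y
  have h1 : ∀ x, bb e f u x ≠ 0 → N.Psi k x z y = 0 := by
    intro x hx
    have e1 : x = (x + (-(Qf e f x / bb e f u x)) • u) + (Qf e f x / bb e f u x) • u := by module
    have htq : Qf e f (x + (-(Qf e f x / bb e f u x)) • u) = 0 := by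
      rw [← N.null_iff]
      simp only [map_add, LinearMap.add_apply, map_smul, LinearMap.smul_apply, smul_eq_mul, bb_self,
        hu, bb_comm x u]
      field_simp
      ring
    rw [e1, Psi_comm, Psi_add, Psi_smul, N.Psi_comm k z, N.Psi_comm k z, h0 _ htq, h0 _ hu]
    simp
  by_cases hx : bb e f u x = 0
  · obtain ⟨v, hv⟩ := N.exists_bb_one hu0
    have e1 := h1 (x + v) (by rw [map_add, hx, hv, zero_add]; exact one_ne_zero)
    have e2 := h1 v (by rw [hv]; exact one_ne_zero)
    rw [Psi_comm, Psi_add, N.Psi_comm k z v, e2, add_zero, Psi_comm] at e1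
    exact e1
  · exact h1 x hx

omit hk in
/-- the composition identity -/
theorem exists_comp (N : Nice e f) (h : ∃ u, u ≠ 0 ∧ Qf e f u = 0) :
    ∃ k : F, k ≠ 0 ∧ ∀ u v y, N.cr u (N.cr v y) + N.cr v (N.cr u y) =
      k • (bb e f u y • v + bb e f v y • u - (2 * bb e f u v) • y) := by
  obtain ⟨k, hk0, hk⟩ := N.exists_kappa h
  exact ⟨k, hk0, fun u v y => sub_eq_zero.1 (N.Psi_zero hk h u v y)⟩

end Nice

end Cfsg.Agent.H179.G2
end

-- part: H179/G2Norm
section
/-!
# The eigenspaces of the multiplication by a vector of suitable norm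
-/

namespace Cfsg.Agent.H179.G2

open QuadraticMap Module

variable {F V : Type*} [Field F] [AddCommGroup V] [Module F V]
variable {e : Basis (Fin 7) F V} {f : V →ₗ[F] V →ₗ[F] V →ₗ[F] F}

theorem exists_li (U : Submodule F V) [FiniteDimensional F U] {m : ℕ} (h : finrank F U = m) :
    ∃ E : Fin m → V, LinearIndependent F E ∧ ∀ i, E i ∈ U := by
  let b : Basis (Fin m) F U := Module.finBasisOfFinrankEq F U h
  exact ⟨fun i => U.subtype (b i), b.linearIndependent.map' _ U.ker_subtype, fun i => (b i).2⟩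

/-- a vector with prescribed products with linearly independent vectors -/
theorem Nice.exists_pre (N : Nice e f) {m : ℕ} (x : Fin m → V) (hx : LinearIndependent F x)
    (c : Fin m → F) : ∃ v : V, ∀ i, bb e f (x i) v = c i := by
  have : FiniteDimensional F V := e.finiteDimensional_of_finite
  let T : V →ₗ[F] (Fin m → F) := LinearMap.pi fun i => bb e f (x i)
  have hker : LinearMap.ker T =
      LinearMap.BilinForm.orthogonal (bb e f) (Submodule.span F (Set.range x)) := by
    ext v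
    constructor
    · intro hv y hy
      change bb e f y v = 0
      induction hy using Submodule.span_induction with
      | mem y hy => obtain ⟨i, rfl⟩ := hy; exact congrFun hv i
      | zero => simp
      | add y z _ _ h1 h2 => rw [map_add, LinearMap.add_apply, h1, h2, add_zero]
      | smul a y _ h1 => rw [map_smul, LinearMap.smul_apply, h1, smul_zero]
    · intro hv
      rw [LinearMap.mem_ker]
      funext i
      exact hv (x i) (Submodule.subset_span ⟨i, rfl⟩)
  have h1 := LinearMap.finrank_range_add_finrank_ker T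
  have h2 := Submodule.finrank_le (Submodule.span F (Set.range x))
  rw [hker, LinearMap.BilinForm.finrank_orthogonal N.nondeg] at h1
  rw [finrank_span_eq_card hx, Fintype.card_fin] at h1 h2
  have hT : LinearMap.range T = ⊤ := by
    apply Submodule.eq_top_of_finrank_eq
    rw [Module.finrank_fin_fun]
    omega
  obtain ⟨v, hv⟩ := LinearMap.range_eq_top.1 hT c
  exact ⟨v, fun i => congrFun hv i⟩

/-- the composition identity together with a vector `n` with `k * b(n, n) = -1` -/
structure Comp (N : Nice e f) (k : F) (n : V) : Prop where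
  k0 : k ≠ 0
  id : ∀ u v y, N.cr u (N.cr v y) + N.cr v (N.cr u y) =
      k • (bb e f u y • v + bb e f v y • u - (2 * bb e f u v) • y)
  hn : k * bb e f n n = -1

theorem Nice.exists_Comp (N : Nice e f) (h : ∃ u, u ≠ 0 ∧ Qf e f u = 0) :
    ∃ k n, Comp N k n := by
  obtain ⟨k, hk, hid⟩ := N.exists_comp h
  obtain ⟨u, hu0, hu⟩ := h
  obtain ⟨v, hv⟩ := N.exists_bb_one hu0
  refine ⟨k, v + (-(1 / (2 * k)) - Qf e f v) • u, hk, hid, ?_⟩
  have h2 := N.two
  simp only [map_add, LinearMap.add_apply, map_smul, LinearMap.smul_apply, smul_eq_mul, bb_self,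
    hu, bb_comm v u, hv]
  field_simp
  ring

namespace Comp

variable {N : Nice e f} {k : F} {n : V} (C : Comp N k n)

include C

theorem nn : bb e f n n ≠ 0 := by
  intro h; have := C.hn; rw [h, mul_zero] at this
  exact one_ne_zero (α := F) (by linear_combination this)

theorem sq (y : V) : N.cr n (N.cr n y) = y + (k * bb e f n y) • n := by
  have h := C.id n n y
  have h1 : (2 : F) • (N.cr n (N.cr n y)) = (2 : F) • (y + (k * bb e f n y) • n) := by
    have e1 : (2 : F) • (N.cr n (N.cr n y)) = N.cr n (N.cr n y) + N.cr n (N.cr n y) := by module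
    rw [e1, h]
    have e2 : k • (2 * bb e f n n) • y = (-2 : F) • y := by
      rw [smul_smul]; congr 1; linear_combination 2 * C.hn
    rw [smul_sub, e2]; module
  exact smul_right_injective V N.two h1

/-- the eigenspace for `1` -/
noncomputable def Up (_ : Comp N k n) : Submodule F V := LinearMap.ker (N.cr n - LinearMap.id)

/-- the eigenspace for `-1` -/
noncomputable def Um (_ : Comp N k n) : Submodule F V := LinearMap.ker (N.cr n + LinearMap.id)

omit C in
theorem mem_Up (C : Comp N k n) {x : V} : x ∈ C.Up ↔ N.cr n x = x := by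
  rw [Up, LinearMap.mem_ker, LinearMap.sub_apply, LinearMap.id_apply, sub_eq_zero]

omit C in
theorem mem_Um (C : Comp N k n) {x : V} : x ∈ C.Um ↔ N.cr n x = -x := by
  rw [Um, LinearMap.mem_ker, LinearMap.add_apply, LinearMap.id_apply, add_eq_zero_iff_eq_neg]

omit C in
theorem bb_n_cr (N : Nice e f) (n x : V) : bb e f n (N.cr n x) = 0 := by
  rw [N.bb_cr_right, N.alt.z13]

theorem n_Up {x : V} (hx : x ∈ C.Up) : bb e f n x = 0 := by
  rw [← C.mem_Up.1 hx, bb_n_cr]

theorem n_Um {x : V} (hx : x ∈ C.Um) : bb e f n x = 0 := by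
  have := bb_n_cr N n x
  rw [C.mem_Um.1 hx, map_neg, neg_eq_zero] at this
  exact this

theorem Up_Up {x y : V} (hx : x ∈ C.Up) (hy : y ∈ C.Up) : bb e f x y = 0 := by
  have h := N.bb_cr_skew n x (N.cr n y)
  rw [C.sq, C.n_Up hy, mul_zero, zero_smul, add_zero, C.mem_Up.1 hx, C.mem_Up.1 hy] at h
  have : 2 * bb e f x y = 0 := by linear_combination h
  exact (mul_eq_zero.1 this).resolve_left N.two

theorem Um_Um {x y : V} (hx : x ∈ C.Um) (hy : y ∈ C.Um) : bb e f x y = 0 := by
  have h := N.bb_cr_skew n x (N.cr n y)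
  rw [C.sq, C.n_Um hy, mul_zero, zero_smul, add_zero, C.mem_Um.1 hx, C.mem_Um.1 hy] at h
  simp only [map_neg, LinearMap.neg_apply, neg_neg] at h
  have : 2 * bb e f x y = 0 := by linear_combination h
  exact (mul_eq_zero.1 this).resolve_left N.two

/-- every vector is a sum of three components -/
theorem decomp (y : V) : ∃ a ∈ C.Up, ∃ b ∈ C.Um, ∃ c : F, y = a + b + c • n := by
  set z := y + (k * bb e f n y) • n with hz
  have hzn : bb e f n z = 0 := by
    rw [hz, map_add, map_smul, smul_eq_mul]; linear_combination bb e f n y * C.hn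
  have hsq : N.cr n (N.cr n z) = z := by rw [C.sq, hzn]; simp
  refine ⟨(2 : F)⁻¹ • (z + N.cr n z), ?_, (2 : F)⁻¹ • (z - N.cr n z), ?_, -(k * bb e f n y), ?_⟩
  · rw [C.mem_Up, map_smul, map_add, hsq, add_comm]
  · rw [C.mem_Um, map_smul, map_sub, hsq]; module
  · have h2 := N.two
    have : (2 : F)⁻¹ • (z + N.cr n z) + (2 : F)⁻¹ • (z - N.cr n z) = z := by
      have e1 : (2 : F)⁻¹ • (z + N.cr n z) + (2 : F)⁻¹ • (z - N.cr n z) =
        ((2 : F)⁻¹ * 2) • z := by module
      rw [e1, inv_mul_cancel₀ h2, one_smul]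
    rw [this, hz]; module

omit C in
theorem finrank_sing (N : Nice e f) (U : Submodule F V) (h : ∀ x ∈ U, ∀ y ∈ U, bb e f x y = 0) :
    finrank F U ≤ 3 := by
  have : FiniteDimensional F V := e.finiteDimensional_of_finite
  have h1 : U ≤ LinearMap.BilinForm.orthogonal (bb e f) U := fun x hx y hy => h y hy x hx
  have h2 := Submodule.finrank_mono h1
  rw [LinearMap.BilinForm.finrank_orthogonal N.nondeg, Nice.finrank_eq e] at h2
  omega

theorem finrank_Up : finrank F C.Up = 3 := by
  have : FiniteDimensional F V := e.finiteDimensional_of_finite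
  have h1 := finrank_sing N C.Up fun x hx y hy => C.Up_Up hx hy
  have h2 := finrank_sing N C.Um fun x hx y hy => C.Um_Um hx hy
  have h3 : C.Up ⊔ C.Um ⊔ F ∙ n = ⊤ := by
    rw [eq_top_iff]
    intro y _
    obtain ⟨a, ha, b, hb, c, rfl⟩ := C.decomp y
    exact Submodule.add_mem_sup (Submodule.add_mem_sup ha hb)
      (Submodule.smul_mem _ _ (Submodule.mem_span_singleton_self n))
  have h4 := Submodule.finrank_add_le_finrank_add_finrank (C.Up ⊔ C.Um) (F ∙ n)
  have h5 := Submodule.finrank_add_le_finrank_add_finrank C.Up C.Um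
  have h6 := finrank_span_le_card (R := F) ({n} : Set V)
  rw [h3, finrank_top, Nice.finrank_eq e] at h4
  simp only [Set.toFinset_singleton, Finset.card_singleton] at h6
  omega

/-- products of vectors from different eigenspaces -/
theorem cr_Up_Um {x y : V} (hx : x ∈ C.Up) (hy : y ∈ C.Um) :
    N.cr x y = (-(k * bb e f x y)) • n := by
  set u := N.cr x y with hu
  have e1 : N.cr n u = u + (k * bb e f x y) • n := by
    have h := C.id n x y
    rw [C.n_Um hy, C.n_Up hx, C.mem_Um.1 hy, map_neg, ← hu] at h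
    linear_combination (norm := module) h
  have e2 : N.cr n u = -u + (-(k * bb e f x y)) • n := by
    have h := C.id n y x
    rw [C.n_Up hx, C.n_Um hy, C.mem_Up.1 hx, N.cr_anti y x, map_neg, ← hu, bb_comm y x] at h
    linear_combination (norm := module) -h
  have e3 : (2 : F) • u = (2 : F) • ((-(k * bb e f x y)) • n) := by
    linear_combination (norm := module) e2 - e1
  exact smul_right_injective V N.two e3

theorem cr_Up_Up {x y : V} (hx : x ∈ C.Up) (hy : y ∈ C.Up) : N.cr x y ∈ C.Um := by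
  rw [C.mem_Um]
  have h := C.id n x y
  rw [C.n_Up hy, C.n_Up hx, C.mem_Up.1 hy, C.Up_Up hx hy] at h
  linear_combination (norm := module) h

theorem cr_cr {w x y : V} (hw : w ∈ C.Um) (hx : x ∈ C.Up) (hy : y ∈ C.Up) :
    N.cr w (N.cr x y) = (2 * k) • (bb e f w y • x - bb e f w x • y) := by
  have h := C.id w x y
  have h1 : N.cr w y = (k * bb e f w y) • n := by
    rw [N.cr_anti, C.cr_Up_Um hy hw, bb_comm y w]; module
  have h2 : N.cr x n = -x := by rw [N.cr_anti, C.mem_Up.1 hx]
  rw [h1, map_smul, h2, C.Up_Up hx hy] at h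
  linear_combination (norm := module) h

/-- a hyperbolic system adapted to the eigenspaces -/
theorem exists_sys : ∃ E G : Fin 3 → V, (∀ i, E i ∈ C.Up) ∧ (∀ i, G i ∈ C.Um) ∧
    ∀ i j, bb e f (E i) (G j) = if i = j then 1 else 0 := by
  have : FiniteDimensional F V := e.finiteDimensional_of_finite
  obtain ⟨E, hli, hE⟩ := exists_li C.Up C.finrank_Up
  have hpre : ∀ j : Fin 3, ∃ v : V, ∀ i, bb e f (E i) v = (fun i => if i = j then (1 : F) else 0) i :=
    fun j => N.exists_pre E hli _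
  choose v hv using hpre
  choose a ha c hc t ht using fun j => C.decomp (v j)
  refine ⟨E, c, hE, hc, fun i j => ?_⟩
  have h1 := hv j i
  rw [ht j, map_add, map_add, map_smul, C.Up_Up (hE i) (ha j), bb_comm _ n, C.n_Up (hE i)] at h1
  simpa using h1

end Comp

end Cfsg.Agent.H179.G2
end

-- part: H179/G2Form
section
/-!
# Normal form of a non-degenerate alternating 3-form in dimension 7
-/

namespace Cfsg.Agent.H179.G2

open QuadraticMap Module

variable {F V : Type*} [Field F] [AddCommGroup V] [Module F V]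
variable {e : Basis (Fin 7) F V} {f : V →ₗ[F] V →ₗ[F] V →ₗ[F] F}

theorem F0_self12 (x z : Fin 7 → F) : F0 x x z = 0 := by simp only [F0, d3]; ring
theorem F0_self23 (x z : Fin 7 → F) : F0 x z z = 0 := by simp only [F0, d3]; ring
theorem F0_swap12 (x y z : Fin 7 → F) : F0 x y z = - F0 y x z := by simp only [F0, d3]; ring
theorem F0_swap23 (x y z : Fin 7 → F) : F0 x y z = - F0 x z y := by simp only [F0, d3]; ring

/-- the standard 3-form as a trilinear map -/
def F0L (F : Type*) [Field F] : (Fin 7 → F) →ₗ[F] (Fin 7 → F) →ₗ[F] (Fin 7 → F) →ₗ[F] F where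
  toFun x := LinearMap.mk₂ F (fun y z => F0 x y z)
    (fun y y' z => by simp only [F0, d3, Pi.add_apply]; ring)
    (fun c y z => by simp only [F0, d3, Pi.smul_apply, smul_eq_mul]; ring)
    (fun y z z' => by simp only [F0, d3, Pi.add_apply]; ring)
    (fun c y z => by simp only [F0, d3, Pi.smul_apply, smul_eq_mul]; ring)
  map_add' x x' := by
    ext y z
    simp only [LinearMap.mk₂_apply, LinearMap.add_apply, LinearMap.comp_apply, F0, d3, Pi.add_apply]
    ring
  map_smul' c x := by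
    ext y z
    simp only [LinearMap.mk₂_apply, LinearMap.smul_apply, LinearMap.comp_apply, F0, d3,
      Pi.smul_apply, smul_eq_mul, RingHom.id_apply]
    ring

@[simp] theorem F0L_apply (x y z : Fin 7 → F) : F0L F x y z = F0 x y z := rfl

theorem tri_sum (B : Basis (Fin 7) F V) (T : V →ₗ[F] V →ₗ[F] V →ₗ[F] F) (x y z : V) :
    T x y z = ∑ i, ∑ j, ∑ k, B.repr x i * B.repr y j * B.repr z k * T (B i) (B j) (B k) := by
  have h3 : ∀ g : V →ₗ[F] F, g z = ∑ k, B.repr z k * g (B k) := by
    intro g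
    conv_lhs => rw [← B.sum_repr z]
    simp only [map_sum, map_smul, smul_eq_mul]
  have h2 : ∀ g : V →ₗ[F] V →ₗ[F] F, g y z = ∑ j, B.repr y j * g (B j) z := by
    intro g
    conv_lhs => rw [← B.sum_repr y]
    simp only [map_sum, map_smul, LinearMap.sum_apply, LinearMap.smul_apply, smul_eq_mul]
  have h1 : T x y z = ∑ i, B.repr x i * T (B i) y z := by
    conv_lhs => rw [← B.sum_repr x]
    simp only [map_sum, map_smul, LinearMap.sum_apply, LinearMap.smul_apply, smul_eq_mul]
  rw [h1]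
  refine Finset.sum_congr rfl fun i _ => ?_
  rw [h2 (T (B i)), Finset.mul_sum]
  refine Finset.sum_congr rfl fun j _ => ?_
  rw [h3 (T (B i) (B j)), Finset.mul_sum, Finset.mul_sum]
  refine Finset.sum_congr rfl fun k _ => ?_
  ring

/-- two alternating functions which agree on increasing triples are equal -/
theorem IsAlt.ext_lt {R : Type*} [CommRing R] {φ ψ : Fin 7 → Fin 7 → Fin 7 → R} (h1 : IsAlt φ)
    (h2 : IsAlt ψ) (h : ∀ i j k, i < j → j < k → φ i j k = ψ i j k) (i j k : Fin 7) :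
    φ i j k = ψ i j k := by
  rcases eq_or_ne i j with rfl | hij
  · rw [h1.self, h2.self]
  rcases eq_or_ne j k with rfl | hjk
  · rw [h1.z23, h2.z23]
  rcases eq_or_ne i k with rfl | hik
  · rw [h1.z13, h2.z13]
  rcases lt_or_gt_of_ne hij with a | a <;> rcases lt_or_gt_of_ne hjk with b | b <;>
    rcases lt_or_gt_of_ne hik with c | c
  · exact h _ _ _ a b
  · exact absurd (a.trans b) (lt_asymm c)
  · rw [h1.swap23, h2.swap23, h _ _ _ c b]
  · rw [h1.rot, h1.rot, h2.rot, h2.rot, h _ _ _ c a]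
  · rw [h1.swap12, h2.swap12, h _ _ _ a c]
  · rw [h1.rot, h2.rot, h _ _ _ b c]
  · exact absurd (b.trans a) (lt_asymm c)
  · rw [h1.swap12 i j k, h2.swap12 i j k, h1.rot j i k, h2.rot j i k, h1.rot i k j, h2.rot i k j,
      h _ _ _ b a]

/-- the coordinates of the standard 3-form -/
def psi (F : Type*) [Field F] (i j k : Fin 7) : F :=
  F0 (Pi.single i 1) (Pi.single j 1) (Pi.single k 1)

theorem psi_isAlt : IsAlt (psi F) :=
  ⟨fun _ _ => F0_self12 _ _, fun _ _ => F0_self23 _ _, fun _ _ _ => F0_swap12 _ _ _,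
    fun _ _ _ => F0_swap23 _ _ _⟩

theorem IsAlt.smul {φ : Fin 7 → Fin 7 → Fin 7 → F} (h : IsAlt φ) (c : F) :
    IsAlt (fun i j k => c * φ i j k) :=
  ⟨fun i j => by simp only [h.self, mul_zero], fun i j => by simp only [h.z23, mul_zero],
    fun i j k => by rw [h.swap12, mul_neg], fun i j k => by rw [h.swap23, mul_neg]⟩

/-- a form with the coordinates of the standard form is the standard form -/
theorem eq_F0 (h : IsAltForm f) (B : Basis (Fin 7) F V) (l : F)
    (h0 : ∀ i j k, i < j → j < k → f (B i) (B j) (B k) = l * psi F i j k) (x y z : V) :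
    f x y z = l * F0 (B.repr x) (B.repr y) (B.repr z) := by
  have h1 := (coord_isAlt B h).ext_lt ((psi_isAlt (F := F)).smul l) h0
  rw [tri_sum B f, ← F0L_apply, tri_sum (Pi.basisFun F (Fin 7)) (F0L F)]
  simp only [Finset.mul_sum]
  refine Finset.sum_congr rfl fun i _ => Finset.sum_congr rfl fun j _ =>
    Finset.sum_congr rfl fun k _ => ?_
  have h2 : f (B i) (B j) (B k) = l * psi F i j k := h1 i j k
  rw [h2, psi]
  simp only [Pi.basisFun_repr, Pi.basisFun_apply, F0L_apply]
  ring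

/-- seven vectors forming a hyperbolic system are linearly independent -/
theorem li_seven (b : V →ₗ[F] V →ₗ[F] F) (n : V) (E G : Fin 3 → V) {r : F} (hr : r ≠ 0)
    (hn : b n n ≠ 0) (nE : ∀ i, b (E i) n = 0) (nG : ∀ i, b (G i) n = 0) (En : ∀ i, b n (E i) = 0)
    (Gn : ∀ i, b n (G i) = 0) (EE : ∀ i j, b (E i) (E j) = 0) (GG : ∀ i j, b (G i) (G j) = 0)
    (EG : ∀ i j, b (E i) (G j) = if i = j then r else 0)
    (GE : ∀ i j, b (G i) (E j) = if i = j then r else 0) :
    LinearIndependent F ![n, E 0, E 1, E 2, G 0, G 1, G 2] := by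
  rw [Fintype.linearIndependent_iff]
  intro c hc
  simp only [Fin.sum_univ_succ, Fin.sum_univ_zero, Matrix.cons_val_zero, Matrix.cons_val_succ,
    add_zero] at hc
  have key : ∀ v, c 0 * b n v + (c 1 * b (E 0) v + (c 2 * b (E 1) v + (c 3 * b (E 2) v +
      (c 4 * b (G 0) v + (c 5 * b (G 1) v + c 6 * b (G 2) v))))) = 0 := by
    intro v
    have := congrArg (fun w => b w v) hc
    simp only [map_add, map_smul, LinearMap.add_apply, LinearMap.smul_apply, smul_eq_mul, map_zero,
      LinearMap.zero_apply] at this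
    exact this
  have k0 := key n
  have k1 := key (G 0)
  have k2 := key (G 1)
  have k3 := key (G 2)
  have k4 := key (E 0)
  have k5 := key (E 1)
  have k6 := key (E 2)
  simp only [nE, nG, En, Gn, EE, GG, EG, GE] at k0 k1 k2 k3 k4 k5 k6
  have h01 : ((0 : Fin 3) = 1) = False := by simp
  have h02 : ((0 : Fin 3) = 2) = False := by simp
  have h10 : ((1 : Fin 3) = 0) = False := by simp
  have h12 : ((1 : Fin 3) = 2) = False := by simp
  have h20 : ((2 : Fin 3) = 0) = False := by simp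
  have h21 : ((2 : Fin 3) = 1) = False := by simp
  simp only [h01, h02, h10, h12, h20, h21, if_true, if_false, mul_zero, zero_add, add_zero,
    mul_eq_zero, hr, hn, or_false] at k0 k1 k2 k3 k4 k5 k6
  intro i
  fin_cases i
  exacts [k0, k1, k2, k3, k4, k5, k6]

/-- the values of `f` on a hyperbolic system adapted to the eigenspaces -/
structure Vals (f : V →ₗ[F] V →ₗ[F] V →ₗ[F] F) (n : V) (E G : Fin 3 → V) (a b c : F) : Prop where
  nEE : ∀ i j, f n (E i) (E j) = 0
  nEG : ∀ i j, f n (E i) (G j) = if i = j then a else 0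
  nGG : ∀ i j, f n (G i) (G j) = 0
  EEG : ∀ i j l, f (E i) (E j) (G l) = 0
  EGG : ∀ i j l, f (E i) (G j) (G l) = 0
  EEE : f (E 0) (E 1) (E 2) = b
  GGG : f (G 0) (G 1) (G 2) = c

/-- a form with the right values on a basis is the standard form -/
theorem Vals.eq_F0 (h : IsAltForm f) {n : V} {E G : Fin 3 → V} {a : F}
    (hv : Vals f n E G a a (-a)) (B : Basis (Fin 7) F V)
    (hB : (B : Fin 7 → V) = ![n, E 0, E 1, E 2, G 0, G 1, G 2]) (x y z : V) :
    f x y z = a * F0 (B.repr x) (B.repr y) (B.repr z) := by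
  refine G2.eq_F0 h B a ?_ x y z
  have h01 : ((0 : Fin 3) = 1) = False := by simp
  have h02 : ((0 : Fin 3) = 2) = False := by simp
  have h10 : ((1 : Fin 3) = 0) = False := by simp
  have h12 : ((1 : Fin 3) = 2) = False := by simp
  have h20 : ((2 : Fin 3) = 0) = False := by simp
  have h21 : ((2 : Fin 3) = 1) = False := by simp
  have b0 : B 0 = n := by rw [hB]; rfl
  have b1 : B 1 = E 0 := by rw [hB]; rfl
  have b2 : B 2 = E 1 := by rw [hB]; rfl
  have b3 : B 3 = E 2 := by rw [hB]; rfl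
  have b4 : B 4 = G 0 := by rw [hB]; rfl
  have b5 : B 5 = G 1 := by rw [hB]; rfl
  have b6 : B 6 = G 2 := by rw [hB]; rfl
  intro i j k hij hjk
  fin_cases i <;> fin_cases j <;> (first | exact absurd hij (by decide) | skip) <;> fin_cases k <;>
    first
    | exact absurd hjk (by decide)
    | (simp [b0, b1, b2, b3, b4, b5, b6, hv.nEE, hv.nEG, hv.nGG, hv.EEG, hv.EGG, hv.EEE, hv.GGG,
        psi, F0, d3, h01, h02, h10, h12, h20, h21])

end Cfsg.Agent.H179.G2
end

-- part: H179/G2Can
section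
/-!
# Every non-degenerate alternating 3-form in dimension 7 is a multiple of the standard form
-/

namespace Cfsg.Agent.H179.G2

open QuadraticMap Module

variable {F V : Type*} [Field F] [AddCommGroup V] [Module F V]
variable {e : Basis (Fin 7) F V} {f : V →ₗ[F] V →ₗ[F] V →ₗ[F] F}

namespace Comp

variable {N : Nice e f} {k : F} {n : V} (C : Comp N k n)

include C

theorem exists_vals : ∃ (E G : Fin 3 → V) (d : F), (∀ i, E i ∈ C.Up) ∧ (∀ i, G i ∈ C.Um) ∧
    (∀ i j, bb e f (E i) (G j) = if i = j then 1 else 0) ∧ d ≠ 0 ∧ Vals f n E G 1 d (2 * k / d) := by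
  obtain ⟨E, G, hE, hG, hEG⟩ := C.exists_sys
  have v1 : ∀ i j, f n (E i) (E j) = 0 := fun i j => by
    rw [← N.bb_cr, C.mem_Up.1 (hE i), C.Up_Up (hE i) (hE j)]
  have v2 : ∀ i j, f n (E i) (G j) = if i = j then 1 else 0 := fun i j => by
    rw [← N.bb_cr, C.mem_Up.1 (hE i), hEG]
  have v3 : ∀ i j, f n (G i) (G j) = 0 := fun i j => by
    rw [← N.bb_cr, C.mem_Um.1 (hG i), map_neg, LinearMap.neg_apply, C.Um_Um (hG i) (hG j), neg_zero]
  have v4 : ∀ i j l, f (E i) (E j) (G l) = 0 := fun i j l => by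
    rw [← N.bb_cr, C.Um_Um (C.cr_Up_Up (hE i) (hE j)) (hG l)]
  have v5 : ∀ i j l, f (E i) (G j) (G l) = 0 := fun i j l => by
    rw [← N.bb_cr, C.cr_Up_Um (hE i) (hG j), map_smul, LinearMap.smul_apply, C.n_Um (hG l), smul_zero]
  have hli := li_seven (bb e f) n E G (r := 1) one_ne_zero C.nn
    (fun i => by rw [bb_comm, C.n_Up (hE i)]) (fun i => by rw [bb_comm, C.n_Um (hG i)])
    (fun i => C.n_Up (hE i)) (fun i => C.n_Um (hG i)) (fun i j => C.Up_Up (hE i) (hE j))
    (fun i j => C.Um_Um (hG i) (hG j)) hEG (fun i j => by rw [bb_comm, hEG]; simp only [eq_comm])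
  have : FiniteDimensional F V := e.finiteDimensional_of_finite
  have hspan := hli.span_eq_top_of_card_eq_finrank (by rw [Nice.finrank_eq e, Fintype.card_fin])
  set d := f (E 0) (E 1) (E 2) with hd
  have hcr : N.cr (E 0) (E 1) = d • G 2 := by
    apply N.ext
    intro z
    have hz : z ∈ Submodule.span F (Set.range ![n, E 0, E 1, E 2, G 0, G 1, G 2]) := by
      rw [hspan]; trivial
    induction hz using Submodule.span_induction with
    | mem z hz =>
      obtain ⟨i, rfl⟩ := hz
      rw [N.bb_cr, map_smul, LinearMap.smul_apply, smul_eq_mul]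
      fin_cases i
      · change f (E 0) (E 1) n = d * bb e f (G 2) n
        rw [N.alt.rot, N.alt.rot, v1, bb_comm, C.n_Um (hG 2), mul_zero]
      · change f (E 0) (E 1) (E 0) = d * bb e f (G 2) (E 0)
        rw [N.alt.z13, bb_comm, hEG]; simp
      · change f (E 0) (E 1) (E 1) = d * bb e f (G 2) (E 1)
        rw [N.alt.z23, bb_comm, hEG]; simp
      · change f (E 0) (E 1) (E 2) = d * bb e f (G 2) (E 2)
        rw [bb_comm, hEG]; simp [hd]
      · change f (E 0) (E 1) (G 0) = d * bb e f (G 2) (G 0)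
        rw [v4, C.Um_Um (hG 2) (hG 0), mul_zero]
      · change f (E 0) (E 1) (G 1) = d * bb e f (G 2) (G 1)
        rw [v4, C.Um_Um (hG 2) (hG 1), mul_zero]
      · change f (E 0) (E 1) (G 2) = d * bb e f (G 2) (G 2)
        rw [v4, C.Um_Um (hG 2) (hG 2), mul_zero]
    | zero => simp
    | add y z _ _ h1 h2 => rw [map_add, map_add, h1, h2]
    | smul a y _ h1 => rw [map_smul, map_smul, h1]
  have h1 := C.cr_cr (hG 0) (hE 0) (hE 1)
  rw [hcr, bb_comm (G 0), bb_comm (G 0), hEG, hEG, map_smul] at h1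
  simp only [one_ne_zero, if_false, if_true, zero_smul, zero_sub, one_smul] at h1
  have hE1 : E 1 ≠ 0 := by
    intro h
    have := hEG 1 1
    rw [h] at this
    simp at this
  have hd0 : d ≠ 0 := by
    intro h
    rw [h, zero_smul] at h1
    have := smul_eq_zero.1 h1.symm
    rcases this with h | h
    · exact mul_ne_zero N.two C.k0 h
    · exact hE1 (neg_eq_zero.1 h)
  refine ⟨E, G, d, hE, hG, hEG, hd0, v1, v2, v3, v4, v5, rfl, ?_⟩
  have h2 : d * f (G 0) (G 2) (G 1) = - (2 * k) := by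
    have := congrArg (fun w => bb e f w (G 1)) h1
    simp only [map_smul, LinearMap.smul_apply, smul_eq_mul, N.bb_cr, map_neg, LinearMap.neg_apply,
      hEG, if_true] at this
    rw [this]; ring
  rw [N.alt.swap23]
  field_simp
  linear_combination -h2

/-- **normal form** -/
theorem normal_form : ∃ (B : Basis (Fin 7) F V) (l : F), l ≠ 0 ∧
    ∀ x y z, f x y z = l * F0 (B.repr x) (B.repr y) (B.repr z) := by
  obtain ⟨E, G, d, hE, hG, hEG, hd, hv⟩ := C.exists_vals
  have h2 := N.two
  have hk := C.k0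
  -- scaled system
  set E' : Fin 3 → V := ![(4 * k ^ 2 / d) • E 0, E 1, E 2] with hE'
  set G' : Fin 3 → V := ![(-(d / (2 * k))) • G 0, (-(2 * k)) • G 1, (-(2 * k)) • G 2] with hG'
  have hr : -(2 * k) ≠ 0 := neg_ne_zero.2 (mul_ne_zero h2 hk)
  have E'U : ∀ i, E' i ∈ C.Up := by
    intro i; fin_cases i
    · exact C.Up.smul_mem _ (hE 0)
    · exact hE 1
    · exact hE 2
  have G'U : ∀ i, G' i ∈ C.Um := by
    intro i; fin_cases i
    · exact C.Um.smul_mem _ (hG 0)
    · exact C.Um.smul_mem _ (hG 1)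
    · exact C.Um.smul_mem _ (hG 2)
  have hEG' : ∀ i j, bb e f (E' i) (G' j) = if i = j then -(2 * k) else 0 := by
    intro i j
    fin_cases i <;> fin_cases j <;> simp [hE', hG', hEG]
    field_simp
    ring
  have hli := li_seven (bb e f) ((-(2 * k)) • n) E' G' (r := -(2 * k)) hr
    (by
      rw [map_smul, map_smul, LinearMap.smul_apply, smul_smul, smul_eq_mul]
      exact mul_ne_zero (mul_ne_zero hr hr) C.nn)
    (fun i => by rw [bb_comm, map_smul, LinearMap.smul_apply, C.n_Up (E'U i), smul_zero])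
    (fun i => by rw [bb_comm, map_smul, LinearMap.smul_apply, C.n_Um (G'U i), smul_zero])
    (fun i => by rw [map_smul, LinearMap.smul_apply, C.n_Up (E'U i), smul_zero])
    (fun i => by rw [map_smul, LinearMap.smul_apply, C.n_Um (G'U i), smul_zero])
    (fun i j => C.Up_Up (E'U i) (E'U j))
    (fun i j => C.Um_Um (G'U i) (G'U j)) hEG' (fun i j => by rw [bb_comm, hEG']; simp only [eq_comm])
  have : FiniteDimensional F V := e.finiteDimensional_of_finite
  let B : Basis (Fin 7) F V :=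
    basisOfLinearIndependentOfCardEqFinrank hli (by rw [Nice.finrank_eq e, Fintype.card_fin])
  have hB : (B : Fin 7 → V) = ![(-(2 * k)) • n, E' 0, E' 1, E' 2, G' 0, G' 1, G' 2] :=
    coe_basisOfLinearIndependentOfCardEqFinrank _ _
  refine ⟨B, 4 * k ^ 2, ?_, ?_⟩
  · have : (4 : F) * k ^ 2 = (-(2 * k)) * (-(2 * k)) := by ring
    rw [this]; exact mul_ne_zero hr hr
  refine Vals.eq_F0 N.alt (E := E') (G := G') ?_ B hB
  have v2' : ∀ i j, f n (E' i) (G' j) = if i = j then -(2 * k) else 0 := fun i j => by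
    rw [← N.bb_cr, C.mem_Up.1 (E'U i), hEG']
  refine ⟨fun i j => ?_, fun i j => ?_, fun i j => ?_, fun i j l => ?_, fun i j l => ?_, ?_, ?_⟩
  · rw [map_smul, LinearMap.smul_apply, LinearMap.smul_apply, ← N.bb_cr, C.mem_Up.1 (E'U i),
      C.Up_Up (E'U i) (E'U j), smul_zero]
  · rw [map_smul, LinearMap.smul_apply, LinearMap.smul_apply, v2', smul_eq_mul]
    split_ifs
    · ring
    · ring
  · rw [map_smul, LinearMap.smul_apply, LinearMap.smul_apply, ← N.bb_cr, C.mem_Um.1 (G'U i),
      map_neg, LinearMap.neg_apply, C.Um_Um (G'U i) (G'U j), neg_zero, smul_zero]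
  · rw [← N.bb_cr, C.Um_Um (C.cr_Up_Up (E'U i) (E'U j)) (G'U l)]
  · rw [← N.bb_cr, C.cr_Up_Um (E'U i) (G'U j), map_smul, LinearMap.smul_apply, C.n_Um (G'U l),
      smul_zero]
  · change f ((4 * k ^ 2 / d) • E 0) (E 1) (E 2) = _
    rw [map_smul, LinearMap.smul_apply, LinearMap.smul_apply, hv.EEE, smul_eq_mul]
    field_simp
  · change f ((-(d / (2 * k))) • G 0) ((-(2 * k)) • G 1) ((-(2 * k)) • G 2) = _
    simp only [map_smul, LinearMap.smul_apply, hv.GGG, smul_eq_mul]
    field_simp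
    ring

end Comp

theorem Nice.normal_form (N : Nice e f) (h : ∃ u, u ≠ 0 ∧ Qf e f u = 0) :
    ∃ (B : Basis (Fin 7) F V) (l : F), l ≠ 0 ∧
      ∀ x y z, f x y z = l * F0 (B.repr x) (B.repr y) (B.repr z) := by
  obtain ⟨k, n, C⟩ := N.exists_Comp h
  exact C.normal_form

end Cfsg.Agent.H179.G2
end

-- part: H179/G2Inv
section
/-!
# Alternating 3-forms invariant under an irreducible perfect group in dimension 7
-/

namespace Cfsg.Agent.H179.G2

open QuadraticMap Module

variable {F V : Type*} [Field F] [AddCommGroup V] [Module F V]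

/-- an absolutely irreducible perfect group of linear maps -/
structure PHyp (P : Subgroup (V ≃ₗ[F] V)) : Prop where
  perfect : ⁅P, P⁆ = P
  irr : ∀ W : Submodule F V, (∀ g ∈ P, ∀ w ∈ W, g w ∈ W) → W = ⊥ ∨ W = ⊤
  schur : ∀ L : V →ₗ[F] V, (∀ g ∈ P, ∀ v, L (g v) = g (L v)) → ∃ c : F, ∀ v, L v = c • v

/-- `f` is invariant under `g` -/
def InvBy (f : V →ₗ[F] V →ₗ[F] V →ₗ[F] F) (g : V ≃ₗ[F] V) : Prop :=
  ∀ x y z, f (g x) (g y) (g z) = f x y z

variable {e : Basis (Fin 7) F V} {f : V →ₗ[F] V →ₗ[F] V →ₗ[F] F}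

/-- `Qf` is invariant up to the determinant -/
theorem qf_det (h : IsAltForm f) {g : V ≃ₗ[F] V} (hg : InvBy f g) (x : V) :
    Qf e f (g x) * LinearMap.det (g : V →ₗ[F] V) = Qf e f x := by
  by_cases hx : x = 0
  · subst hx; simp
  have hli : LinearIndependent F ![x] := by
    rw [linearIndependent_unique_iff]; exact hx
  obtain ⟨w, hw, hwi⟩ := exists_ext e 6 1 rfl _ hli
  have w0 : w 0 = x := by have := hwi 0 (by norm_num) (by norm_num); exact this
  have h1 := pf6_eq e h x (fun i => w i.succ)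
  have h2 := pf6_eq e h (g x) (fun i => g (w i.succ))
  have h3 : Matrix.vecCons (g x) (fun i => g (w i.succ)) = (g : V →ₗ[F] V) ∘ w := by
    rw [← w0]
    funext i
    refine Fin.cases rfl (fun j => rfl) i
  rw [h3, Basis.det_comp] at h2
  rw [← w0, Nice.vecCons_eq, w0] at h1
  simp only [pf6, pf4, hg x _ _] at h1 h2
  rw [h1] at h2
  exact mul_right_cancel₀ hw (by linear_combination -h2)

theorem qf_inv (h : IsAltForm f) {g : V ≃ₗ[F] V} (hg : InvBy f g)
    (hd : LinearMap.det (g : V →ₗ[F] V) = 1) (x : V) : Qf e f (g x) = Qf e f x := by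
  have := qf_det (e := e) h hg x
  rwa [hd, mul_one] at this

theorem bb_inv (h : IsAltForm f) {g : V ≃ₗ[F] V} (hg : InvBy f g)
    (hd : LinearMap.det (g : V →ₗ[F] V) = 1) (x y : V) :
    bb e f (g x) (g y) = bb e f x y := by
  simp only [bb_apply, polar, ← map_add, qf_inv h hg hd]

variable {P : Subgroup (V ≃ₗ[F] V)}

namespace PHyp

theorem det_one (hP : PHyp P) {g : V ≃ₗ[F] V} (hg : g ∈ P) : LinearMap.det (g : V →ₗ[F] V) = 1 := by
  have h1 : P ≤ (LinearEquiv.det (R := F) (M := V)).ker := by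
    rw [← hP.perfect, Subgroup.commutator_le]
    intro a _ b _
    rw [MonoidHom.mem_ker, map_commutatorElement]
    exact commutatorElement_eq_one_iff_mul_comm.2 (mul_comm _ _)
  have h2 := h1 hg
  rw [MonoidHom.mem_ker] at h2
  have h3 := congrArg Units.val h2
  rwa [LinearEquiv.coe_det, Units.val_one] at h3

theorem rad_zero (hP : PHyp P) (_h : IsAltForm f) (hf0 : f ≠ 0) (hinv : ∀ g ∈ P, InvBy f g) (x : V)
    (hx : f x = 0) : x = 0 := by
  have hW : ∀ g ∈ P, ∀ w ∈ LinearMap.ker f, g w ∈ LinearMap.ker f := by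
    intro g hg w hw
    rw [LinearMap.mem_ker] at hw ⊢
    ext y z
    have := hinv g hg w (g.symm y) (g.symm z)
    rw [g.apply_symm_apply, g.apply_symm_apply, hw] at this
    exact this
  rcases hP.irr _ hW with h1 | h1
  · have : x ∈ LinearMap.ker f := hx
    rw [h1] at this
    exact (Submodule.mem_bot F).1 this
  · exact absurd (LinearMap.ker_eq_top.1 h1) hf0

theorem nice [Finite F] (hP : PHyp P) (h2 : (2 : F) ≠ 0) (h : IsAltForm f) (hf0 : f ≠ 0)
    (hinv : ∀ g ∈ P, InvBy f g) : Nice e f := by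
  refine ⟨h, h2, ?_⟩
  obtain ⟨x0, hx0⟩ := qf_ne (e := e) h h2 (hP.rad_zero h hf0 hinv)
  have hW : ∀ g ∈ P, ∀ w ∈ LinearMap.ker (bb e f), g w ∈ LinearMap.ker (bb e f) := by
    intro g hg w hw
    rw [LinearMap.mem_ker] at hw ⊢
    ext y
    have := bb_inv (e := e) h (hinv g hg) (hP.det_one hg) w (g.symm y)
    rw [g.apply_symm_apply, hw] at this
    exact this
  rcases hP.irr _ hW with h1 | h1
  · intro x hx
    have : x ∈ LinearMap.ker (bb e f) := by
      rw [LinearMap.mem_ker]; ext y; exact hx y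
    rw [h1] at this
    exact (Submodule.mem_bot F).1 this
  · exfalso
    have h3 : bb e f = 0 := LinearMap.ker_eq_top.1 h1
    have h4 := bb_self (e := e) (f := f) x0
    rw [h3] at h4
    exact mul_ne_zero h2 hx0 h4.symm

theorem null [Finite F] (e : Basis (Fin 7) F V) (f : V →ₗ[F] V →ₗ[F] V →ₗ[F] F) :
    ∃ u, u ≠ 0 ∧ Qf e f u = 0 := by
  obtain ⟨w, hw0, hw, -⟩ := LieClassical.OrthFinite.exists_sing_perp (Q := Qf e f) (n := 0) ![]
    (by rw [Nice.finrank_eq e]; norm_num)
  exact ⟨w, hw0, hw⟩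

/-- an invariant symmetric form is a multiple of `bb e f` -/
theorem form_eq (hP : PHyp P) (N : Nice e f) (hinv : ∀ g ∈ P, InvBy f g)
    (b : V →ₗ[F] V →ₗ[F] F) (hb : ∀ g ∈ P, ∀ x y, b (g x) (g y) = b x y) :
    ∃ c : F, ∀ x y, b x y = c * bb e f x y := by
  have : FiniteDimensional F V := e.finiteDimensional_of_finite
  let L : V →ₗ[F] V := (LinearMap.BilinForm.toDual (bb e f) N.nondeg).symm.toLinearMap ∘ₗ b
  have hL : ∀ x y, bb e f (L x) y = b x y := fun x y =>
    LinearMap.BilinForm.apply_toDual_symm_apply (B := bb e f) (hB := N.nondeg) (b x) y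
  obtain ⟨c, hc⟩ := hP.schur L (by
    intro g hg v
    apply N.ext
    intro z
    have h1 := bb_inv (e := e) N.alt (hinv g hg) (hP.det_one hg) (L v) (g.symm z)
    have h2 := hb g hg v (g.symm z)
    rw [g.apply_symm_apply] at h1 h2
    rw [hL, h1, hL, h2])
  exact ⟨c, fun x y => by rw [← hL, hc, map_smul]; rfl⟩

end PHyp

/-- the cross product of `g` with respect to the form of `f` -/
noncomputable def Nice.T (N : Nice e f) (g : V →ₗ[F] V →ₗ[F] V →ₗ[F] F) : V →ₗ[F] V →ₗ[F] V :=
  haveI : FiniteDimensional F V := e.finiteDimensional_of_finite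
  g.compr₂ (LinearMap.BilinForm.toDual (bb e f) N.nondeg).symm.toLinearMap

theorem Nice.bb_T (N : Nice e f) (g : V →ₗ[F] V →ₗ[F] V →ₗ[F] F) (x y z : V) :
    bb e f (N.T g x y) z = g x y z := by
  have : FiniteDimensional F V := e.finiteDimensional_of_finite
  exact LinearMap.BilinForm.apply_toDual_symm_apply (B := bb e f) (hB := N.nondeg) (g x y) z

/-- the right-hand side of the composition identity -/
noncomputable def RR (e : Basis (Fin 7) F V) (f : V →ₗ[F] V →ₗ[F] V →ₗ[F] F) (u v y : V) : V :=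
  bb e f u y • v + bb e f v y • u - (2 * bb e f u v) • y

/-- the composition identity for every invariant form, relative to one of them -/
theorem PHyp.comp [Finite F] (hP : PHyp P) (N : Nice e f) (hinv : ∀ g ∈ P, InvBy f g)
    {h : V →ₗ[F] V →ₗ[F] V →ₗ[F] F} (hh : IsAltForm h) (hh0 : h ≠ 0)
    (hhinv : ∀ g ∈ P, InvBy h g) :
    ∃ k : F, k ≠ 0 ∧ ∀ u v y, N.T h u (N.T h v y) + N.T h v (N.T h u y) = k • RR e f u v y := by
  have Nh : Nice e h := hP.nice N.two hh hh0 hhinv
  obtain ⟨k, hk, hid⟩ := Nh.exists_comp (PHyp.null e h)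
  obtain ⟨c, hc⟩ := hP.form_eq N hinv (bb e h) (fun g hg x y => bb_inv hh (hhinv g hg) (hP.det_one hg) x y)
  have hc0 : c ≠ 0 := by
    rintro rfl
    have h1 := Nh.nd (e 0) (fun y => by
      have := hc (e 0) y
      rw [zero_mul] at this
      exact this)
    exact e.ne_zero 0 h1
  have hT : ∀ x y, N.T h x y = c • Nh.cr x y := by
    intro x y
    apply N.ext
    intro z
    rw [N.bb_T, map_smul, LinearMap.smul_apply, smul_eq_mul, ← hc, Nh.bb_cr]
  refine ⟨c ^ 3 * k, mul_ne_zero (pow_ne_zero 3 hc0) hk, fun u v y => ?_⟩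
  have h1 := hid u v y
  simp only [hc] at h1
  simp only [hT, map_smul, RR]
  linear_combination (norm := module) (c ^ 2) • h1

end Cfsg.Agent.H179.G2
end

-- part: H179/G2Uniq
section
/-!
# Uniqueness of the invariant alternating 3-form
-/

namespace Cfsg.Agent.H179.G2

open QuadraticMap Module

variable {F V : Type*} [Field F] [AddCommGroup V] [Module F V]
variable {e : Basis (Fin 7) F V} {f : V →ₗ[F] V →ₗ[F] V →ₗ[F] F}

theorem IsAltForm.add {g : V →ₗ[F] V →ₗ[F] V →ₗ[F] F} (hf : IsAltForm f) (hg : IsAltForm g) :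
    IsAltForm (f + g) :=
  ⟨fun x y => by simp [hf.self, hg.self], fun x y => by simp [hf.z23, hg.z23]⟩

theorem IsAltForm.smul (hf : IsAltForm f) (c : F) : IsAltForm (c • f) :=
  ⟨fun x y => by simp only [hf.self, _root_.LinearMap.smul_apply, _root_.smul_eq_mul, _root_.MulZeroClass.mul_zero], fun x y => by simp only [hf.z23, _root_.LinearMap.smul_apply, _root_.smul_eq_mul, _root_.MulZeroClass.mul_zero]⟩

theorem Nice.T_add (N : Nice e f) (g h : V →ₗ[F] V →ₗ[F] V →ₗ[F] F) (x y : V) :
    N.T (g + h) x y = N.T g x y + N.T h x y := by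
  apply N.ext; intro z
  simp only [map_add, LinearMap.add_apply, N.bb_T]

theorem Nice.T_smul (N : Nice e f) (c : F) (g : V →ₗ[F] V →ₗ[F] V →ₗ[F] F) (x y : V) :
    N.T (c • g) x y = c • N.T g x y := by
  apply N.ext; intro z
  simp only [map_smul, LinearMap.smul_apply, N.bb_T]

theorem Nice.T_self (N : Nice e f) (x y : V) : N.T f x y = N.cr x y := by
  apply N.ext; intro z
  rw [N.bb_T, N.bb_cr]

/-- the core of the uniqueness: a form `g` whose cross product anticommutes with the one of `f` -/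
theorem no_anti {N : Nice e f} {k : F} {n : V} (C : Comp N k n)
    {g : V →ₗ[F] V →ₗ[F] V →ₗ[F] F} (hg : IsAltForm g) {kg : F} (hkg : kg ≠ 0)
    (hgid : ∀ u v y, N.T g u (N.T g v y) + N.T g v (N.T g u y) = kg • RR e f u v y)
    (hanti : ∀ y, N.cr n (N.T g n y) + N.T g n (N.cr n y) = 0) : False := by
  have : FiniteDimensional F V := e.finiteDimensional_of_finite
  obtain ⟨E, hli, hE⟩ := exists_li C.Up C.finrank_Up
  -- a vector `u ≠ 0` in the span of `E` with `g n u (E i) = 0` for all `i`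
  obtain ⟨u, hu0, huE, hug⟩ : ∃ u, u ≠ 0 ∧ u ∈ C.Up ∧ ∀ i, g n u (E i) = 0 := by
    by_cases h0 : g n (E 1) (E 2) = 0 ∧ g n (E 0) (E 2) = 0 ∧ g n (E 0) (E 1) = 0
    · refine ⟨E 0, hli.ne_zero 0, hE 0, fun i => ?_⟩
      fin_cases i
      · exact hg.z23 _ _
      · exact h0.2.2
      · exact h0.2.1
    · refine ⟨g n (E 1) (E 2) • E 0 - g n (E 0) (E 2) • E 1 + g n (E 0) (E 1) • E 2, ?_, ?_, ?_⟩
      · intro hz
        apply h0
        have h1 : ∑ i, (![g n (E 1) (E 2), -g n (E 0) (E 2), g n (E 0) (E 1)] : Fin 3 → F) i • E i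
            = 0 := by
          rw [Fin.sum_univ_three]
          simp only [Matrix.cons_val]
          rw [← hz]; module
        have h2 := (Fintype.linearIndependent_iff.1 hli) _ h1
        exact ⟨h2 0, neg_eq_zero.1 (h2 1), h2 2⟩
      · exact C.Up.add_mem (C.Up.sub_mem (C.Up.smul_mem _ (hE 0)) (C.Up.smul_mem _ (hE 1)))
          (C.Up.smul_mem _ (hE 2))
      · intro i
        simp only [map_add, map_sub, map_smul, LinearMap.add_apply, LinearMap.sub_apply,
          LinearMap.smul_apply, smul_eq_mul]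
        fin_cases i
        · change g n (E 1) (E 2) * g n (E 0) (E 0) - g n (E 0) (E 2) * g n (E 1) (E 0) +
            g n (E 0) (E 1) * g n (E 2) (E 0) = 0
          rw [hg.z23, hg.swap23 n (E 1) (E 0), hg.swap23 n (E 2) (E 0)]; ring
        · change g n (E 1) (E 2) * g n (E 0) (E 1) - g n (E 0) (E 2) * g n (E 1) (E 1) +
            g n (E 0) (E 1) * g n (E 2) (E 1) = 0
          rw [hg.z23, hg.swap23 n (E 2) (E 1)]; ring
        · change g n (E 1) (E 2) * g n (E 0) (E 2) - g n (E 0) (E 2) * g n (E 1) (E 2) +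
            g n (E 0) (E 1) * g n (E 2) (E 2) = 0
          rw [hg.z23]; ring
  have hspan : ∀ y ∈ C.Up, g n u y = 0 := by
    intro y hy
    have h1 : C.Up = Submodule.span F (Set.range E) := by
      symm
      refine Submodule.eq_of_le_of_finrank_le ?_ ?_
      · rw [Submodule.span_le]; rintro _ ⟨i, rfl⟩; exact hE i
      · rw [C.finrank_Up, finrank_span_eq_card hli, Fintype.card_fin]
    rw [h1] at hy
    induction hy using Submodule.span_induction with
    | mem y hy => obtain ⟨i, rfl⟩ := hy; exact hug i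
    | zero => simp
    | add y z _ _ h1 h2 => rw [map_add, h1, h2, add_zero]
    | smul a y _ h1 => rw [map_smul, h1, smul_zero]
  -- `T_g n u` is in `Um`
  have hTm : N.T g n u ∈ C.Um := by
    rw [C.mem_Um]
    have h1 := hanti u
    rw [C.mem_Up.1 huE] at h1
    exact eq_neg_of_add_eq_zero_left h1
  have hT0 : N.T g n u = 0 := by
    apply N.ext
    intro z
    obtain ⟨a, ha, b, hb, c, rfl⟩ := C.decomp z
    rw [map_zero, LinearMap.zero_apply, map_add, map_add, map_smul, N.bb_T, hspan a ha,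
      C.Um_Um hTm hb, bb_comm _ n, C.n_Um hTm]
    simp
  have h1 := hgid n n u
  rw [hT0, map_zero, RR, C.n_Up huE] at h1
  have h2 : (kg * (2 * bb e f n n)) • u = 0 := by
    linear_combination (norm := module) h1
  rcases smul_eq_zero.1 h2 with h3 | h3
  · exact mul_ne_zero hkg (mul_ne_zero N.two C.nn) h3
  · exact hu0 h3

variable {P : Subgroup (V ≃ₗ[F] V)}

/-- **uniqueness of the invariant 3-form** -/
theorem PHyp.uniq [Finite F] (hP : PHyp P) (h2 : (2 : F) ≠ 0) (e : Basis (Fin 7) F V)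
    {f g : V →ₗ[F] V →ₗ[F] V →ₗ[F] F} (hf : IsAltForm f)
    (hf0 : f ≠ 0) (hinv : ∀ a ∈ P, InvBy f a) (hg : IsAltForm g) (hginv : ∀ a ∈ P, InvBy g a) :
    ∃ c : F, g = c • f := by
  by_contra hc
  push Not at hc
  have N : Nice e f := hP.nice h2 hf hf0 hinv
  obtain ⟨k, n, C⟩ := N.exists_Comp (PHyp.null e f)
  have hg0 : g ≠ 0 := fun h => hc 0 (by rw [h, zero_smul])
  have hinvadd : ∀ (s t : F), ∀ a ∈ P, InvBy (s • f + t • g) a := by
    intro s t a ha x y z
    simp only [LinearMap.add_apply, LinearMap.smul_apply, hinv a ha x y z, hginv a ha x y z]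
  have hne : ∀ (s t : F), t ≠ 0 → s • f + t • g ≠ 0 := by
    intro s t ht h
    apply hc (-(t⁻¹ * s))
    ext x y z
    have h1 := congrArg (fun w : V →ₗ[F] V →ₗ[F] V →ₗ[F] F => w x y z) h
    simp only [LinearMap.add_apply, LinearMap.smul_apply, smul_eq_mul, LinearMap.zero_apply] at h1 ⊢
    field_simp
    linear_combination h1
  have hid : ∀ (s t : F), t ≠ 0 → ∃ k : F, k ≠ 0 ∧ ∀ u v y, N.T (s • f + t • g) u (N.T (s • f + t • g) v y) +
      N.T (s • f + t • g) v (N.T (s • f + t • g) u y) = k • RR e f u v y := fun s t ht =>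
    hP.comp N hinv ((hf.smul s).add (hg.smul t)) (hne s t ht) (hinvadd s t)
  obtain ⟨k1, -, hk1⟩ := hid 1 1 one_ne_zero
  obtain ⟨kg, -, hkg⟩ := hid 0 1 one_ne_zero
  -- the mixed term
  obtain ⟨m, hm⟩ : ∃ m : F, ∀ u v y, N.cr u (N.T g v y) + N.T g u (N.cr v y) + N.cr v (N.T g u y) +
      N.T g v (N.cr u y) = m • RR e f u v y := by
    refine ⟨k1 - k - kg, fun u v y => ?_⟩
    have e1 := hk1 u v y
    have e2 := hkg u v y
    have e3 := C.id u v y
    simp only [N.T_add, N.T_self, zero_smul, zero_add, one_smul, map_add] at e1 e2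
    have e3' : N.cr u (N.cr v y) + N.cr v (N.cr u y) = k • RR e f u v y := e3
    linear_combination (norm := module) e1 - e2 - e3'
  set s : F := -(m / (2 * k)) with hs
  obtain ⟨kh, hkh0, hkh⟩ := hid s 1 one_ne_zero
  refine no_anti C ((hf.smul s).add (hg.smul 1)) hkh0 hkh ?_
  intro y
  have e1 := hm n n y
  have e3 := C.id n n y
  have e3' : N.cr n (N.cr n y) + N.cr n (N.cr n y) = k • RR e f n n y := e3
  have h2k : (2 : F) * k ≠ 0 := mul_ne_zero h2 C.k0
  have hsk : s * (2 * k) = -m := by rw [hs, neg_mul, div_mul_cancel₀ _ h2k]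
  apply N.smul_two
  simp only [N.T_add, N.T_smul, N.T_self, one_smul, map_add, map_smul]
  have e4 : (2 * s) • (N.cr n (N.cr n y) + N.cr n (N.cr n y)) = (-m) • RR e f n n y := by
    rw [e3', smul_smul, ← hsk]; congr 1; ring
  linear_combination (norm := module) e1 + e4

end Cfsg.Agent.H179.G2
end

-- part: H179/G2Stab
section
/-!
# The stabiliser of a non-degenerate alternating 3-form
-/

namespace Cfsg.Agent.H179.G2

open QuadraticMap Module LieClassical.OrthFinite LieClassical.OrthCore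
open scoped Matrix

variable {F V : Type*} [Field F] [AddCommGroup V] [Module F V]

/-- transport of automorphisms along a linear equivalence -/
def cj {W : Type*} [AddCommGroup W] [Module F W] (B : V ≃ₗ[F] W) :
    (W ≃ₗ[F] W) ≃* (V ≃ₗ[F] V) where
  toFun g := (B.trans g).trans B.symm
  invFun g := (B.symm.trans g).trans B
  left_inv g := by ext x; simp
  right_inv g := by ext x; simp
  map_mul' g h := by ext x; simp only [LinearEquiv.mul_apply, _root_.LinearEquiv.trans_apply, _root_.LinearEquiv.mul_apply, _root_.LinearEquiv.apply_symm_apply]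

theorem cj_apply {W : Type*} [AddCommGroup W] [Module F W] (B : V ≃ₗ[F] W) (g : W ≃ₗ[F] W)
    (x : V) : B (cj B g x) = g (B x) := by
  simp [cj]

/-- the stabiliser of `f` in `SL(V)` -/
def Mf (f : V →ₗ[F] V →ₗ[F] V →ₗ[F] F) : Subgroup (V ≃ₗ[F] V) where
  carrier := {g | LinearMap.det (g : V →ₗ[F] V) = 1 ∧ InvBy f g}
  mul_mem' {a b} ha hb := by
    refine ⟨?_, fun x y z => ?_⟩
    · have : ((a * b : V ≃ₗ[F] V) : V →ₗ[F] V) = (a : V →ₗ[F] V) ∘ₗ (b : V →ₗ[F] V) := rfl
      rw [this, LinearMap.det_comp, ha.1, hb.1, one_mul]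
    · change f (a (b x)) (a (b y)) (a (b z)) = _
      rw [ha.2, hb.2]
  one_mem' := ⟨LinearMap.det_id, fun x y z => rfl⟩
  inv_mem' {a} ha := by
    refine ⟨?_, fun x y z => ?_⟩
    · have h1 : (a : V →ₗ[F] V) ∘ₗ ((a⁻¹ : V ≃ₗ[F] V) : V →ₗ[F] V) = LinearMap.id := by
        ext x; exact a.apply_symm_apply x
      have h2 := congrArg LinearMap.det h1
      rwa [LinearMap.det_comp, ha.1, one_mul, LinearMap.det_id] at h2
    · have := ha.2 (a⁻¹ x) (a⁻¹ y) (a⁻¹ z)
      rw [show a (a⁻¹ x) = x from a.apply_symm_apply x, show a (a⁻¹ y) = y from a.apply_symm_apply y,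
        show a (a⁻¹ z) = z from a.apply_symm_apply z] at this
      exact this.symm

/-- the stabiliser of a form in standard position -/
theorem Mf_equiv (f : V →ₗ[F] V →ₗ[F] V →ₗ[F] F) (B : Basis (Fin 7) F V) {l : F} (hl : l ≠ 0)
    (h : ∀ x y z, f x y z = l * F0 (B.repr x) (B.repr y) (B.repr z)) :
    Nonempty (Mf f ≃* M0 F) := by
  let Ψ : Matrix.GeneralLinearGroup (Fin 7) F ≃* (V ≃ₗ[F] V) :=
    (glEquiv (Fin 7) F).trans (cj B.equivFun)
  have hΨ : ∀ (A : Matrix.GeneralLinearGroup (Fin 7) F) (x : V),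
      (B.repr (Ψ A x) : Fin 7 → F) = (A : Matrix (Fin 7) (Fin 7) F) *ᵥ (B.repr x) := by
    intro A x
    have h1 := cj_apply B.equivFun (glEquiv (Fin 7) F A) x
    rw [glEquiv_apply] at h1
    exact h1
  have hdet : ∀ A : Matrix.GeneralLinearGroup (Fin 7) F,
      LinearMap.det ((Ψ A : V ≃ₗ[F] V) : V →ₗ[F] V) = (A : Matrix (Fin 7) (Fin 7) F).det := by
    intro A
    have h1 : ((Ψ A : V ≃ₗ[F] V) : V →ₗ[F] V) =
        (B.equivFun.symm : (Fin 7 → F) →ₗ[F] V) ∘ₗ
          (Matrix.toLin' (A : Matrix (Fin 7) (Fin 7) F)) ∘ₗ (B.equivFun : V →ₗ[F] (Fin 7 → F)) := by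
      ext x
      rfl
    rw [h1]
    have h2 := LinearMap.det_conj (Matrix.toLin' (A : Matrix (Fin 7) (Fin 7) F)) B.equivFun.symm
    rw [LinearEquiv.symm_symm] at h2
    rw [h2, LinearMap.det_toLin']
  have hmap : (M0 F).map Ψ.toMonoidHom = Mf f := by
    ext g
    constructor
    · rintro ⟨A, hA, rfl⟩
      refine ⟨(hdet A).trans hA.1, fun x y z => ?_⟩
      change f (Ψ A x) (Ψ A y) (Ψ A z) = _
      rw [h, h, hΨ, hΨ, hΨ, hA.2]
    · intro hg
      refine ⟨Ψ.symm g, ⟨?_, fun x y z => ?_⟩, Ψ.apply_symm_apply g⟩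
      · rw [← hdet, Ψ.apply_symm_apply]; exact hg.1
      · obtain ⟨x, rfl⟩ := B.equivFun.surjective x
        obtain ⟨y, rfl⟩ := B.equivFun.surjective y
        obtain ⟨z, rfl⟩ := B.equivFun.surjective z
        have h1 := hg.2 x y z
        rw [h, h] at h1
        have h2 := mul_left_cancel₀ hl h1
        have h3 : ∀ x, (B.repr (g x) : Fin 7 → F) =
            ((Ψ.symm g : Matrix.GeneralLinearGroup (Fin 7) F) : Matrix (Fin 7) (Fin 7) F) *ᵥ
              (B.repr x) := by
          intro x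
          rw [← hΨ, Ψ.apply_symm_apply]
        rw [h3, h3, h3] at h2
        exact h2
  exact ⟨((M0 F).equivMapOfInjective Ψ.toMonoidHom Ψ.injective |>.trans
    (MulEquiv.subgroupCongr hmap)).symm⟩

variable {e : Basis (Fin 7) F V} {f : V →ₗ[F] V →ₗ[F] V →ₗ[F] F}

/-- the group generated by the Siegel transformations of a form proportional to `bb e f` does not
preserve `f` -/
theorem Comp.not_inv {N : Nice e f} {k : F} {n : V} (C : Comp N k n) {Q : QuadraticForm F V}
    {c : F} (hc : c ≠ 0) (hQ : ∀ x y, polar Q x y = c * bb e f x y)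
    (hinv : ∀ g ∈ E Q, InvBy f g) : False := by
  obtain ⟨E', G, d, hE, hG, hEG, hd, hv⟩ := C.exists_vals
  have hQ2 : ∀ x, 2 * Q x = c * bb e f x x := by
    intro x
    rw [← hQ, QuadraticMap.polar_self, two_smul]; ring
  have hu : Q (E' 1) = 0 := by
    have := hQ2 (E' 1)
    rw [C.Up_Up (hE 1) (hE 1), mul_zero] at this
    exact (mul_eq_zero.1 this).resolve_left N.two
  have hw : polar Q (E' 1) n = 0 := by rw [hQ, bb_comm, C.n_Up (hE 1), mul_zero]
  have h1 := hinv _ (siegel_mem_E hu hw) (E' 0) (G 1) (G 0)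
  rw [siegel_apply, siegel_apply, siegel_apply] at h1
  simp only [hQ, C.Up_Up (hE 1) (hE 0), hEG, C.n_Up (hE 0), C.n_Um (hG 1), C.n_Um (hG 0)] at h1
  have h01 : ((1 : Fin 3) = 0) = False := by simp
  simp only [h01, if_true, if_false, mul_zero, zero_smul, add_zero, sub_zero, mul_one] at h1
  simp only [map_add, map_sub, map_smul, LinearMap.add_apply, LinearMap.sub_apply,
    LinearMap.smul_apply, smul_eq_mul, hv.EGG, hv.EEG, N.alt.swap12 (E' 0) n, hv.nEG, if_true] at h1
  apply hc
  linear_combination -h1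

end Cfsg.Agent.H179.G2
end

-- part: H856/G2Model
section
/-!
# The stabiliser of the standard alternating 3-form in `SL₇(F)` is `G₂(F)` (helper856)
-/

set_option autoImplicit false
set_option linter.unusedSimpArgs false
set_option maxHeartbeats 1000000

namespace Cfsg.Agent.H856.G2M

open Cfsg.Lie Cfsg.Agent.H161.Oct Cfsg.Agent.H179.G2 Module
open scoped Matrix

variable {F : Type*} [Field F]

/-- the traceless octonions -/
abbrev W (F : Type*) : Type _ := Fin 7 → F

/-- `F^7` as the traceless octonions -/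
def jj (x : W F) : V F := ![x 0, x 1, x 2, x 3, x 4, x 5, x 6, - x 0]

theorem jj0 (x : W F) : jj x 0 = x 0 := rfl
theorem jj1 (x : W F) : jj x 1 = x 1 := rfl
theorem jj2 (x : W F) : jj x 2 = x 2 := rfl
theorem jj3 (x : W F) : jj x 3 = x 3 := rfl
theorem jj4 (x : W F) : jj x 4 = x 4 := rfl
theorem jj5 (x : W F) : jj x 5 = x 5 := rfl
theorem jj6 (x : W F) : jj x 6 = x 6 := rfl
theorem jj7 (x : W F) : jj x 7 = - x 0 := rfl

/-- the traceless part -/
def pp (y : V F) : W F := ![(y 0 - y 7) / 2, y 1, y 2, y 3, y 4, y 5, y 6]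

theorem pp0 (y : V F) : pp y 0 = (y 0 - y 7) / 2 := rfl
theorem pp1 (y : V F) : pp y 1 = y 1 := rfl
theorem pp2 (y : V F) : pp y 2 = y 2 := rfl
theorem pp3 (y : V F) : pp y 3 = y 3 := rfl
theorem pp4 (y : V F) : pp y 4 = y 4 := rfl
theorem pp5 (y : V F) : pp y 5 = y 5 := rfl
theorem pp6 (y : V F) : pp y 6 = y 6 := rfl

omit [Field F] in
theorem ext7 {x y : W F} (h0 : x 0 = y 0) (h1 : x 1 = y 1) (h2 : x 2 = y 2) (h3 : x 3 = y 3)
    (h4 : x 4 = y 4) (h5 : x 5 = y 5) (h6 : x 6 = y 6) : x = y := by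
  funext i
  fin_cases i <;> assumption

theorem jj_add (x y : W F) : jj (x + y) = jj x + jj y := by
  apply ext8 <;> simp only [jj0, jj1, jj2, jj3, jj4, jj5, jj6, jj7, Pi.add_apply] <;> ring

theorem jj_smul (c : F) (x : W F) : jj (c • x) = c • jj x := by
  apply ext8 <;> simp only [jj0, jj1, jj2, jj3, jj4, jj5, jj6, jj7, Pi.smul_apply, smul_eq_mul] <;>
    ring

theorem tr_jj (x : W F) : tr (jj x) = 0 := by
  simp only [tr, jj0, jj7]; ring

theorem pp_add (x y : V F) : pp (x + y) = pp x + pp y := by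
  apply ext7 <;> simp only [pp0, pp1, pp2, pp3, pp4, pp5, pp6, Pi.add_apply] <;> ring

theorem pp_smul (c : F) (x : V F) : pp (c • x) = c • pp x := by
  apply ext7 <;> simp only [pp0, pp1, pp2, pp3, pp4, pp5, pp6, Pi.smul_apply, smul_eq_mul] <;>
    ring

theorem pp_o : pp (o : V F) = 0 := by
  apply ext7 <;> simp only [pp0, pp1, pp2, pp3, pp4, pp5, pp6, o0, o1, o2, o3, o4, o5, o6, o7,
    Pi.zero_apply] <;> ring

theorem pp_jj (h2 : (2 : F) ≠ 0) (x : W F) : pp (jj x) = x := by
  apply ext7 <;> simp only [pp0, pp1, pp2, pp3, pp4, pp5, pp6, jj0, jj1, jj2, jj3, jj4, jj5, jj6,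
    jj7] 
  field_simp
  ring

theorem split (h2 : (2 : F) ≠ 0) (y : V F) : (tr y / 2) • o + jj (pp y) = y := by
  apply ext8 <;> simp only [pp0, pp1, pp2, pp3, pp4, pp5, pp6, jj0, jj1, jj2, jj3, jj4, jj5, jj6,
    jj7, o0, o1, o2, o3, o4, o5, o6, o7, tr, Pi.add_apply, Pi.smul_apply, smul_eq_mul] <;>
    first | ring1 | (field_simp; ring1)

/-- `F^8 = F^7 ⊕ F` -/
def spl (h2 : (2 : F) ≠ 0) : V F ≃ₗ[F] (W F × F) where
  toFun y := (pp y, tr y / 2)
  map_add' x y := by
    rw [pp_add, tr_add, add_div]; rfl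
  map_smul' c x := by
    rw [pp_smul, tr_smul, mul_div_assoc]; rfl
  invFun z := z.2 • o + jj z.1
  left_inv y := split h2 y
  right_inv z := by
    have h1 : pp (z.2 • o + jj z.1) = z.1 := by
      rw [pp_add, pp_smul, pp_o, pp_jj h2, smul_zero, zero_add]
    have h3 : tr (z.2 • o + jj z.1) / 2 = z.2 := by
      rw [tr_add, tr_smul, tr_o, tr_jj, add_zero, mul_div_assoc, div_self h2, mul_one]
    exact Prod.ext h1 h3

/-- the extension of an automorphism of the traceless octonions by the identity on `F o` -/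
def ext (h2 : (2 : F) ≠ 0) : (W F ≃ₗ[F] W F) →* (V F ≃ₗ[F] V F) where
  toFun g := (spl h2).trans ((g.prodCongr (LinearEquiv.refl F F)).trans (spl h2).symm)
  map_one' := by
    ext1 x
    show (spl h2).symm (_, _) = x
    exact (spl h2).symm_apply_apply x
  map_mul' g h := by
    ext1 x
    show (spl h2).symm (_, _) = (spl h2).symm ((g.prodCongr (LinearEquiv.refl F F))
      ((spl h2) ((spl h2).symm ((h.prodCongr (LinearEquiv.refl F F)) (spl h2 x)))))
    rw [LinearEquiv.apply_symm_apply]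
    rfl

theorem ext_apply (h2 : (2 : F) ≠ 0) (g : W F ≃ₗ[F] W F) (y : V F) :
    ext h2 g y = (tr y / 2) • o + jj (g (pp y)) := rfl

theorem ext_jj (h2 : (2 : F) ≠ 0) (g : W F ≃ₗ[F] W F) (x : W F) : ext h2 g (jj x) = jj (g x) := by
  rw [ext_apply, tr_jj, zero_div, zero_smul, zero_add, pp_jj h2]

theorem ext_o (h2 : (2 : F) ≠ 0) (g : W F ≃ₗ[F] W F) : ext h2 g o = o := by
  rw [ext_apply, tr_o, div_self h2, one_smul, pp_o, map_zero]
  have : jj (0 : W F) = 0 := by
    apply ext8 <;> simp only [jj0, jj1, jj2, jj3, jj4, jj5, jj6, jj7, Pi.zero_apply, neg_zero]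
  rw [this, add_zero]

theorem ext_inj (h2 : (2 : F) ≠ 0) : Function.Injective (ext h2) := by
  intro g h hgh
  ext1 x
  have h1 := congrArg (fun k : V F ≃ₗ[F] V F => pp (k (jj x))) hgh
  simpa only [ext_jj, pp_jj h2] using h1

theorem f0_eq (x y z : W F) : bl (zornMul (jj x) (jj y)) (jj z) = - F0 x y z := by
  simp only [bl, mul0, mul1, mul2, mul3, mul4, mul5, mul6, mul7, jj0, jj1, jj2, jj3, jj4, jj5, jj6,
    jj7, F0, d3]
  ring

theorem tr_mul (x y : W F) : tr (zornMul (jj x) (jj y)) = - bl (jj x) (jj y) := by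
  simp only [bl, mul0, mul1, mul2, mul3, mul4, mul5, mul6, mul7, jj0, jj1, jj2, jj3, jj4, jj5, jj6,
    jj7, tr]
  ring

theorem bl_jp (h2 : (2 : F) ≠ 0) (y : V F) (z : W F) : bl (jj (pp y)) (jj z) = bl y (jj z) := by
  conv_rhs => rw [← split h2 y]
  rw [bl_add', bl_smul', bl_comm o, bl_o, tr_jj, mul_zero, zero_add]

theorem nondeg (h2 : (2 : F) ≠ 0) {x y : W F} (h : ∀ z, bl (jj x) (jj z) = bl (jj y) (jj z)) :
    x = y := by
  have h' : ∀ z : W F, -(2 * (x 0 * z 0)) - (x 1 * z 4 + x 2 * z 5 + x 3 * z 6)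
      - (z 1 * x 4 + z 2 * x 5 + z 3 * x 6) = -(2 * (y 0 * z 0)) - (y 1 * z 4 + y 2 * z 5 + y 3 * z 6)
      - (z 1 * y 4 + z 2 * y 5 + z 3 * y 6) := by
    intro z
    have := h z
    simp only [bl, jj0, jj1, jj2, jj3, jj4, jj5, jj6, jj7] at this
    linear_combination this
  have s0 := h' ![1, 0, 0, 0, 0, 0, 0]
  have s1 := h' ![0, 1, 0, 0, 0, 0, 0]
  have s2 := h' ![0, 0, 1, 0, 0, 0, 0]
  have s3 := h' ![0, 0, 0, 1, 0, 0, 0]
  have s4 := h' ![0, 0, 0, 0, 1, 0, 0]
  have s5 := h' ![0, 0, 0, 0, 0, 1, 0]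
  have s6 := h' ![0, 0, 0, 0, 0, 0, 1]
  simp only [Matrix.cons_val_zero, Matrix.cons_val_one, Matrix.cons_val, mul_zero, mul_one,
    add_zero, zero_add, sub_zero, zero_mul, one_mul, neg_zero, zero_sub] at s0 s1 s2 s3 s4 s5 s6
  apply ext7
  · apply mul_left_cancel₀ h2
    linear_combination -s0
  · linear_combination -s4
  · linear_combination -s5
  · linear_combination -s6
  · linear_combination -s1
  · linear_combination -s2
  · linear_combination -s3

/-! ### `F0` as a trilinear form and its quadratic form -/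

theorem F0_add1 (x x' y z : W F) : F0 (x + x') y z = F0 x y z + F0 x' y z := by
  simp only [F0, d3, Pi.add_apply]; ring
theorem F0_add2 (x y y' z : W F) : F0 x (y + y') z = F0 x y z + F0 x y' z := by
  simp only [F0, d3, Pi.add_apply]; ring
theorem F0_add3 (x y z z' : W F) : F0 x y (z + z') = F0 x y z + F0 x y z' := by
  simp only [F0, d3, Pi.add_apply]; ring
theorem F0_smul1 (c : F) (x y z : W F) : F0 (c • x) y z = c * F0 x y z := by
  simp only [F0, d3, Pi.smul_apply, smul_eq_mul]; ring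
theorem F0_smul2 (c : F) (x y z : W F) : F0 x (c • y) z = c * F0 x y z := by
  simp only [F0, d3, Pi.smul_apply, smul_eq_mul]; ring
theorem F0_smul3 (c : F) (x y z : W F) : F0 x y (c • z) = c * F0 x y z := by
  simp only [F0, d3, Pi.smul_apply, smul_eq_mul]; ring

/-- `F0` as a trilinear form -/
def f0 (F : Type*) [Field F] : W F →ₗ[F] W F →ₗ[F] W F →ₗ[F] F :=
  LinearMap.mk₂ F (fun x y => ({ toFun := fun z => F0 x y z
                                 map_add' := F0_add3 x y
                                 map_smul' := fun c z => F0_smul3 c x y z } : W F →ₗ[F] F))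
    (fun x x' y => LinearMap.ext fun z => F0_add1 x x' y z)
    (fun c x y => LinearMap.ext fun z => F0_smul1 c x y z)
    (fun x y y' => LinearMap.ext fun z => F0_add2 x y y' z)
    (fun c x y => LinearMap.ext fun z => F0_smul2 c x y z)

theorem f0_apply (x y z : W F) : f0 F x y z = F0 x y z := rfl

theorem f0_isAlt : IsAltForm (f0 F) where
  self x y := by rw [f0_apply]; simp only [F0, d3]; ring
  z23 x y := by rw [f0_apply]; simp only [F0, d3]; ring

/-- the quadratic form of `F0` -/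
theorem Qf_f0 (x : W F) : Qf (Pi.basisFun F (Fin 7)) (f0 F) x = nm (jj x) := by
  have hr : ((Pi.basisFun F (Fin 7)).repr x : Fin 7 → F) = x := by
    funext i
    exact Pi.basisFun_repr F (Fin 7) x i
  rw [Qf_apply, hr]
  simp only [qf, pf6, pf21, pf4, Phi_apply, coord, f0_apply, F0, d3, Pi.basisFun_apply,
    Pi.single_apply]
  simp only [Fin.reduceEq, if_false, if_true, mul_zero, zero_mul, sub_zero, zero_sub, add_zero,
    zero_add, mul_one, one_mul, neg_zero, sub_self, nm, jj0, jj1, jj2, jj3, jj4, jj5, jj6, jj7]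
  ring

theorem jj_zero : jj (0 : W F) = 0 := by
  apply ext8 <;> simp only [jj0, jj1, jj2, jj3, jj4, jj5, jj6, jj7, Pi.zero_apply, neg_zero]

theorem nm_map {g : W F →ₗ[F] W F} (hg : ∀ x y z, F0 (g x) (g y) (g z) = F0 x y z) (x : W F) :
    nm (jj (g x)) * LinearMap.det g = nm (jj x) := by
  by_cases hx : x = 0
  · rw [hx, map_zero, jj_zero]
    have : nm (0 : V F) = 0 := by simp only [nm, Pi.zero_apply]; ring
    rw [this, zero_mul]
  · obtain ⟨k, hk⟩ : ∃ k, x k ≠ 0 := by
      by_contra h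
      push Not at h
      exact hx (funext h)
    set e := Pi.basisFun F (Fin 7) with he
    have h1 := pf6_eq e (f0_isAlt (F := F)) x (e ∘ k.succAbove)
    have h3 := pf6_eq e (f0_isAlt (F := F)) (g x) (g ∘ (e ∘ k.succAbove))
    have h4 : (Matrix.vecCons (g x) (g ∘ (e ∘ k.succAbove))) =
        g ∘ (Matrix.vecCons x (e ∘ k.succAbove)) := by
      funext i
      refine Fin.cases ?_ (fun i => ?_) i <;> rfl
    rw [h4, e.det_comp] at h3
    have h5 : pf6 (fun u v => f0 F (g x) u v) ((g ∘ (e ∘ k.succAbove)) 0)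
        ((g ∘ (e ∘ k.succAbove)) 1) ((g ∘ (e ∘ k.succAbove)) 2) ((g ∘ (e ∘ k.succAbove)) 3)
        ((g ∘ (e ∘ k.succAbove)) 4) ((g ∘ (e ∘ k.succAbove)) 5) =
        pf6 (fun u v => f0 F x u v) ((e ∘ k.succAbove) 0)
        ((e ∘ k.succAbove) 1) ((e ∘ k.succAbove) 2) ((e ∘ k.succAbove) 3)
        ((e ∘ k.succAbove) 4) ((e ∘ k.succAbove) 5) := by
      simp only [pf6, pf4, f0_apply, Function.comp_apply, hg]
    rw [h5, h1, det_cons, Qf_f0, Qf_f0] at h3
    have hr : e.repr x k = x k := Pi.basisFun_repr F (Fin 7) x k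
    rw [hr] at h3
    have hk' : (-1) ^ (k : ℕ) * x k ≠ 0 := mul_ne_zero (pow_ne_zero _ (by norm_num)) hk
    apply mul_right_cancel₀ hk'
    linear_combination -h3

theorem bl_map {g : W F →ₗ[F] W F} (hg : ∀ x y z, F0 (g x) (g y) (g z) = F0 x y z)
    (hd : LinearMap.det g = 1) (x y : W F) : bl (jj (g x)) (jj (g y)) = bl (jj x) (jj y) := by
  have h1 : ∀ x, nm (jj (g x)) = nm (jj x) := fun x => by
    have := nm_map hg x
    rwa [hd, mul_one] at this
  have h3 := h1 (x + y)
  rw [map_add, jj_add, jj_add, nm_add, nm_add, h1, h1] at h3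
  exact add_left_cancel h3

theorem ext_mem (h2 : (2 : F) ≠ 0) {g : W F ≃ₗ[F] W F}
    (hg : ∀ x y z, F0 (g x) (g y) (g z) = F0 x y z) (hd : LinearMap.det (g : W F →ₗ[F] W F) = 1) :
    ext h2 g ∈ AutO F := by
  have hb := bl_map (g := (g : W F →ₗ[F] W F)) hg hd
  have key : ∀ u v : W F, ext h2 g (zornMul (jj u) (jj v)) = zornMul (jj (g u)) (jj (g v)) := by
    intro u v
    rw [← split h2 (zornMul (jj (g u)) (jj (g v))), ext_apply, tr_mul, tr_mul]
    have h1 : bl (jj (g u)) (jj (g v)) = bl (jj u) (jj v) := hb u v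
    rw [h1]
    congr 2
    apply nondeg h2
    intro z
    obtain ⟨w, rfl⟩ := g.surjective z
    have h3 : bl (jj (g (pp (zornMul (jj u) (jj v))))) (jj (g w)) =
      bl (jj (pp (zornMul (jj u) (jj v)))) (jj w) := hb _ _
    rw [h3, bl_jp h2, bl_jp h2, f0_eq, f0_eq, hg]
  intro x y
  have hx := split h2 x
  have hy := split h2 y
  rw [← hx, ← hy]
  simp only [zmul_add, zadd_mul, zmul_smul, zsmul_mul, o_mul, mul_o, map_add, map_smul, key,
    ext_o, ext_jj]

theorem exists_ext (h2 : (2 : F) ≠ 0) {h : V F ≃ₗ[F] V F} (hh : h ∈ AutO F) :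
    ∃ g : W F ≃ₗ[F] W F, ext h2 g = h := by
  have h0 : ∀ x : W F, jj (pp (h (jj x))) = h (jj x) := by
    intro x
    have h1 := split h2 (h (jj x))
    rwa [map_tr hh, tr_jj, zero_div, zero_smul, zero_add] at h1
  have hh' := (AutO F).inv_mem hh
  have h0' : ∀ x : W F, jj (pp (h⁻¹ (jj x))) = h⁻¹ (jj x) := by
    intro x
    have h1 := split h2 (h⁻¹ (jj x))
    rwa [map_tr hh', tr_jj, zero_div, zero_smul, zero_add] at h1
  have hi : ∀ z, h (h⁻¹ z) = z := fun z => h.apply_symm_apply z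
  have hi' : ∀ z, h⁻¹ (h z) = z := fun z => h.symm_apply_apply z
  refine ⟨{ toFun := fun x => pp (h (jj x))
            map_add' := fun x y => by rw [jj_add, map_add, pp_add]
            map_smul' := fun c x => by rw [jj_smul, map_smul, pp_smul]; rfl
            invFun := fun x => pp (h⁻¹ (jj x))
            left_inv := fun x => by
              show pp (h⁻¹ (jj (pp (h (jj x))))) = x
              rw [h0, hi', pp_jj h2]
            right_inv := fun x => by
              show pp (h (jj (pp (h⁻¹ (jj x))))) = x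
              rw [h0', hi, pp_jj h2] }, ?_⟩
  ext1 y
  rw [ext_apply]
  show (tr y / 2) • o + jj (pp (h (jj (pp y)))) = h y
  rw [h0]
  conv_rhs => rw [← split h2 y, map_add, map_smul, map_o hh]

theorem of_ext_mem (h2 : (2 : F) ≠ 0) {g : W F ≃ₗ[F] W F} (h : ext h2 g ∈ AutO F) :
    (∀ x y z, F0 (g x) (g y) (g z) = F0 x y z) ∧ LinearMap.det (g : W F →ₗ[F] W F) = 1 := by
  have h1 : ∀ x y z, F0 (g x) (g y) (g z) = F0 x y z := by
    intro x y z
    have h3 := f0_eq (g x) (g y) (g z)
    rw [← ext_jj h2, ← ext_jj h2, ← ext_jj h2, ← mem_AutO.1 h, map_bl h, f0_eq] at h3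
    exact (neg_injective h3).symm
  refine ⟨h1, ?_⟩
  have h3 := nm_map (g := (g : W F →ₗ[F] W F)) h1 ![1, 0, 0, 0, 0, 0, 0]
  have h4 : nm (jj ((g : W F →ₗ[F] W F) ![1, 0, 0, 0, 0, 0, 0])) = nm (jj ![1, 0, 0, 0, 0, 0, 0]) := by
    have := map_nm h (jj ![1, 0, 0, 0, 0, 0, 0])
    rwa [ext_jj] at this
  rw [h4] at h3
  have h5 : nm (jj (![1, 0, 0, 0, 0, 0, 0] : W F)) = -1 := by
    simp only [nm, jj0, jj1, jj2, jj3, jj4, jj5, jj6, jj7, Matrix.cons_val_zero,
        Matrix.cons_val_one, Matrix.cons_val]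
    ring
  rw [h5] at h3
  linear_combination -h3

/-- invertible matrices as linear equivalences -/
noncomputable def toE7 (K : Type*) [Field K] : GL (Fin 7) K ≃* (W K ≃ₗ[K] W K) :=
  Matrix.GeneralLinearGroup.toLin.trans (LinearMap.GeneralLinearGroup.generalLinearEquiv K (W K))

theorem toE7_apply (g : GL (Fin 7) F) (x : W F) :
    toE7 F g x = (g : Matrix (Fin 7) (Fin 7) F) *ᵥ x := rfl

theorem toE7_coe (g : GL (Fin 7) F) :
    (toE7 F g : W F →ₗ[F] W F) = Matrix.toLin' (g : Matrix (Fin 7) (Fin 7) F) := by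
  ext1 x
  rfl

/-- `G₂(F)` is the stabiliser of the standard 3-form in `SL₇(F)` -/
theorem m0_iso (h2 : (2 : F) ≠ 0) : Nonempty (M0 F ≃* Cfsg.Lie.G2 F) := by
  have h1 : ((M0 F).map ((ext h2).comp (toE7 F).toMonoidHom)) =
      (Cfsg.Lie.G2 F).map (toE F).toMonoidHom := by
    ext h
    constructor
    · rintro ⟨g, hg, rfl⟩
      refine ⟨(toE F).symm (ext h2 (toE7 F g)), ?_, ?_⟩
      · show (toE F).symm (ext h2 (toE7 F g)) ∈ Cfsg.Lie.G2 F
        rw [← toE_mem, MulEquiv.apply_symm_apply]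
        refine ext_mem h2 hg.2 ?_
        rw [toE7_coe, LinearMap.det_toLin']
        exact hg.1
      · exact MulEquiv.apply_symm_apply _ _
    · rintro ⟨k, hk, rfl⟩
      have hk' : toE F k ∈ AutO F := toE_mem.2 hk
      obtain ⟨g, hg⟩ := exists_ext h2 hk'
      rw [← hg] at hk'
      obtain ⟨h3, h4⟩ := of_ext_mem h2 hk'
      refine ⟨(toE7 F).symm g, ?_, ?_⟩
      · have h5 : toE7 F ((toE7 F).symm g) = g := MulEquiv.apply_symm_apply _ _
        constructor
        · rw [← h5, toE7_coe, LinearMap.det_toLin'] at h4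
          exact h4
        · intro x y z
          rw [← toE7_apply, ← toE7_apply, ← toE7_apply, h5]
          exact h3 x y z
      · show ext h2 (toE7 F ((toE7 F).symm g)) = toE F k
        rw [MulEquiv.apply_symm_apply, hg]
  have hi1 : Function.Injective ((ext h2).comp (toE7 F).toMonoidHom) :=
    (ext_inj h2).comp (toE7 F).injective
  exact ⟨((M0 F).equivMapOfInjective _ hi1).trans ((MulEquiv.subgroupCongr h1).trans
    ((Cfsg.Lie.G2 F).equivMapOfInjective (toE F).toMonoidHom (toE F).injective).symm)⟩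

end Cfsg.Agent.H856.G2M
end

-- part: H179/G2Main
section
/-!
# Maximal subgroups of `Ω₇(q)` preserving an alternating 3-form are `G₂(q)`
-/

namespace Cfsg.Agent.H179.G2

open QuadraticMap Module LieClassical.OrthFinite LieClassical.OrthCore LieClassical.OrthTrans
open H856.Sv

theorem ne_zero_one {F : Type*} [Field F] (h2 : (2 : F) ≠ 0) : ∃ a : F, a ≠ 0 ∧ a ≠ 1 := by
  refine ⟨2, h2, ?_⟩
  intro h
  have h1 : (1 : F) + 1 = 1 := by rw [one_add_one_eq_two]; exact h
  exact one_ne_zero (add_eq_left.1 h1)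

theorem g2_simple {F : Type*} [Field F] [Finite F] (h2 : (2 : F) ≠ 0) :
    IsSimpleGroup ↥(Cfsg.Lie.G2 F) := by
  obtain ⟨e2⟩ := Cfsg.Agent.H638.G2Iso.equiv (F := F)
  have : IsSimpleGroup ↥(Lie.chevG2.group F) := (Cfsg.Agent.S1055.result (ne_zero_one h2)).1
  exact e2.isSimpleGroup

theorem g2_perfect {F : Type*} [Field F] [Finite F] (h2 : (2 : F) ≠ 0) :
    commutator ↥(Cfsg.Lie.G2 F) = ⊤ := by
  obtain ⟨e2⟩ := Cfsg.Agent.H638.G2Iso.equiv (F := F)
  have hp0 : commutator ↥(Lie.chevG2.group F) = ⊤ :=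
    Cfsg.Agent.S1052.result Lie.chevG2 (by simp) (fun _ => ne_zero_one h2)
  have h1 : (commutator ↥(Lie.chevG2.group F)).map e2.symm.toMonoidHom =
      commutator ↥(Cfsg.Lie.G2 F) := by
    rw [commutator_def, Subgroup.map_commutator, commutator_def, ← MonoidHom.range_eq_map,
      MonoidHom.range_eq_top.2 e2.symm.surjective]
  rw [← h1, hp0, ← MonoidHom.range_eq_map, MonoidHom.range_eq_top.2 e2.symm.surjective]

variable {F V : Type*} [Field F] [AddCommGroup V] [Module F V]

/-- a subgroup isomorphic to a perfect group is perfect -/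
theorem perfect_of_equiv {G K : Type*} [Group G] [Group K] {M : Subgroup G} (i : M ≃* K)
    (h : commutator K = ⊤) : ⁅M, M⁆ = M := by
  have h1 : commutator M = ⊤ := by
    have : (commutator K).map i.symm.toMonoidHom = commutator M := by
      rw [commutator_def, Subgroup.map_commutator, commutator_def, ← MonoidHom.range_eq_map,
        MonoidHom.range_eq_top.2 i.symm.surjective]
    rw [← this, h, ← MonoidHom.range_eq_map, MonoidHom.range_eq_top.2 i.symm.surjective]
  have h2 := congrArg (Subgroup.map M.subtype) h1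
  rw [commutator_def, Subgroup.map_commutator, ← MonoidHom.range_eq_map, Subgroup.range_subtype] at h2
  exact h2

/-- the linear automorphisms preserving `f` -/
def Iv (f : V →ₗ[F] V →ₗ[F] V →ₗ[F] F) : Subgroup (V ≃ₗ[F] V) where
  carrier := {g | InvBy f g}
  mul_mem' {a b} ha hb := by
    intro x y z
    change f (a (b x)) (a (b y)) (a (b z)) = _
    rw [ha, hb]
  one_mem' := fun x y z => rfl
  inv_mem' {a} ha := by
    intro x y z
    have := ha (a⁻¹ x) (a⁻¹ y) (a⁻¹ z)
    rw [show a (a⁻¹ x) = x from a.apply_symm_apply x, show a (a⁻¹ y) = y from a.apply_symm_apply y,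
      show a (a⁻¹ z) = z from a.apply_symm_apply z] at this
    exact this.symm

/-- **THEOREM A**: a maximal subgroup of `Ω₇(F)` whose socle preserves a nonzero alternating
3-form has socle `G₂(F)` -/
theorem thmA [Finite F] {Q : QuadraticForm F V} {H P : Subgroup (V ≃ₗ[F] V)} (hM : Max7 Q H P)
    (f : V →ₗ[F] V →ₗ[F] V →ₗ[F] F) (hf : IsAltForm f) (hf0 : f ≠ 0)
    (hinv : ∀ g ∈ P, ∀ x y z, f (g x) (g y) (g z) = f x y z) :
    Nonempty (P ≃* Cfsg.Lie.G2 F) := by
  have h2 := hM.two_ne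
  have hfd := hM.finiteDim
  let e : Basis (Fin 7) F V := Module.finBasisOfFinrankEq F V hM.finrank_eq
  have hP : PHyp P := ⟨hM.perfect, hM.irr, hM.schur⟩
  have N : Nice e f := hP.nice h2 hf hf0 hinv
  obtain ⟨k, n, C⟩ := N.exists_Comp (PHyp.null e f)
  obtain ⟨B, l, hl, hB⟩ := C.normal_form
  obtain ⟨i1⟩ := Mf_equiv f B hl hB
  obtain ⟨i2⟩ := Cfsg.Agent.H856.G2M.m0_iso (F := F) h2
  have i := i1.trans i2
  have hMp : ⁅Mf f, Mf f⁆ = Mf f := perfect_of_equiv i (g2_perfect h2)
  -- the form `Q` is proportional to `Qf e f`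
  have hPO : P ≤ O Q := hM.PH.trans hM.H_le_O
  obtain ⟨c, hc⟩ := hP.form_eq N hinv (polarBilin Q) (fun g hg x y => by
    change polar Q (g x) (g y) = polar Q x y
    exact hM.pol (hM.PH hg) x y)
  have hcp : ∀ x y, polar Q x y = c * bb e f x y := hc
  have hc0 : c ≠ 0 := by
    rintro rfl
    exact e.ne_zero 0 (hM.nondeg (e 0) fun y => by rw [hcp, zero_mul])
  have hQc : ∀ x, Q x = c * Qf e f x := by
    intro x
    have h1 := hcp x x
    rw [QuadraticMap.polar_self, bb_self, two_smul] at h1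
    exact mul_left_cancel₀ h2 (by linear_combination h1)
  -- `Mf f ≤ E Q`
  have hMO : Mf f ≤ O Q := by
    intro g hg
    rw [mem_O]
    intro x
    rw [hQc, hQc, qf_inv hf hg.2 hg.1]
  have hME : Mf f ≤ E Q := by
    rw [← hMp, ← hM.comm_eq]
    exact Subgroup.commutator_mono hMO hMO
  -- the stabiliser of the line spanned by `f`
  let S : Subgroup (V ≃ₗ[F] V) :=
    { carrier := {g | g ∈ E Q ∧ ∃ t : F, t ≠ 0 ∧ ∀ x y z, f (g x) (g y) (g z) = t * f x y z}
      mul_mem' := by
        rintro a b ⟨ha, s, hs, hsa⟩ ⟨hb, t, ht, htb⟩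
        refine ⟨(E Q).mul_mem ha hb, s * t, mul_ne_zero hs ht, fun x y z => ?_⟩
        change f (a (b x)) (a (b y)) (a (b z)) = _
        rw [hsa, htb, mul_assoc]
      one_mem' := ⟨(E Q).one_mem, 1, one_ne_zero, fun x y z => (one_mul _).symm⟩
      inv_mem' := by
        rintro a ⟨ha, s, hs, hsa⟩
        refine ⟨(E Q).inv_mem ha, s⁻¹, inv_ne_zero hs, fun x y z => ?_⟩
        have := hsa (a⁻¹ x) (a⁻¹ y) (a⁻¹ z)
        rw [show a (a⁻¹ x) = x from a.apply_symm_apply x, show a (a⁻¹ y) = y from a.apply_symm_apply y,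
          show a (a⁻¹ z) = z from a.apply_symm_apply z] at this
        rw [this, ← mul_assoc, inv_mul_cancel₀ hs, one_mul] }
  have hHS : H ≤ S := by
    intro h hh
    refine ⟨hM.le hh, ?_⟩
    -- the transformed form
    let fh : V →ₗ[F] V →ₗ[F] V →ₗ[F] F :=
      ((f.compl₁₂ (h : V →ₗ[F] V) (h : V →ₗ[F] V)).compr₂ ((h : V →ₗ[F] V).lcomp F F))
    have hfh : ∀ x y z, fh x y z = f (h x) (h y) (h z) := fun x y z => rfl
    have hfhA : IsAltForm fh := ⟨fun x y => by rw [hfh, hf.self], fun x y => by rw [hfh, hf.z23]⟩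
    obtain ⟨t, ht⟩ := hP.uniq h2 e hf hf0 hinv hfhA (by
      intro g hg x y z
      rw [hfh, hfh]
      have h3 := hM.normal h hh g hg
      have h4 : ∀ v, h (g v) = (h * g * h⁻¹) (h v) := by
        intro v
        change h (g v) = h (g (h.symm (h v)))
        rw [LinearEquiv.symm_apply_apply]
      rw [h4, h4, h4, hinv _ h3])
    refine ⟨t, ?_, fun x y z => ?_⟩
    · rintro rfl
      apply hf0
      ext x y z
      have := congrArg (fun w : V →ₗ[F] V →ₗ[F] V →ₗ[F] F => w (h.symm x) (h.symm y) (h.symm z)) ht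
      simp only [hfh, LinearEquiv.apply_symm_apply, zero_smul, LinearMap.zero_apply] at this
      rw [this]; rfl
    · rw [← hfh, ht]; rfl
  have hSE : S ≤ E Q := fun g hg => hg.1
  have hMS : Mf f ≤ S := fun g hg => ⟨hME hg, 1, one_ne_zero, fun x y z => by
    rw [one_mul]; exact hg.2 x y z⟩
  have hMH : Mf f ≤ H := by
    rcases hM.max S hHS hSE with h | h
    · rw [← h]; exact hMS
    · exfalso
      -- `E Q` preserves `f`
      have hEperf : ⁅E Q, E Q⁆ = E Q := hM.good.E_perfect
      have hEI : ∀ g ∈ E Q, InvBy f g := by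
        let I : Subgroup (V ≃ₗ[F] V) := E Q ⊓ Iv f
        have h3 : ⁅E Q, E Q⁆ ≤ I := by
          rw [Subgroup.commutator_le]
          intro a ha b hb
          refine ⟨Subgroup.commutator_le.1 (le_of_eq hEperf) a ha b hb, ?_⟩
          rw [← h] at ha hb
          obtain ⟨-, s, hs, hsa⟩ := ha
          obtain ⟨-, t, ht, htb⟩ := hb
          change InvBy f (a * b * a⁻¹ * b⁻¹)
          intro x y z
          have e1 : ∀ v, (a * b * a⁻¹ * b⁻¹) v = a (b (a.symm (b.symm v))) := fun v => rfl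
          rw [e1, e1, e1, hsa, htb]
          have h5 := hsa (a.symm (b.symm x)) (a.symm (b.symm y)) (a.symm (b.symm z))
          have h6 := htb (b.symm x) (b.symm y) (b.symm z)
          simp only [LinearEquiv.apply_symm_apply] at h5 h6
          rw [h6, h5]; ring
        rw [hEperf] at h3
        exact fun g hg => (h3 hg).2
      exact C.not_inv hc0 hcp hEI
  have hPM : P ≤ Mf f := fun g hg => ⟨hP.det_one hg, hinv g hg⟩
  -- `P` is normal in the simple group `Mf f`
  have hs2 := g2_simple (F := F) h2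
  have : IsSimpleGroup (Mf f) := i.isSimpleGroup
  have hnorm : (P.subgroupOf (Mf f)).Normal := by
    constructor
    intro x hx g
    exact hM.normal g (hMH g.2) x hx
  rcases hnorm.eq_bot_or_eq_top with h | h
  · exfalso
    rw [Subgroup.subgroupOf_eq_bot, disjoint_iff, inf_eq_left.2 hPM] at h
    have := hM.simple
    rw [h] at this
    exact (not_subsingleton_iff_nontrivial.2 this.toNontrivial) inferInstance
  · rw [Subgroup.subgroupOf_eq_top] at h
    have : P = Mf f := le_antisymm hPM h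
    rw [this]
    exact ⟨i⟩

end Cfsg.Agent.H179.G2
end

private theorem dce_0e6462e1bd0b : _root_.True := by
  try have : _root_.True := by simp only [_root_.Cfsg.Agent.H179.G2.Comp.Um.eq_1]
  try have : _root_.True := by simp only [_root_.Cfsg.Agent.H179.G2.Nice.cr.congr_simp]
  try have : _root_.True := by simp only [_root_.Cfsg.Agent.H179.G2.Comp.Up.eq_1]
  try have : _root_.True := by simp only [_root_.Cfsg.Agent.H856.G2M.ext.congr_simp]
  try have : _root_.True := by simp only [_root_.Cfsg.Agent.H179.G2.RR.eq_1]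
  try have : _root_.True := by simp only [_root_.Cfsg.Agent.H179.G2.cj.eq_1]
  try have : _root_.True := by simp only [_root_.Cfsg.Agent.H179.G2.psi.eq_1]
  try have : _root_.True := by simp only [_root_.Cfsg.Agent.H179.G2.F0.eq_1]
  try have : _root_.True := by simp only [_root_.Cfsg.Agent.H179.G2.mix4.eq_1]
  try have : _root_.True := by simp only [_root_.Cfsg.Agent.H179.G2.Nice.Psi.eq_1]
  try have : _root_.True := by simp only [_root_.Cfsg.Agent.H179.G2.Nice.Psi.congr_simp]
  try have : _root_.True := by simp only [_root_.Cfsg.Agent.H179.G2.d3.eq_1]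
  try have : _root_.True := by simp only [_root_.Cfsg.Agent.H179.G2.Nice.T.congr_simp]
  exact _root_.True.intro
end

-- part: H856/Sx1
section
prune_inst 0x100044001001000000000004000000002000000000000000800040004808c0000400020a0300000000004040830006001000000424000000e000000011800800000000200000000000000000000000000000000000000000000000000000000000000000
set_option linter.all false
open scoped Cfsg.Agent.FastGrp

-- part: H856/Sw1
section
/-!
# `SL₂(8)` : generators, relations, weights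

`Oct K` : a field with 8 elements with `b ^ 3 = b + 1`.
-/

set_option autoImplicit false
set_option linter.unusedSectionVars false

open scoped Pointwise

namespace Cfsg.Agent.H856.Sw

open Matrix Cfsg.Agent.H464.Sl2 Cfsg.Agent.H856.Sv

section field

variable {K : Type*} [Field K] [Fintype K] (hK : Fintype.card K = 8)

include hK

theorem two_eq : (2 : K) = 0 := by
  have h1 : ((Fintype.card K : ℕ) : K) = 0 := Nat.cast_card_eq_zero K
  rw [hK] at h1
  have h2 : (2 : K) * (2 * 2) = 0 := by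
    have : ((8 : ℕ) : K) = 2 * (2 * 2) := by norm_num
    rw [← this]
    exact h1
  rcases mul_eq_zero.1 h2 with h | h
  · exact h
  · rcases mul_eq_zero.1 h with h | h <;> exact h

theorem pow_seven (x : Kˣ) : x ^ 7 = 1 := by
  have h1 := FiniteField.pow_card_sub_one_eq_one (x : K) x.ne_zero
  rw [hK] at h1
  apply Units.ext
  rw [Units.val_pow_eq_pow_val, Units.val_one]
  exact h1

theorem neg_eq' (x : K) : -x = x := by
  have h := two_eq hK
  linear_combination (-x) * h

/-- a primitive element with `b ^ 3 = b + 1` -/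
theorem exists_beta : ∃ b : Kˣ, (b : K) ^ 3 = b + 1 := by
  classical
  have h2 := two_eq hK
  obtain ⟨x, hx⟩ : ∃ x : Kˣ, x ≠ 1 := by
    by_contra h
    push Not at h
    have h1 : Fintype.card Kˣ = 7 := by rw [Fintype.card_units, hK]
    have h3 : Fintype.card Kˣ ≤ 1 := Fintype.card_le_one_iff.2 fun a b => by rw [h a, h b]
    omega
  have h7 : (x : K) ^ 7 = 1 := by
    have := pow_seven hK x
    rw [← Units.val_pow_eq_pow_val, this, Units.val_one]
  have hx1 : (x : K) + 1 ≠ 0 := by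
    intro h
    apply hx
    apply Units.ext
    rw [Units.val_one]
    linear_combination h - h2
  have hprod : ((x : K) + 1) * (((x : K) ^ 3 + x + 1) * ((x : K) ^ 3 + (x : K) ^ 2 + 1)) = 0 := by
    linear_combination h7 + ((x : K) ^ 6 + (x : K) ^ 5 + 2 * (x : K) ^ 4 + 2 * (x : K) ^ 3 + (x : K) ^ 2 + (x : K) + 1) * h2 - 0 * h2
  rcases mul_eq_zero.1 ((mul_eq_zero.1 hprod).resolve_left hx1) with h | h
  · exact ⟨x, by linear_combination h - ((x : K) + 1) * h2⟩
  · refine ⟨x⁻¹, ?_⟩
    have hxi : ((x⁻¹ : Kˣ) : K) * x = 1 := by rw [← Units.val_mul, inv_mul_cancel, Units.val_one]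
    have hx0 : (x : K) ^ 3 ≠ 0 := pow_ne_zero _ x.ne_zero
    apply mul_left_cancel₀ hx0
    have e3 : (x : K) ^ 3 * ((x⁻¹ : Kˣ) : K) ^ 3 = 1 := by rw [← mul_pow, mul_comm (x : K), hxi, one_pow]
    have e1 : (x : K) ^ 3 * ((x⁻¹ : Kˣ) : K) = (x : K) ^ 2 := by
      rw [pow_succ, mul_assoc, mul_comm (x : K), hxi, mul_one]
    rw [e3, mul_add, e1, mul_one]
    linear_combination -h + h2

theorem u_mul_self (x : K) : u x * u x = 1 := by
  rw [← u_add, show x + x = 0 by have h := two_eq hK; linear_combination x * h, u_zero]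

theorem mem_zpowers_of {a : Kˣ} (ha : a ≠ 1) (x : Kˣ) : x ∈ Subgroup.zpowers a := by
  classical
  have : Fact (Nat.Prime 7) := ⟨by norm_num⟩
  exact mem_zpowers_of_prime_card (p := 7) (by rw [Nat.card_eq_fintype_card, Fintype.card_units, hK]) ha

/-- every unit is a square -/
theorem sq_sqrt (x : Kˣ) : (x ^ 4) ^ 2 = x := by
  rw [← pow_mul, show 4 * 2 = 7 + 1 by norm_num, pow_add, pow_seven hK, one_mul, pow_one]

omit [Fintype K] hK in
theorem t_zpow (a : Kˣ) (n : ℤ) : t (a ^ n) = t a ^ n := map_zpow (tHom (K := K)) a n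

/-- generation -/
theorem gen_sl (S : Subgroup (_root_.Matrix.SpecialLinearGroup (Fin 2) K)) {a : Kˣ} (ha : a ≠ 1) (h1 : u (1 : K) ∈ S)
    (h2 : t a ∈ S) (h3 : w (1 : Kˣ) ∈ S) : S = ⊤ := by
  have ht : ∀ x : Kˣ, t x ∈ S := by
    intro x
    obtain ⟨n, hn⟩ := mem_zpowers_of hK ha x
    simp only at hn
    rw [← hn, t_zpow]
    exact S.zpow_mem h2 n
  have hu : ∀ x : K, u x ∈ S := by
    intro x
    by_cases hx : x = 0
    · rw [hx, u_zero]; exact S.one_mem
    have h4 := t_mul_u ((Units.mk0 x hx) ^ 4) (1 : K)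
    rw [← Units.val_pow_eq_pow_val, sq_sqrt hK, Units.val_mk0, mul_one] at h4
    have h5 : u x = t ((Units.mk0 x hx) ^ 4) * u 1 * (t ((Units.mk0 x hx) ^ 4))⁻¹ := by
      rw [h4, mul_inv_cancel_right]
    rw [h5]
    exact S.mul_mem (S.mul_mem (ht _) h1) (S.inv_mem (ht _))
  rw [eq_top_iff]
  intro g _
  rcases bruhat g with ⟨x, y, rfl⟩ | ⟨x, y, z, rfl⟩
  · exact S.mul_mem (hu x) (ht y)
  · rw [← w_one_mul_t]
    exact S.mul_mem (S.mul_mem (hu x) (S.mul_mem h3 (ht y))) (hu z)

omit [Fintype K] hK in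
/-- a matrix of determinant 1 -/
def sl (a b c d : K) (h : a * d - b * c = 1) : _root_.Matrix.SpecialLinearGroup (Fin 2) K :=
  ⟨!![a, b; c, d], by rw [det_fin_two_of]; exact h⟩

omit [Fintype K] hK in
@[simp] theorem sl_coe (a b c d : K) (h : a * d - b * c = 1) :
    (sl a b c d h : Matrix (Fin 2) (Fin 2) K) = !![a, b; c, d] := rfl

/-- involutions: the Weyl element is conjugate to a unipotent one -/
theorem w_conj : ∃ g : _root_.Matrix.SpecialLinearGroup (Fin 2) K, w (1 : Kˣ) * g = g * u 1 := by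
  have h2 := two_eq hK
  refine ⟨sl 1 0 1 1 (by ring), ?_⟩
  apply Subtype.ext
  ext i j
  (revert i j; simp only [_root_.Fin.forall_fin_succ, _root_.Matrix.SpecialLinearGroup.coe_mul, _root_.Cfsg.Agent.H464.Sl2.w_coe, _root_.inv_one, _root_.Units.val_one, _root_.Cfsg.Agent.H856.Sw.sl_coe, _root_.Matrix.cons_mul, _root_.Nat.succ_eq_add_one, Nat.reduceAdd, _root_.Matrix.vecMul_cons, _root_.Matrix.head_cons, _root_.zero_smul, _root_.Matrix.tail_cons, _root_.neg_smul, _root_.one_smul, _root_.Matrix.neg_cons, _root_.Matrix.neg_empty, _root_.Matrix.empty_vecMul, _root_.add_zero, _root_.zero_add, _root_.Matrix.empty_mul, _root_.Equiv.symm_apply_apply, _root_.Matrix.of_apply, _root_.Matrix.cons_val', _root_.Matrix.cons_val_fin_one, _root_.Cfsg.Agent.H464.Sl2.u_coe, _root_.Matrix.add_cons, _root_.Matrix.empty_add_empty, Fin.isValue, _root_.Matrix.cons_val_zero, _root_.Matrix.cons_val_succ, _root_.forall_const, _root_.and_self, _root_.true_and]) <;> (repeat' with_reducible apply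 And.intro) <;> linear_combination (-1 : K) * h2

/-- elements of the big cell with split trace -/
theorem wu_conj {l : Kˣ} (hl : (l : K) + ((l⁻¹ : Kˣ) : K) ≠ 0) : ∃ g : _root_.Matrix.SpecialLinearGroup (Fin 2) K,
    w (1 : Kˣ) * u ((l : K) + ((l⁻¹ : Kˣ) : K)) * g = g * t l := by
  have h2 := two_eq hK
  have hli : ((l⁻¹ : Kˣ) : K) * l = 1 := by rw [← Units.val_mul, inv_mul_cancel, Units.val_one]
  set m : K := ((l⁻¹ : Kˣ) : K) with hm
  set y : K := ((l : K) + m)⁻¹ with hy
  have hxx : ((l : K) + m) * y = 1 := mul_inv_cancel₀ hl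
  refine ⟨sl 1 y (l : K) (m * y) (by linear_combination hxx - (l : K) * y * h2), ?_⟩
  apply Subtype.ext
  ext i j
  fin_cases i <;> fin_cases j <;> simp only [← hm, _root_.Fin.zero_eta, _root_.Fin.isValue, _root_.Matrix.SpecialLinearGroup.coe_mul, _root_.Cfsg.Agent.H464.Sl2.w_coe, _root_.inv_one, _root_.Units.val_one, _root_.Cfsg.Agent.H464.Sl2.u_coe, _root_.Matrix.cons_mul, _root_.Nat.succ_eq_add_one, _root_.Nat.reduceAdd, _root_.Matrix.vecMul_cons, _root_.Matrix.head_cons, _root_.zero_smul, _root_.Matrix.tail_cons, _root_.neg_smul, _root_.one_smul, _root_.Matrix.neg_cons, _root_.neg_zero, _root_.Matrix.neg_empty, _root_.Matrix.empty_vecMul, _root_.add_zero, _root_.zero_add, _root_.Matrix.empty_mul, _root_.Equiv.symm_apply_apply, _root_.Cfsg.Agent.H856.Sw.sl_coe, _root_.Matrix.smul_cons, _root_.smul_eq_mul, _root_.Matrix.smul_empty, _root_.Matrix.add_cons, _root_.Matrix.empty_add_empty, _root_.Matrix.of_apply, _root_.Matrix.cons_val', _root_.Matrix.cons_val_zero,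 _root_.Matrix.cons_val_fin_one, _root_.Cfsg.Agent.H464.Sl2.t_coe, _root_.MulZeroClass.mul_zero, _root_.Fin.mk_one, _root_.Matrix.cons_val_one]
  · linear_combination -(l : K) * h2
  · linear_combination (-m * y) * h2
  · linear_combination hli + h2
  · linear_combination y * hli + y * h2

/-- an involution is conjugate to `u 1` -/
theorem invol_conj {g : _root_.Matrix.SpecialLinearGroup (Fin 2) K} (hg : g * g = 1) (hg1 : g ≠ 1) :
    ∃ k : _root_.Matrix.SpecialLinearGroup (Fin 2) K, g * k = k * u 1 := by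
  have h2 := two_eq hK
  have hdet : g.1 0 0 * g.1 1 1 - g.1 0 1 * g.1 1 0 = 1 := by
    have := g.2
    rwa [Matrix.det_fin_two] at this
  have hm : (g.1 * g.1 : Matrix (Fin 2) (Fin 2) K) = 1 := congrArg Subtype.val hg
  have m00 : g.1 0 0 * g.1 0 0 + g.1 0 1 * g.1 1 0 = 1 := by
    have := congrFun (congrFun hm 0) 0
    rwa [Matrix.mul_apply, Fin.sum_univ_two, Matrix.one_apply_eq] at this
  have m11 : g.1 1 0 * g.1 0 1 + g.1 1 1 * g.1 1 1 = 1 := by
    have := congrFun (congrFun hm 1) 1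
    rwa [Matrix.mul_apply, Fin.sum_univ_two, Matrix.one_apply_eq] at this
  have m01 : g.1 0 0 * g.1 0 1 + g.1 0 1 * g.1 1 1 = 0 := by
    have := congrFun (congrFun hm 0) 1
    rwa [Matrix.mul_apply, Fin.sum_univ_two, Matrix.one_apply_ne (by decide)] at this
  -- the diagonal entries agree
  have had : g.1 0 0 = g.1 1 1 := by
    by_contra hne
    have h3 : g.1 0 0 + g.1 1 1 ≠ 0 := by
      intro h
      apply hne
      linear_combination h - g.1 1 1 * h2
    have ha : g.1 0 0 = 0 := by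
      have : g.1 0 0 * (g.1 0 0 + g.1 1 1) = 0 := by
        linear_combination m00 - hdet + (g.1 0 0 * g.1 1 1 - g.1 0 1 * g.1 1 0) * h2
      exact (mul_eq_zero.1 this).resolve_right h3
    have hb : g.1 0 1 = 0 := by
      have : g.1 0 1 * (g.1 0 0 + g.1 1 1) = 0 := by linear_combination m01
      exact (mul_eq_zero.1 this).resolve_right h3
    rw [ha, hb] at hdet
    apply zero_ne_one (α := K)
    linear_combination hdet
  by_cases hc : g.1 1 0 = 0
  · have ha1 : g.1 0 0 = 1 := by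
      rw [hc] at m00
      have : (g.1 0 0 - 1) * (g.1 0 0 - 1) = 0 := by linear_combination m00 + (1 - g.1 0 0) * h2
      rcases mul_eq_zero.1 this with h | h <;> linear_combination h
    have hgu : g = u (g.1 0 1) := by
      apply Subtype.ext
      change g.1 = _
      ext i j
      (revert i j; simp only [hc, ha1, ← had, _root_.Fin.forall_fin_succ, Fin.isValue, _root_.Cfsg.Agent.H464.Sl2.u_coe, _root_.Matrix.of_apply, _root_.Matrix.cons_val', _root_.Matrix.cons_val_fin_one, _root_.Matrix.cons_val_zero, _root_.Matrix.cons_val_succ, _root_.Fin.succ_zero_eq_one, _root_.IsEmpty.forall_iff, _root_.and_true, _root_.and_self])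
    have hb0 : g.1 0 1 ≠ 0 := by
      intro h
      rw [h, u_zero] at hgu
      exact hg1 hgu
    refine ⟨t ((Units.mk0 _ hb0) ^ 4), ?_⟩
    have h4 := t_mul_u ((Units.mk0 _ hb0) ^ 4) (1 : K)
    rw [← Units.val_pow_eq_pow_val, sq_sqrt hK, Units.val_mk0, mul_one] at h4
    rw [h4, ← hgu]
  · let c : Kˣ := Units.mk0 _ hc
    have hgu : g = u (g.1 0 0 / c) * w c * u (g.1 0 0 / c) := by
      apply Subtype.ext
      change g.1 = _
      have hcc : (c : K) = g.1 1 0 := rfl
      ext i j
      (revert i j; simp only [hcc, _root_.Fin.forall_fin_succ, Fin.isValue, _root_.Matrix.SpecialLinearGroup.coe_mul, _root_.Cfsg.Agent.H464.Sl2.u_coe, _root_.Cfsg.Agent.H464.Sl2.w_coe, _root_.Units.val_inv_eq_inv_val, _root_.Matrix.cons_mul, _root_.Nat.succ_eq_add_one, Nat.reduceAdd, _root_.Matrix.vecMul_cons, _root_.Matrix.head_cons, _root_.one_smul, _root_.Matrix.tail_cons, _root_.Matrix.smul_cons, _root_.smul_eq_mul, _root_.MulZeroClass.mul_zero, _root_.Matrix.smul_empty, _root_.Matrix.empty_vecMul,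 _root_.add_zero, _root_.Matrix.add_cons, _root_.zero_add, _root_.Matrix.empty_add_empty, _root_.zero_smul, _root_.Matrix.empty_mul, _root_.Equiv.symm_apply_apply, _root_.mul_one, _root_.neg_smul, _root_.Matrix.neg_cons, _root_.neg_zero, _root_.Matrix.neg_empty, _root_.Matrix.of_apply, _root_.Matrix.cons_val', _root_.Matrix.cons_val_fin_one, _root_.Matrix.cons_val_zero, _root_.Matrix.cons_val_succ, _root_.Fin.succ_zero_eq_one, _root_.IsEmpty.forall_iff, _root_.and_true, _root_.true_and]) <;> (repeat' with_reducible apply And.intro) <;> field_simp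
      · linear_combination -m00 + g.1 0 1 * g.1 1 0 * h2
      · linear_combination -had
    have hwc : w c = t ((c ^ 4)⁻¹) * w 1 * t (c ^ 4) := by
      rw [mul_assoc, w_one_mul_t]
      have hcs : ((c : K) ^ 4) ^ 2 = c := by
        have := congrArg Units.val (sq_sqrt hK c)
        simpa using this
      apply Subtype.ext
      ext i j
      fin_cases i <;> fin_cases j <;> simp
      · rw [← sq, inv_pow, _root_.inv_inj]
        exact hcs.symm
      · rw [← sq]
        exact hcs.symm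
    obtain ⟨k, hk⟩ := w_conj hK
    refine ⟨u (g.1 0 0 / c) * t ((c ^ 4)⁻¹) * k, ?_⟩
    have hti : t (c ^ 4) * t ((c ^ 4)⁻¹) = 1 := by rw [← t_mul, mul_inv_cancel, t_one]
    have hux := u_mul_self hK (g.1 0 0 / c)
    generalize u (g.1 0 0 / c) = ux at hgu hux ⊢
    calc g * (ux * t ((c ^ 4)⁻¹) * k) =
        ux * w c * (ux * ux) * t ((c ^ 4)⁻¹) * k := by
          rw [hgu]
          simp only [mul_assoc]
      _ = ux * t ((c ^ 4)⁻¹) * w 1 * (t (c ^ 4) * t ((c ^ 4)⁻¹)) * k := by
          rw [hux, mul_one, hwc]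
          simp only [mul_assoc]
      _ = ux * t ((c ^ 4)⁻¹) * (w 1 * k) := by
          rw [hti, mul_one]
          simp only [mul_assoc]
      _ = ux * t ((c ^ 4)⁻¹) * k * u 1 := by
          rw [hk]
          simp only [mul_assoc]

end field

end Cfsg.Agent.H856.Sw
end

-- part: H856/Sw2
section
/-!
# Weights of a regular elementary abelian group of order 8 in dimension 7

`exists_frame` : a basis of weight vectors, permuted cyclically by the element of order 7.
-/

set_option autoImplicit false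
set_option linter.unusedSectionVars false

open scoped Pointwise

namespace Cfsg.Agent.H856.Sw

open Cfsg.Agent.H637.JW Cfsg.Agent.H856.Sv

variable {F : Type*} [Field F] {V : Type*} [AddCommGroup V] [Module F V]

/-- the relations of `2^3:7` -/
structure Wt (e0 e1 e2 c : V ≃ₗ[F] V) : Prop where
  s0 : ∀ v, e0 (e0 v) = v
  s1 : ∀ v, e1 (e1 v) = v
  s2 : ∀ v, e2 (e2 v) = v
  c01 : ∀ v, e0 (e1 v) = e1 (e0 v)
  c02 : ∀ v, e0 (e2 v) = e2 (e0 v)
  c12 : ∀ v, e1 (e2 v) = e2 (e1 v)
  k0 : ∀ v, c (e0 v) = e1 (c v)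
  k1 : ∀ v, c (e1 v) = e2 (c v)
  k2 : ∀ v, c (e2 v) = e0 (e1 (c v))
  c7 : ∀ v, c (c (c (c (c (c (c v)))))) = v
  ne : e0 ≠ 1

/-- sign tables -/
def sg : Fin 3 → Fin 7 → ℤ := ![![-1, -1, -1, 1, -1, 1, 1], ![1, -1, -1, -1, 1, -1, 1], ![1, 1, -1, -1, -1, 1, -1]]

/-- the characters -/
def ch : Fin 7 → Fin 3 → ZMod 2 :=
  ![![1, 0, 0], ![1, 1, 0], ![1, 1, 1], ![0, 1, 1], ![1, 0, 1], ![0, 1, 0], ![0, 0, 1]]

theorem ch_inj : Function.Injective ch := by decide +kernel

namespace Wt

variable {e0 e1 e2 c : V ≃ₗ[F] V} (hw : Wt e0 e1 e2 c)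

include hw

/-- one step -/
theorem step {x : V} {a b d : F} (h0 : e0 x = a • x) (h1 : e1 x = b • x) (h2 : e2 x = d • x) (ha : a * a = 1) :
    e0 (c x) = (a * d) • c x ∧ e1 (c x) = a • c x ∧ e2 (c x) = b • c x := by
  have a' : e1 (c x) = a • c x := by rw [← hw.k0, h0, map_smul]
  have b' : e2 (c x) = b • c x := by rw [← hw.k1, h1, map_smul]
  have d' : e0 (e1 (c x)) = d • c x := by rw [← hw.k2, h2, map_smul]
  refine ⟨?_, a', b'⟩
  rw [a', map_smul] at d'
  rw [mul_smul, ← d', smul_smul, ha, one_smul]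

/-- a vector with signs `-, +, +` -/
theorem exists_first (h2 : (2 : F) ≠ 0) : ∃ x : V, x ≠ 0 ∧ e0 x = (-1 : F) • x ∧ e1 x = (1 : F) • x ∧ e2 x = (1 : F) • x := by
  have half : ∀ y z : V, y + z = 0 → y - z = 0 → y = 0 := by
    intro y z h h'
    have h3 : (2 : F) • y = 0 := by
      rw [show (2 : F) • y = (y + z) + (y - z) by module, h, h', add_zero]
    exact (smul_eq_zero.1 h3).resolve_left h2
  -- an eigenvector with `e0 = -1`
  obtain ⟨y, hy, hy0⟩ : ∃ y : V, y ≠ 0 ∧ e0 y = -y := by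
    by_contra hno
    push Not at hno
    apply hw.ne
    apply LinearEquiv.ext
    intro v
    by_contra hne
    refine hno (e0 v - v) ?_ (by rw [map_sub, hw.s0, neg_sub])
    intro h
    exact hne (sub_eq_zero.1 h)
  obtain ⟨z, b, hz, hb, hz0, hz1⟩ : ∃ (z : V) (b : F), z ≠ 0 ∧ (b = 1 ∨ b = -1) ∧ e0 z = -z ∧ e1 z = b • z := by
    by_cases h : y + e1 y = 0
    · refine ⟨y, -1, hy, Or.inr rfl, hy0, ?_⟩
      rw [neg_smul, one_smul, eq_neg_iff_add_eq_zero, add_comm]
      exact h
    · refine ⟨y + e1 y, 1, h, Or.inl rfl, ?_, ?_⟩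
      · rw [map_add, hw.c01, hy0, map_neg]; abel
      · rw [map_add, hw.s1, one_smul, add_comm]
  obtain ⟨x, d, hx, hd, hx0, hx1, hx2⟩ : ∃ (x : V) (d : F), x ≠ 0 ∧ (d = 1 ∨ d = -1) ∧ e0 x = -x ∧ e1 x = b • x ∧
      e2 x = d • x := by
    by_cases h : z + e2 z = 0
    · refine ⟨z, -1, hz, Or.inr rfl, hz0, hz1, ?_⟩
      rw [neg_smul, one_smul, eq_neg_iff_add_eq_zero, add_comm]
      exact h
    · refine ⟨z + e2 z, 1, h, Or.inl rfl, ?_, ?_, ?_⟩
      · rw [map_add, hw.c02, hz0, map_neg]; abel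
      · rw [map_add, hw.c12, hz1, map_smul, smul_add]
      · rw [map_add, hw.s2, one_smul, add_comm]
  have n0 : e0 x = (-1 : F) • x := by rw [hx0, neg_smul, one_smul]
  have cne : ∀ y : V, y ≠ 0 → c y ≠ 0 := fun y hy h => hy (c.injective (by rw [h, map_zero]))
  have st : ∀ {x : V} {a b d : F}, e0 x = a • x → e1 x = b • x → e2 x = d • x → (a = 1 ∨ a = -1) →
    e0 (c x) = (a * d) • c x ∧ e1 (c x) = a • c x ∧ e2 (c x) = b • c x := fun h0 h1 h2 ha =>
      hw.step h0 h1 h2 (by rcases ha with rfl | rfl <;> norm_num)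
  -- one turn around the circle
  have f7 : ∀ y : V, y ≠ 0 → e0 y = (1 : F) • y → e1 y = (1 : F) • y → e2 y = (-1 : F) • y →
      ∃ x : V, x ≠ 0 ∧ e0 x = (-1 : F) • x ∧ e1 x = (1 : F) • x ∧ e2 x = (1 : F) • x := by
    intro y hy h0 h1 h2
    obtain ⟨g0, g1, g2⟩ := st h0 h1 h2 (Or.inl rfl)
    exact ⟨c y, cne y hy, by rw [g0, one_mul], g1, g2⟩
  have f6 : ∀ y : V, y ≠ 0 → e0 y = (1 : F) • y → e1 y = (-1 : F) • y → e2 y = (1 : F) • y →
      ∃ x : V, x ≠ 0 ∧ e0 x = (-1 : F) • x ∧ e1 x = (1 : F) • x ∧ e2 x = (1 : F) • x := by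
    intro y hy h0 h1 h2
    obtain ⟨g0, g1, g2⟩ := st h0 h1 h2 (Or.inl rfl)
    exact f7 (c y) (cne y hy) (by rw [g0, one_mul]) g1 g2
  have f5 : ∀ y : V, y ≠ 0 → e0 y = (-1 : F) • y → e1 y = (1 : F) • y → e2 y = (-1 : F) • y →
      ∃ x : V, x ≠ 0 ∧ e0 x = (-1 : F) • x ∧ e1 x = (1 : F) • x ∧ e2 x = (1 : F) • x := by
    intro y hy h0 h1 h2
    obtain ⟨g0, g1, g2⟩ := st h0 h1 h2 (Or.inr rfl)
    exact f6 (c y) (cne y hy) (by rw [g0]; norm_num) g1 g2
  have f4 : ∀ y : V, y ≠ 0 → e0 y = (1 : F) • y → e1 y = (-1 : F) • y → e2 y = (-1 : F) • y →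
      ∃ x : V, x ≠ 0 ∧ e0 x = (-1 : F) • x ∧ e1 x = (1 : F) • x ∧ e2 x = (1 : F) • x := by
    intro y hy h0 h1 h2
    obtain ⟨g0, g1, g2⟩ := st h0 h1 h2 (Or.inl rfl)
    exact f5 (c y) (cne y hy) (by rw [g0]; norm_num) g1 g2
  have f3 : ∀ y : V, y ≠ 0 → e0 y = (-1 : F) • y → e1 y = (-1 : F) • y → e2 y = (-1 : F) • y →
      ∃ x : V, x ≠ 0 ∧ e0 x = (-1 : F) • x ∧ e1 x = (1 : F) • x ∧ e2 x = (1 : F) • x := by
    intro y hy h0 h1 h2
    obtain ⟨g0, g1, g2⟩ := st h0 h1 h2 (Or.inr rfl)
    exact f4 (c y) (cne y hy) (by rw [g0]; norm_num) g1 g2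
  have f2 : ∀ y : V, y ≠ 0 → e0 y = (-1 : F) • y → e1 y = (-1 : F) • y → e2 y = (1 : F) • y →
      ∃ x : V, x ≠ 0 ∧ e0 x = (-1 : F) • x ∧ e1 x = (1 : F) • x ∧ e2 x = (1 : F) • x := by
    intro y hy h0 h1 h2
    obtain ⟨g0, g1, g2⟩ := st h0 h1 h2 (Or.inr rfl)
    exact f3 (c y) (cne y hy) (by rw [g0]; norm_num) g1 g2
  rcases hb with rfl | rfl <;> rcases hd with rfl | rfl
  · exact ⟨x, hx, n0, hx1, hx2⟩
  · exact f5 x hx n0 hx1 hx2
  · exact f2 x hx n0 hx1 hx2
  · exact f3 x hx n0 hx1 hx2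

/-- **the frame** -/
theorem exists_frame (h2 : (2 : F) ≠ 0) : ∃ v : Fin 7 → V, (∀ i, v i ≠ 0) ∧
    (∀ i, e0 (v i) = ((sg 0 i : ℤ) : F) • v i) ∧ (∀ i, e1 (v i) = ((sg 1 i : ℤ) : F) • v i) ∧
    (∀ i, e2 (v i) = ((sg 2 i : ℤ) : F) • v i) ∧ ∀ i, c (v i) = v (i + 1) := by
  obtain ⟨x, hx, h0, h1, h2'⟩ := hw.exists_first h2
  have cne : ∀ y : V, y ≠ 0 → c y ≠ 0 := fun y hy h => hy (c.injective (by rw [h, map_zero]))
  have st : ∀ {x : V} {a b d : F}, e0 x = a • x → e1 x = b • x → e2 x = d • x → (a = 1 ∨ a = -1) →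
    e0 (c x) = (a * d) • c x ∧ e1 (c x) = a • c x ∧ e2 (c x) = b • c x := fun h0 h1 h2 ha =>
      hw.step h0 h1 h2 (by rcases ha with rfl | rfl <;> norm_num)
  obtain ⟨a0, a1, a2⟩ := st h0 h1 h2' (Or.inr rfl)
  obtain ⟨b0, b1, b2⟩ := st a0 a1 a2 (by norm_num)
  obtain ⟨d0, d1, d2⟩ := st b0 b1 b2 (by norm_num)
  obtain ⟨g0, g1, g2⟩ := st d0 d1 d2 (by norm_num)
  obtain ⟨k0, k1, k2⟩ := st g0 g1 g2 (by norm_num)
  obtain ⟨l0, l1, l2⟩ := st k0 k1 k2 (by norm_num)
  refine ⟨![x, c x, c (c x), c (c (c x)), c (c (c (c x))), c (c (c (c (c x)))), c (c (c (c (c (c x)))))], ?_, ?_, ?_,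
    ?_, ?_⟩
  · intro i
    fin_cases i
    · exact hx
    · exact cne _ hx
    · exact cne _ (cne _ hx)
    · exact cne _ (cne _ (cne _ hx))
    · exact cne _ (cne _ (cne _ (cne _ hx)))
    · exact cne _ (cne _ (cne _ (cne _ (cne _ hx))))
    · exact cne _ (cne _ (cne _ (cne _ (cne _ (cne _ hx)))))
  · intro i
    fin_cases i
    · refine h0.trans ?_; simp [sg]
    · refine a0.trans ?_; simp [sg]
    · refine b0.trans ?_; simp [sg]
    · refine d0.trans ?_; simp [sg]
    · refine g0.trans ?_; simp only [sg, _root_.mul_one, _root_.mul_neg, _root_.neg_neg, _root_.neg_smul, _root_.one_smul, _root_.Int.reduceNeg, _root_.Fin.isValue, _root_.Fin.reduceFinMk, _root_.Matrix.cons_val', _root_.Matrix.cons_val, _root_.Matrix.cons_val_fin_one, _root_.Matrix.cons_val_zero, _root_.Int.cast_neg, _root_.Int.cast_one]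
    · refine k0.trans ?_; simp [sg]
    · refine l0.trans ?_; simp [sg]
  · intro i
    fin_cases i
    · refine h1.trans ?_; simp [sg]
    · refine a1.trans ?_; simp [sg]
    · refine b1.trans ?_; simp [sg]
    · refine d1.trans ?_; simp [sg]
    · refine g1.trans ?_; simp [sg]
    · refine k1.trans ?_; simp [sg]
    · refine l1.trans ?_; simp [sg]
  · intro i
    fin_cases i
    · refine h2'.trans ?_; simp [sg]
    · refine a2.trans ?_; simp [sg]
    · refine b2.trans ?_; simp [sg]
    · refine d2.trans ?_; simp [sg]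
    · refine g2.trans ?_; simp [sg]
    · refine k2.trans ?_; simp [sg]
    · refine l2.trans ?_; simp [sg]
  · intro i
    fin_cases i
    · rfl
    · rfl
    · rfl
    · rfl
    · rfl
    · rfl
    · exact hw.c7 x

end Wt

end Cfsg.Agent.H856.Sw
end

-- part: H856/Sw3
section
/-!
# `SL₂(8)` in dimension 7: the coefficients of the Weyl element
-/

set_option autoImplicit false
set_option linter.unusedSectionVars false

open scoped Pointwise

namespace Cfsg.Agent.H856.Sw

open Cfsg.Agent.H637.JW Cfsg.Agent.H856.Sv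

variable {F : Type*} [Field F] {V : Type*} [AddCommGroup V] [Module F V]

/-- a frame of weight vectors -/
structure Frame (e0 e1 e2 c : V ≃ₗ[F] V) (v : Fin 7 → V) : Prop where
  ne : ∀ i, v i ≠ 0
  h0 : ∀ i, e0 (v i) = ((sg 0 i : ℤ) : F) • v i
  h1 : ∀ i, e1 (v i) = ((sg 1 i : ℤ) : F) • v i
  h2 : ∀ i, e2 (v i) = ((sg 2 i : ℤ) : F) • v i
  hc : ∀ i, c (v i) = v (i + 1)

theorem Wt.frame {e0 e1 e2 c : V ≃ₗ[F] V} (hw : Wt e0 e1 e2 c) (h2 : (2 : F) ≠ 0) : ∃ v, Frame e0 e1 e2 c v := by
  obtain ⟨v, a, b, d, e, f⟩ := hw.exists_frame h2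
  exact ⟨v, a, b, d, e, f⟩

namespace Frame

variable {e0 e1 e2 c : V ≃ₗ[F] V} {v : Fin 7 → V} (hv : Frame e0 e1 e2 c v)

include hv

theorem li (hw : Wt e0 e1 e2 c) (h2 : (2 : F) ≠ 0) [FiniteDimensional F V] : LinearIndependent F v := by
  let f : Fin 3 → Module.End F V := ![(e0 : V →ₗ[F] V), (e1 : V →ₗ[F] V), (e2 : V →ₗ[F] V)]
  have hfc : ∀ j k, f j * f k = f k * f j := by
    intro j k
    fin_cases j <;> fin_cases k
    · rfl
    · exact LinearMap.ext hw.c01
    · exact LinearMap.ext hw.c02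
    · exact LinearMap.ext fun v => (hw.c01 v).symm
    · rfl
    · exact LinearMap.ext hw.c12
    · exact LinearMap.ext fun v => (hw.c02 v).symm
    · exact LinearMap.ext fun v => (hw.c12 v).symm
    · rfl
  have hf2 : ∀ k, f k ^ 2 = 1 := by
    intro k
    rw [pow_two]
    fin_cases k
    · exact LinearMap.ext hw.s0
    · exact LinearMap.ext hw.s1
    · exact LinearMap.ext hw.s2
  have hind := indep_W (K := F) (by exact_mod_cast h2) (prim_neg_one h2) hfc hf2
  have hind' : iSupIndep (fun i => W 2 (-1 : F) f (ch i)) := hind.comp ch_inj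
  refine hind'.linearIndependent _ (fun i => ?_) hv.ne
  rw [mem_W]
  have key : ∀ (k : Fin 3) (i : Fin 7), (-1 : ℤ) ^ (ch i k).val = sg k i := by decide
  have key' : ∀ (k : Fin 3) (i : Fin 7), (-1 : F) ^ (ch i k).val = ((sg k i : ℤ) : F) := by
    intro k i
    rw [← key]
    push_cast
    rfl
  intro k
  fin_cases k
  · exact (hv.h0 i).trans (by rw [← key']; rfl)
  · exact (hv.h1 i).trans (by rw [← key']; rfl)
  · exact (hv.h2 i).trans (by rw [← key']; rfl)

/-- the basis -/
noncomputable def basis (hw : Wt e0 e1 e2 c) (h2 : (2 : F) ≠ 0) (h7 : Module.finrank F V = 7) : Module.Basis (Fin 7) F V :=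
  haveI : FiniteDimensional F V := Module.finite_of_finrank_pos (by rw [h7]; norm_num)
  basisOfLinearIndependentOfCardEqFinrank (hv.li hw h2) (by rw [Fintype.card_fin, h7])

theorem basis_apply (hw : Wt e0 e1 e2 c) (h2 : (2 : F) ≠ 0) (h7 : Module.finrank F V = 7) (j : Fin 7) :
    hv.basis hw h2 h7 j = v j := by
  simp [basis]

end Frame

/-- the relations of `SL₂(8)` with the Weyl element, and the traces -/
structure Oc (e0 e1 e2 c w : V ≃ₗ[F] V) : Prop extends Wt e0 e1 e2 c where
  ww : ∀ v, w (w v) = v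
  wc : ∀ v, c (w (c v)) = w v
  br : ∀ v, w (e0 (w v)) = e0 (w (e0 v))
  t0 : LinearMap.trace F V (w : V →ₗ[F] V) = LinearMap.trace F V (e0 : V →ₗ[F] V)
  t1 : LinearMap.trace F V ((w * (e0 * e1) : V ≃ₗ[F] V) : V →ₗ[F] V) = 0
  t2 : LinearMap.trace F V ((w * (e0 * e2) : V ≃ₗ[F] V) : V →ₗ[F] V) = 0
  t3 : LinearMap.trace F V ((w * (e0 * (e1 * e2)) : V ≃ₗ[F] V) : V →ₗ[F] V) = 0

namespace Oc

variable {e0 e1 e2 c w : V ≃ₗ[F] V} {v : Fin 7 → V} (ho : Oc e0 e1 e2 c w) (hv : Frame e0 e1 e2 c v)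

include ho hv

theorem w_apply {a : Fin 7 → F} (ha : w (v 0) = ∑ j, a j • v j) (i : Fin 7) : w (v i) = ∑ k, a (k + i) • v k := by
  have key : ∀ i, w (v i) = ∑ k, a (k + i) • v k → w (v (i + 1)) = ∑ k, a (k + (i + 1)) • v k := by
    intro i hi
    have h1 := ho.wc (v i)
    rw [hv.hc] at h1
    apply c.injective
    rw [h1, hi, map_sum]
    simp only [map_smul, hv.hc]
    rw [← Equiv.sum_comp (Equiv.addRight (1 : Fin 7)) (fun k => a (k + i) • v k)]
    refine Finset.sum_congr rfl fun k _ => ?_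
    rw [Equiv.coe_addRight, add_right_comm, add_assoc]
  have z : w (v 0) = ∑ k, a (k + 0) • v k := by simpa using ha
  have z1 := key 0 z
  have z2 := key 1 z1
  have z3 := key 2 z2
  have z4 := key 3 z3
  have z5 := key 4 z4
  have z6 := key 5 z5
  fin_cases i
  · exact z
  · exact z1
  · exact z2
  · exact z3
  · exact z4
  · exact z5
  · exact z6

/-- the braid relation on coefficients -/
theorem braid (h2 : (2 : F) ≠ 0) (h7 : Module.finrank F V = 7) {a : Fin 7 → F} (ha : w (v 0) = ∑ j, a j • v j)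
    (i m : Fin 7) : ∑ k, ((sg 0 k : ℤ) : F) * a (k + i) * a (m + k) = ((sg 0 i : ℤ) : F) * ((sg 0 m : ℤ) : F) * a (m + i) := by
  have hw := ho.w_apply hv ha
  have h1 := ho.br (v i)
  have hL : w (e0 (w (v i))) = ∑ m, (∑ k, ((sg 0 k : ℤ) : F) * a (k + i) * a (m + k)) • v m := by
    rw [hw, map_sum, map_sum]
    simp only [map_smul, hv.h0, hw, Finset.smul_sum, Finset.sum_smul, smul_smul]
    rw [Finset.sum_comm]
    refine Finset.sum_congr rfl fun m _ => Finset.sum_congr rfl fun k _ => ?_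
    congr 1
    ring
  have hR : e0 (w (e0 (v i))) = ∑ m, (((sg 0 i : ℤ) : F) * ((sg 0 m : ℤ) : F) * a (m + i)) • v m := by
    rw [hv.h0, map_smul, hw, map_smul, map_sum, Finset.smul_sum]
    refine Finset.sum_congr rfl fun m _ => ?_
    rw [map_smul, hv.h0, smul_smul, smul_smul]
    congr 1
    ring
  rw [hL, hR, ← sub_eq_zero, ← Finset.sum_sub_distrib] at h1
  simp only [← sub_smul] at h1
  have hfin : FiniteDimensional F V := Module.finite_of_finrank_pos (by rw [h7]; norm_num)
  have h3 := Fintype.linearIndependent_iff.1 (hv.li ho.toWt h2) _ h1 m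
  exact sub_eq_zero.1 h3

/-- traces of products with diagonal elements -/
theorem trace_diag (h2 : (2 : F) ≠ 0) (h7 : Module.finrank F V = 7) {a : Fin 7 → F} (ha : w (v 0) = ∑ j, a j • v j)
    {d : V ≃ₗ[F] V} {s : Fin 7 → F} (hd : ∀ i, d (v i) = s i • v i) :
    LinearMap.trace F V ((w * d : V ≃ₗ[F] V) : V →ₗ[F] V) = ∑ i, s i * a (i + i) := by
  have hw := ho.w_apply hv ha
  rw [LinearMap.trace_eq_matrix_trace F (hv.basis ho.toWt h2 h7), Matrix.trace]
  refine Finset.sum_congr rfl fun i _ => ?_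
  rw [Matrix.diag_apply, LinearMap.toMatrix_apply, hv.basis_apply]
  have h1 : ((w * d : V ≃ₗ[F] V) : V →ₗ[F] V) (v i) = ∑ k, (s i * a (k + i)) • hv.basis ho.toWt h2 h7 k := by
    show w (d (v i)) = _
    rw [hd, map_smul, hw, Finset.smul_sum]
    refine Finset.sum_congr rfl fun k _ => ?_
    rw [smul_smul, hv.basis_apply]
  rw [h1, map_sum]
  simp only [Finsupp.single_apply, _root_.map_smul, _root_.Module.Basis.repr_self, _root_.Finsupp.smul_single, _root_.smul_eq_mul, _root_.mul_one, _root_.Finsupp.single_mul, _root_.Finsupp.coe_finsetSum, _root_.Finset.sum_apply, _root_.Finsupp.mul_apply, _root_.mul_ite, _root_.ite_mul, _root_.MulZeroClass.zero_mul, _root_.MulZeroClass.mul_zero, _root_.Finset.sum_ite_eq', _root_.Finset.mem_univ, ↓ _root_.reduceIte]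

omit ho in
theorem trace_e0 (hw : Wt e0 e1 e2 c) (h2 : (2 : F) ≠ 0) (h7 : Module.finrank F V = 7) :
    LinearMap.trace F V (e0 : V →ₗ[F] V) = -1 := by
  rw [LinearMap.trace_eq_matrix_trace F (hv.basis hw h2 h7), Matrix.trace]
  have key : ∀ i, (LinearMap.toMatrix (hv.basis hw h2 h7) (hv.basis hw h2 h7) (e0 : V →ₗ[F] V)).diag i =
      ((sg 0 i : ℤ) : F) := by
    intro i
    rw [Matrix.diag_apply, LinearMap.toMatrix_apply, hv.basis_apply]
    have h1 : (e0 : V →ₗ[F] V) (v i) = ((sg 0 i : ℤ) : F) • hv.basis hw h2 h7 i := by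
      rw [hv.basis_apply]
      exact hv.h0 i
    rw [h1, map_smul]
    simp
  rw [Finset.sum_congr rfl fun i _ => key i, Fin.sum_univ_seven]
  simp only [sg, _root_.Int.reduceNeg, _root_.Fin.isValue, _root_.Matrix.cons_val', _root_.Matrix.cons_val_zero, _root_.Matrix.cons_val_fin_one, _root_.Int.cast_neg, _root_.Int.cast_one, _root_.Matrix.cons_val_one, _root_.Matrix.cons_val, _root_.neg_add_cancel_right]

/-- **the solution** -/
theorem solve (h2 : (2 : F) ≠ 0) (h7 : Module.finrank F V = 7) {a : Fin 7 → F} (ha : w (v 0) = ∑ j, a j • v j) :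
    LinearMap.trace F V ((w * e0 : V ≃ₗ[F] V) : V →ₗ[F] V) = 1 ∨
    (a 0 = (2 : F)⁻¹ ∧ a 1 = 0 ∧ a 2 = 0 ∧ a 3 = -(2 : F)⁻¹ ∧ a 4 = 0 ∧ a 5 = -(2 : F)⁻¹ ∧ a 6 = -(2 : F)⁻¹) := by
  have hi : (2 : F) * (2 : F)⁻¹ = 1 := mul_inv_cancel₀ h2
  set i : F := (2 : F)⁻¹ with hidef
  have hid : ∀ j, (1 : V ≃ₗ[F] V) (v j) = (1 : F) • v j := fun j => by rw [one_smul]; rfl
  have l0 := ho.trace_diag hv h2 h7 ha hid
  have hw1 : ((w * 1 : V ≃ₗ[F] V) : V →ₗ[F] V) = (w : V →ₗ[F] V) := by rw [mul_one]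
  rw [hw1, ho.t0, trace_e0 hv ho.toWt h2 h7] at l0
  have l1 := ho.trace_diag hv h2 h7 ha (d := e0 * e1) (s := fun j => ((sg 0 j * sg 1 j : ℤ) : F)) (fun j => by
    show e0 (e1 (v j)) = _
    rw [hv.h1, map_smul, hv.h0, smul_smul]
    push_cast
    rw [mul_comm])
  rw [ho.t1] at l1
  have l2 := ho.trace_diag hv h2 h7 ha (d := e0 * e2) (s := fun j => ((sg 0 j * sg 2 j : ℤ) : F)) (fun j => by
    show e0 (e2 (v j)) = _
    rw [hv.h2, map_smul, hv.h0, smul_smul]
    push_cast
    rw [mul_comm])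
  rw [ho.t2] at l2
  have l3 := ho.trace_diag hv h2 h7 ha (d := e0 * (e1 * e2)) (s := fun j => ((sg 0 j * (sg 1 j * sg 2 j) : ℤ) : F))
    (fun j => by
      show e0 (e1 (e2 (v j))) = _
      rw [hv.h2, map_smul, hv.h1, smul_smul, map_smul, hv.h0, smul_smul]
      push_cast
      congr 1
      ring)
  rw [ho.t3] at l3
  have ls := ho.trace_diag hv h2 h7 ha (d := e0) (s := fun j => ((sg 0 j : ℤ) : F)) (fun j => hv.h0 j)
  generalize LinearMap.trace F V ((w * e0 : V ≃ₗ[F] V) : V →ₗ[F] V) = tr at ls ⊢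
  have e11 := ho.braid hv h2 h7 ha 1 1
  have e12 := ho.braid hv h2 h7 ha 1 2
  have e14 := ho.braid hv h2 h7 ha 1 4
  simp only [sg, Fin.sum_univ_seven, _root_.one_mul, _root_.Fin.isValue, _root_.add_zero, _root_.Fin.reduceAdd, _root_.Int.reduceNeg, _root_.Matrix.cons_val', _root_.Matrix.cons_val_fin_one, _root_.Matrix.cons_val_zero, _root_.Matrix.cons_val_one, _root_.Int.cast_mul, _root_.Int.cast_neg, _root_.Int.cast_one, _root_.mul_one, _root_.neg_mul, _root_.mul_neg, _root_.neg_neg, _root_.Matrix.cons_val, _root_.zero_add] at l0 l1 l2 l3 ls e11 e12 e14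
  have two : ∀ x y : F, 2 * x = 2 * y → x = y := fun x y h => mul_left_cancel₀ h2 h
  have a3 : a 3 = a 2 - a 0 := by
    apply two
    linear_combination l1 + l3
  have a5 : a 5 = a 1 - a 0 := by
    apply two
    linear_combination l2 + l3
  have a6' : a 4 = a 0 + a 6 := by
    apply two
    linear_combination -l1 - l2
  have a4 : a 4 = a 0 - a 1 - a 2 - i := by
    apply two
    linear_combination -l0 - l1 + 2 * a5 * (-1) + hi
  have a6 : a 6 = -a 1 - a 2 - i := by linear_combination a4 - a6'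
  rw [a3, a4, a5, a6] at e11 e12 e14 ls
  generalize a 0 = x at *
  generalize a 1 = y at *
  generalize a 2 = z at *
  have r12 : z * (4 * x + 1) = 0 := by linear_combination (-2 : F) * e12 + (-2 * x + z) * hi
  have r14 : y * (4 * x + 1) = 0 := by linear_combination (-2 : F) * e14 + (-2 * x + y) * hi
  have r11 : 8 * y * z + 4 * y + 2 * z - 2 * x + 1 = 0 := by
    linear_combination (2 : F) * e11 + (2 * x - 4 * y - 4 * z - 2 * i - 1) * hi
  by_cases hs : 4 * x + 1 = 0
  · left
    rw [ls]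
    linear_combination -hs
  · right
    have hz : z = 0 := (mul_eq_zero.1 r12).resolve_right hs
    have hy : y = 0 := (mul_eq_zero.1 r14).resolve_right hs
    rw [hz, hy] at r11
    have hx : x = i := by
      apply two
      linear_combination -r11 - hi
    refine ⟨hx, hy, hz, ?_, ?_, ?_, ?_⟩
    · rw [a3, hz, hx]; ring
    · rw [a4, hz, hy, hx]; ring
    · rw [a5, hy, hx]; ring
    · rw [a6, hy, hz]; ring

end Oc

end Cfsg.Agent.H856.Sw
end

-- part: H856/Sw4
section
/-!
# `SL₂(8)` in dimension 7: the relations hold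
-/

set_option autoImplicit false
set_option linter.unusedSectionVars false

open scoped Pointwise

namespace Cfsg.Agent.H856.Sw

open Matrix Cfsg.Agent.H464.Sl2 Cfsg.Agent.H856.Sv

variable {F : Type*} [Field F] {V : Type*} [AddCommGroup V] [Module F V]

/-- a shift of the frame has trace 0 -/
theorem Frame.trace_shift {e0 e1 e2 c : V ≃ₗ[F] V} {v : Fin 7 → V} (hv : Frame e0 e1 e2 c v) (hw : Wt e0 e1 e2 c)
    (h2 : (2 : F) ≠ 0) (h7 : Module.finrank F V = 7) {d : V ≃ₗ[F] V} {k : Fin 7} (hk : k ≠ 0)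
    (hd : ∀ i, d (v i) = v (i + k)) : LinearMap.trace F V (d : V →ₗ[F] V) = 0 := by
  rw [LinearMap.trace_eq_matrix_trace F (hv.basis hw h2 h7), Matrix.trace]
  refine Finset.sum_eq_zero fun i _ => ?_
  rw [Matrix.diag_apply, LinearMap.toMatrix_apply, hv.basis_apply]
  have h1 : (d : V →ₗ[F] V) (v i) = hv.basis hw h2 h7 (i + k) := by
    rw [hv.basis_apply]
    exact hd i
  rw [h1, Module.Basis.repr_self, Finsupp.single_apply, if_neg]
  intro h
  apply hk
  have h3 : i + k = i + 0 := by rw [h, add_zero]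
  exact add_left_cancel h3

/-- conjugate elements have the same trace -/
theorem trace_conj' {a b k : V ≃ₗ[F] V} (h : a * k = k * b) :
    LinearMap.trace F V (a : V →ₗ[F] V) = LinearMap.trace F V (b : V →ₗ[F] V) := by
  have h1 : a = k * b * k⁻¹ := by rw [← h, mul_inv_cancel_right]
  rw [h1]
  have h3 : ((k * b * k⁻¹ : V ≃ₗ[F] V) : V →ₗ[F] V) = k.toLinearMap * (b : V →ₗ[F] V) * (k⁻¹ : V ≃ₗ[F] V).toLinearMap := rfl
  rw [h3, LinearMap.trace_mul_comm, ← mul_assoc]
  have h4 : (k⁻¹ : V ≃ₗ[F] V).toLinearMap * k.toLinearMap = 1 := by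
    show ((k⁻¹ * k : V ≃ₗ[F] V) : V →ₗ[F] V) = 1
    rw [inv_mul_cancel]
    rfl
  rw [h4, one_mul]

section oct

variable {K : Type*} [Field K] [Fintype K] (hK : Fintype.card K = 8) {b : Kˣ} (hb : (b : K) ^ 3 = b + 1)

include hK hb

theorem b_inv : ((b⁻¹ : Kˣ) : K) = (b : K) ^ 2 + 1 := by
  have h2 := two_eq hK
  have h1 : (b : K) * ((b⁻¹ : Kˣ) : K) = 1 := by rw [← Units.val_mul, mul_inv_cancel, Units.val_one]
  have h3 : (b : K) * ((b : K) ^ 2 + 1) = 1 := by linear_combination hb + (b : K) * h2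
  exact mul_left_cancel₀ b.ne_zero (h1.trans h3.symm)

theorem b_ne_one : b ^ 4 ≠ 1 := by
  intro h
  have h7 := pow_seven hK b
  have h1 : b = 1 := by
    have h3 : b ^ 8 = b := by rw [show 8 = 7 + 1 by norm_num, pow_add, h7, one_mul, pow_one]
    rw [← h3, show 8 = 4 * 2 by norm_num, pow_mul, h, one_pow]
  rw [h1, Units.val_one] at hb
  have h4 : (1 : K) = 0 := by linear_combination -hb
  exact one_ne_zero h4

variable (ρ : _root_.Matrix.SpecialLinearGroup (Fin 2) K →* (V ≃ₗ[F] V)) (hρ : Function.Injective ρ)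

include hρ

theorem wt_of : Wt (ρ (u 1)) (ρ (u (b : K))) (ρ (u ((b : K) * b))) (ρ (t (b ^ 4))) := by
  have h2 := two_eq hK
  have ap : ∀ {g h : _root_.Matrix.SpecialLinearGroup (Fin 2) K}, g = h → ∀ v, ρ g v = ρ h v := fun h v => by rw [h]
  have hsq : ((b ^ 4 : Kˣ) : K) ^ 2 = b := by
    have := congrArg Units.val (sq_sqrt hK b)
    simpa using this
  have mm : ∀ (g h : _root_.Matrix.SpecialLinearGroup (Fin 2) K) v, ρ g (ρ h v) = ρ (g * h) v := fun g h v => by
    rw [map_mul]; rfl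
  refine ⟨fun v => ?_, fun v => ?_, fun v => ?_, fun v => ?_, fun v => ?_, fun v => ?_, fun v => ?_, fun v => ?_,
    fun v => ?_, fun v => ?_, ?_⟩
  · rw [mm, u_mul_self hK, map_one]; rfl
  · rw [mm, u_mul_self hK, map_one]; rfl
  · rw [mm, u_mul_self hK, map_one]; rfl
  · rw [mm, mm, ← u_add, ← u_add, add_comm]
  · rw [mm, mm, ← u_add, ← u_add, add_comm]
  · rw [mm, mm, ← u_add, ← u_add, add_comm]
  · rw [mm, mm, t_mul_u, hsq, mul_one]
  · rw [mm, mm, t_mul_u, hsq]
  · rw [mm, mm, mm, t_mul_u, hsq, ← u_add]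
    have h3 : (b : K) * (b * b) = 1 + b := by linear_combination hb
    rw [h3]
  · rw [mm, mm, mm, mm, mm, mm]
    have h3 : t (b ^ 4) * t (b ^ 4) * t (b ^ 4) * t (b ^ 4) * t (b ^ 4) * t (b ^ 4) * t (b ^ 4) = t ((b ^ 4) ^ 7) := by
      rw [← t_mul, ← t_mul, ← t_mul, ← t_mul, ← t_mul, ← t_mul]
      congr 1
      generalize b ^ 4 = y
      simp only [pow_succ, pow_zero, one_mul]
    rw [h3, pow_seven hK, t_one, map_one]
    rfl
  · intro h
    have h3 : u (1 : K) = 1 := hρ (by rw [h, map_one])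
    have h4 := congrArg (fun g : _root_.Matrix.SpecialLinearGroup (Fin 2) K => g.1 0 1) h3
    simp [u] at h4

/-- the torus elements `t b`, `t b²`, `t b⁴` have trace 0 -/
theorem trace_t (h2 : (2 : F) ≠ 0) (h7 : Module.finrank F V = 7) :
    LinearMap.trace F V (ρ (t b) : V →ₗ[F] V) = 0 ∧ LinearMap.trace F V (ρ (t (b ^ 2)) : V →ₗ[F] V) = 0 ∧
    LinearMap.trace F V (ρ (t (b ^ 4)) : V →ₗ[F] V) = 0 := by
  have hw := wt_of hK hb ρ hρ
  obtain ⟨v, hv⟩ := hw.frame h2
  have mm : ∀ (g h : _root_.Matrix.SpecialLinearGroup (Fin 2) K) v, ρ (g * h) v = ρ g (ρ h v) := fun g h v => by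
    rw [map_mul]; rfl
  have e1 : t b = t (b ^ 4) * t (b ^ 4) := by
    rw [← t_mul, ← pow_add, show 4 + 4 = 7 + 1 by norm_num, pow_add, pow_seven hK, one_mul, pow_one]
  have e2 : t (b ^ 2) = t b * t b := by rw [← t_mul, pow_two]
  have s4 : ∀ i, ρ (t (b ^ 4)) (v i) = v (i + 1) := hv.hc
  have s1 : ∀ i, ρ (t b) (v i) = v (i + 2) := by
    intro i
    rw [e1, mm, s4, s4, add_assoc]
    rfl
  have s2 : ∀ i, ρ (t (b ^ 2)) (v i) = v (i + 4) := by
    intro i
    rw [e2, mm, s1, s1, add_assoc]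
    rfl
  exact ⟨hv.trace_shift hw h2 h7 (by decide) s1, hv.trace_shift hw h2 h7 (by decide) s2,
    hv.trace_shift hw h2 h7 (by decide) s4⟩

theorem oc_of (h2 : (2 : F) ≠ 0) (h7 : Module.finrank F V = 7) :
    Oc (ρ (u 1)) (ρ (u (b : K))) (ρ (u ((b : K) * b))) (ρ (t (b ^ 4))) (ρ (w 1)) := by
  have hK2 := two_eq hK
  obtain ⟨T1, T2, T4⟩ := trace_t hK hb ρ hρ h2 h7
  have mm : ∀ (g h : _root_.Matrix.SpecialLinearGroup (Fin 2) K) v, ρ g (ρ h v) = ρ (g * h) v := fun g h v => by
    rw [map_mul]; rfl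
  have hbi := b_inv hK hb
  have hneg : (-1 : Kˣ) = 1 := by
    apply Units.ext
    rw [Units.val_neg, Units.val_one]
    exact neg_eq' hK 1
  -- traces in the big cell
  have key : ∀ (l : Kˣ) (x : K), (l : K) + ((l⁻¹ : Kˣ) : K) = x → x ≠ 0 →
      LinearMap.trace F V (ρ (t l) : V →ₗ[F] V) = 0 →
      LinearMap.trace F V ((ρ (w 1) * ρ (u x) : V ≃ₗ[F] V) : V →ₗ[F] V) = 0 := by
    intro l x hx hx0 hT
    obtain ⟨g, hg⟩ := wu_conj hK (l := l) (by rw [hx]; exact hx0)
    rw [hx] at hg
    rw [← hT]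
    apply trace_conj' (k := ρ g)
    rw [← map_mul, ← map_mul, hg, map_mul]
  refine ⟨wt_of hK hb ρ hρ, fun v => ?_, fun v => ?_, fun v => ?_, ?_, ?_, ?_, ?_⟩
  · rw [mm, w_mul_w, div_one, hneg, t_one, map_one]; rfl
  · rw [mm, mm]
    congr 2
    apply Subtype.ext
    ext i j
    (revert i j; simp [_root_.Fin.forall_fin_succ])
  · rw [mm, mm, mm, mm]
    congr 2
    have h3 := w_u_w (1 : Kˣ) 1 1
    rw [Units.val_one] at h3
    rw [h3]
    have h4 : (-((1 ^ 2 * 1)⁻¹ : Kˣ) : K) = 1 := by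
      simp [neg_eq' hK]
    rw [h4]
    simp
  · obtain ⟨g, hg⟩ := w_conj hK
    apply trace_conj' (k := ρ g)
    rw [← map_mul, hg, map_mul]
  · have h3 : ρ (u (1 : K)) * ρ (u (b : K)) = ρ (u (1 + b)) := by rw [← map_mul, ← u_add]
    rw [h3]
    refine key (b ^ 2) _ ?_ ?_ T2
    · rw [← inv_pow, Units.val_pow_eq_pow_val, Units.val_pow_eq_pow_val, hbi]
      linear_combination ((b : K)) * hb + (2 * (b : K) ^ 2) * hK2
    · intro h
      have : (b : K) ^ 3 = 0 := by rw [hb, ← h, add_comm]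
      exact b.ne_zero (pow_eq_zero_iff (by norm_num) |>.1 this)
  · have h3 : ρ (u (1 : K)) * ρ (u ((b : K) * b)) = ρ (u (1 + b * b)) := by rw [← map_mul, ← u_add]
    rw [h3]
    refine key (b ^ 4) _ ?_ ?_ T4
    · rw [← inv_pow, Units.val_pow_eq_pow_val, Units.val_pow_eq_pow_val, hbi]
      linear_combination ((b : K) ^ 5 + 5 * (b : K) ^ 3 + (b : K) ^ 2 + 12 * b + 6) * hb +
        (8 * (b : K) ^ 2 + 9 * b + 3) * hK2
    · intro h
      apply (b⁻¹).ne_zero
      rw [hbi, ← h]
      ring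
  · have h3 : ρ (u (1 : K)) * (ρ (u (b : K)) * ρ (u ((b : K) * b))) = ρ (u (1 + (b + b * b))) := by
      rw [← map_mul, ← map_mul, ← u_add, ← u_add]
    rw [h3]
    refine key b _ ?_ ?_ T1
    · rw [hbi]
      ring
    · intro h
      have h5 : (b : K) ^ 5 = 0 := by
        rw [← h]
        linear_combination ((b : K) ^ 2 + 1) * hb
      exact b.ne_zero (pow_eq_zero_iff (by norm_num) |>.1 h5)

end oct

end Cfsg.Agent.H856.Sw
end

-- part: H856/Sw5
section
/-!
# The root system of type `E₇` in an orthogonal frame: finite checks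
-/

set_option autoImplicit false
set_option linter.unusedSectionVars false

namespace Cfsg.Agent.H856.Sw

/-- the coefficients of the Weyl element, times 2 -/
def AA : Fin 7 → ℤ := ![1, 0, 0, -1, 0, -1, -1]

/-- sign of a Boolean -/
def bs (s : Bool) : ℤ := if s then 1 else -1

/-- the long diagonal vectors -/
def xd (i : Fin 7) (s : Bool) : Fin 7 → ℤ := fun k => if k = i then 2 * bs s else 0

/-- the vectors with four nonzero coordinates -/
def xq (b : Fin 7) (s0 s1 s2 s3 : Bool) : Fin 7 → ℤ := fun k =>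
  if k + b = 0 then bs s0 else if k + b = 3 then bs s1 else if k + b = 5 then bs s2 else if k + b = 6 then bs s3 else 0

/-- two times the image under the Weyl element -/
def wy (x : Fin 7 → ℤ) : Fin 7 → ℤ := fun k =>
  AA k * x 0 + AA (k + 1) * x 1 + AA (k + 2) * x 2 + AA (k + 3) * x 3 + AA (k + 4) * x 4 + AA (k + 5) * x 5 + AA (k + 6) * x 6

theorem wy_d : ∀ i s, ∃ s0 s1 s2 s3, ∀ k, wy (xd i s) k = 2 * xq i s0 s1 s2 s3 k := by (delta Cfsg.Agent.H856.Sw.wy Cfsg.Agent.H856.Sw.xd Cfsg.Agent.H856.Sw.xq Cfsg.Agent.H856.Sw.bs; set_option synthInstance.maxSize 100000 in exact Cfsg.Agent.Lib.Refl.of (by decide +kernel))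

theorem wy_q : ∀ b s0 s1 s2 s3, (∃ i s, ∀ k, wy (xq b s0 s1 s2 s3) k = 2 * xd i s k) ∨
    ∃ b' t0 t1 t2 t3, ∀ k, wy (xq b s0 s1 s2 s3) k = 2 * xq b' t0 t1 t2 t3 k := by (delta Cfsg.Agent.H856.Sw.wy Cfsg.Agent.H856.Sw.xq Cfsg.Agent.H856.Sw.xd Cfsg.Agent.H856.Sw.bs; set_option synthInstance.maxSize 100000 in exact Cfsg.Agent.Lib.Refl.of (by decide +kernel))

theorem sign_d : ∀ (j : Fin 3) i s, ∃ t, ∀ k, sg j k * xd i s k = xd i t k := by decide +kernel

theorem sign_q : ∀ (j : Fin 3) b s0 s1 s2 s3, ∃ t0 t1 t2 t3, ∀ k,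
    sg j k * xq b s0 s1 s2 s3 k = xq b t0 t1 t2 t3 k := by (delta Cfsg.Agent.H856.Sw.xq Cfsg.Agent.H856.Sw.bs; set_option synthInstance.maxSize 100000 in exact Cfsg.Agent.Lib.Refl.of (by decide +kernel))

/-- the sign change at one coordinate -/
def sc (i k : Fin 7) : ℤ := if k = i then -1 else 1

theorem flip_d : ∀ (j : Fin 7) i s, ∃ t, ∀ k, sc j k * xd i s k = xd i t k := by decide +kernel

theorem flip_q : ∀ (j : Fin 7) b s0 s1 s2 s3, ∃ t0 t1 t2 t3, ∀ k,
    sc j k * xq b s0 s1 s2 s3 k = xq b t0 t1 t2 t3 k := by (delta Cfsg.Agent.H856.Sw.sc Cfsg.Agent.H856.Sw.xq Cfsg.Agent.H856.Sw.bs; set_option synthInstance.maxSize 100000 in exact Cfsg.Agent.Lib.Refl.of (by decide +kernel))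

theorem shift_d : ∀ i s k, xd i s k = xd (i + 1) s (k + 1) := by decide +kernel

theorem shift_q : ∀ b s0 s1 s2 s3 k, xq b s0 s1 s2 s3 k = xq (b - 1) s0 s1 s2 s3 (k + 1) := by decide +kernel

/-- a power of a sign -/
def pw (m : Bool) (x : ℤ) : ℤ := if m then x else 1

theorem trans_q : ∀ b s0 s1 s2 s3, ∃ (m0 m1 m2 s : Bool), ∀ k, xq b s0 s1 s2 s3 k =
    bs s * (pw m0 (sg 0 k) * (pw m1 (sg 1 k) * (pw m2 (sg 2 k) * AA (k + b)))) := by (delta Cfsg.Agent.H856.Sw.xq Cfsg.Agent.H856.Sw.bs Cfsg.Agent.H856.Sw.pw; set_option synthInstance.maxSize 100000 in exact Cfsg.Agent.Lib.Refl.of (by decide +kernel))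

theorem sg_sep : ∀ i j : Fin 7, sg 0 i = sg 0 j → sg 1 i = sg 1 j → sg 2 i = sg 2 j → i = j := by decide

theorem sg_pm : ∀ (j : Fin 3) k, sg j k = 1 ∨ sg j k = -1 := by decide

end Cfsg.Agent.H856.Sw
end

-- part: H856/Sw6
section
/-!
# The root system in the seven-dimensional module of `SL₂(8)`
-/

set_option autoImplicit false
set_option linter.unusedSectionVars false

open scoped Pointwise

namespace Cfsg.Agent.H856.Sw

open Matrix QuadraticMap Cfsg.Agent.H464.Sl2 Cfsg.Agent.H856.Sv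
open Cfsg.Agent.LieClassical.OrthCore Cfsg.Agent.LieClassical.OrthTrans

variable {F : Type*} [Field F] {V : Type*} [AddCommGroup V] [Module F V]

/-- the vector with half-integral coordinates -/
def vec (v : Fin 7 → V) (x : Fin 7 → ℤ) : V := (2 : F)⁻¹ • ∑ k, ((x k : ℤ) : F) • v k

/-- the root system -/
def RX (F : Type*) [Field F] {V : Type*} [AddCommGroup V] [Module F V] (v : Fin 7 → V) : Set V :=
  {y | (∃ i s, y = vec (F := F) v (xd i s)) ∨ ∃ b s0 s1 s2 s3, y = vec (F := F) v (xq b s0 s1 s2 s3)}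

theorem vec_congr {v : Fin 7 → V} {x y : Fin 7 → ℤ} (h : ∀ k, x k = y k) : vec (F := F) v x = vec (F := F) v y := by
  rw [show x = y from funext h]

theorem RX_sub (v : Fin 7 → V) : RX F v ⊆
    (Set.range fun p : Fin 7 × Bool => vec (F := F) v (xd p.1 p.2)) ∪
    (Set.range fun p : Fin 7 × (Bool × Bool × Bool × Bool) =>
      vec (F := F) v (xq p.1 p.2.1 p.2.2.1 p.2.2.2.1 p.2.2.2.2)) := by
  rintro y (⟨i, s, rfl⟩ | ⟨b, s0, s1, s2, s3, rfl⟩)
  · exact Or.inl ⟨(i, s), rfl⟩
  · exact Or.inr ⟨(b, s0, s1, s2, s3), rfl⟩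

theorem RX_finite (v : Fin 7 → V) : (RX F v).Finite :=
  Set.Finite.subset ((Set.finite_range _).union (Set.finite_range _)) (RX_sub v)

theorem RX_ncard (v : Fin 7 → V) : (RX F v).ncard < 243 := by
  refine lt_of_le_of_lt (Set.ncard_le_ncard (RX_sub v) ((Set.finite_range _).union (Set.finite_range _))) ?_
  refine lt_of_le_of_lt (Set.ncard_union_le _ _) ?_
  have h1 : ∀ {α : Type} [Fintype α] (f : α → V), (Set.range f).ncard ≤ Fintype.card α := by
    intro α _ f
    rw [← Set.image_univ]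
    refine (Set.ncard_image_le Set.finite_univ).trans ?_
    rw [Set.ncard_univ, Nat.card_eq_fintype_card]
  have h2 := h1 (fun p : Fin 7 × Bool => vec (F := F) v (xd p.1 p.2))
  have h3 := h1 (fun p : Fin 7 × (Bool × Bool × Bool × Bool) =>
      vec (F := F) v (xq p.1 p.2.1 p.2.2.1 p.2.2.2.1 p.2.2.2.2))
  simp only [Fintype.card_prod, Fintype.card_fin, Fintype.card_bool] at h2 h3
  omega

theorem RX_diag {v : Fin 7 → V} {d : V ≃ₗ[F] V} {s : Fin 7 → ℤ} (hd : ∀ k, d (v k) = ((s k : ℤ) : F) • v k)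
    (h1 : ∀ i t, ∃ t', ∀ k, s k * xd i t k = xd i t' k)
    (h2 : ∀ b s0 s1 s2 s3, ∃ t0 t1 t2 t3, ∀ k, s k * xq b s0 s1 s2 s3 k = xq b t0 t1 t2 t3 k) :
    ∀ y ∈ RX F v, d y ∈ RX F v := by
  have key : ∀ x : Fin 7 → ℤ, d (vec (F := F) v x) = vec (F := F) v (fun k => s k * x k) := by
    intro x
    simp only [vec, map_smul, map_sum, hd, smul_smul]
    congr 1
    refine Finset.sum_congr rfl fun k _ => ?_
    push_cast
    rw [mul_comm]
  rintro y (⟨i, t, rfl⟩ | ⟨b, s0, s1, s2, s3, rfl⟩)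
  · obtain ⟨t', ht⟩ := h1 i t
    exact Or.inl ⟨i, t', by rw [key]; exact vec_congr ht⟩
  · obtain ⟨t0, t1, t2, t3, ht⟩ := h2 b s0 s1 s2 s3
    exact Or.inr ⟨b, t0, t1, t2, t3, by rw [key]; exact vec_congr ht⟩

theorem RX_shift {v : Fin 7 → V} {c : V ≃ₗ[F] V} (hc : ∀ k, c (v k) = v (k + 1)) :
    ∀ y ∈ RX F v, c y ∈ RX F v := by
  have key : ∀ x y : Fin 7 → ℤ, (∀ k, x k = y (k + 1)) → c (vec (F := F) v x) = vec (F := F) v y := by
    intro x y h
    simp only [vec, map_smul, map_sum, hc]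
    congr 1
    rw [← Equiv.sum_comp (Equiv.addRight (1 : Fin 7)) (fun k => ((y k : ℤ) : F) • v k)]
    refine Finset.sum_congr rfl fun k _ => ?_
    rw [Equiv.coe_addRight, h]
  rintro y (⟨i, t, rfl⟩ | ⟨b, s0, s1, s2, s3, rfl⟩)
  · exact Or.inl ⟨i + 1, t, key _ _ (shift_d i t)⟩
  · exact Or.inr ⟨b - 1, s0, s1, s2, s3, key _ _ (shift_q b s0 s1 s2 s3)⟩

theorem RX_neg {v : Fin 7 → V} : ∀ y ∈ RX F v, -y ∈ RX F v := by
  have key : ∀ x y : Fin 7 → ℤ, (∀ k, y k = - x k) → -(vec (F := F) v x) = vec (F := F) v y := by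
    intro x y h
    simp only [vec, h]
    rw [← smul_neg, ← Finset.sum_neg_distrib]
    congr 1
    refine Finset.sum_congr rfl fun k _ => ?_
    push_cast
    rw [neg_smul]
  rintro y (⟨i, t, rfl⟩ | ⟨b, s0, s1, s2, s3, rfl⟩)
  · refine Or.inl ⟨i, !t, key _ _ ?_⟩
    have : ∀ i t k, xd i (!t) k = - xd i t k := by decide +kernel
    exact this i t
  · refine Or.inr ⟨b, !s0, !s1, !s2, !s3, key _ _ ?_⟩
    have : ∀ b s0 s1 s2 s3 k, xq b (!s0) (!s1) (!s2) (!s3) k = - xq b s0 s1 s2 s3 k := by decide +kernel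
    exact this b s0 s1 s2 s3

theorem v_eq (h2 : (2 : F) ≠ 0) (v : Fin 7 → V) (i : Fin 7) : v i = vec (F := F) v (xd i true) := by
  simp only [vec, xd, bs]
  rw [Finset.sum_eq_single i]
  · simp only [smul_smul, inv_mul_cancel₀ h2, ↓ _root_.reduceIte, _root_.mul_one, _root_.Int.cast_ofNat, _root_.one_smul]
  · intro j _ hj
    simp [hj]
  · intro h
    exact absurd (Finset.mem_univ i) h

theorem v_mem (h2 : (2 : F) ≠ 0) (v : Fin 7 → V) (i : Fin 7) : v i ∈ RX F v := Or.inl ⟨i, true, v_eq h2 v i⟩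

theorem RX_weyl (h2 : (2 : F) ≠ 0) {v : Fin 7 → V} {w : V ≃ₗ[F] V}
    (hw : ∀ i, w (v i) = ∑ k, ((2 : F)⁻¹ * ((AA (k + i) : ℤ) : F)) • v k) :
    ∀ y ∈ RX F v, w y ∈ RX F v := by
  have key : ∀ x y : Fin 7 → ℤ, (∀ k, wy x k = 2 * y k) → w (vec (F := F) v x) = vec (F := F) v y := by
    intro x y h
    have h3 : w (∑ i, ((x i : ℤ) : F) • v i) = ∑ k, ((y k : ℤ) : F) • v k := by
      rw [map_sum]
      simp only [map_smul, hw, Finset.smul_sum, smul_smul]
      rw [Finset.sum_comm]
      refine Finset.sum_congr rfl fun k _ => ?_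
      rw [← Finset.sum_smul]
      congr 1
      have h4 : ((wy x k : ℤ) : F) = 2 * ((y k : ℤ) : F) := by rw [h k]; push_cast; rfl
      have h5 : ((y k : ℤ) : F) = (2 : F)⁻¹ * ((wy x k : ℤ) : F) := by
        rw [h4, ← mul_assoc, inv_mul_cancel₀ h2, one_mul]
      rw [h5, Fin.sum_univ_seven]
      simp only [wy, add_zero]
      push_cast
      ring
    simp only [vec, map_smul]
    rw [h3]
  rintro y (⟨i, t, rfl⟩ | ⟨b, s0, s1, s2, s3, rfl⟩)
  · obtain ⟨t0, t1, t2, t3, ht⟩ := wy_d i t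
    exact Or.inr ⟨i, t0, t1, t2, t3, key _ _ ht⟩
  · rcases wy_q b s0 s1 s2 s3 with ⟨i, t, ht⟩ | ⟨b', t0, t1, t2, t3, ht⟩
    · exact Or.inl ⟨i, t, key _ _ ht⟩
    · exact Or.inr ⟨b', t0, t1, t2, t3, key _ _ ht⟩

end Cfsg.Agent.H856.Sw
end

-- part: H856/Sw7
section
/-!
# `SL₂(8)` in Ω₇(q) : elements of order 3 have trace 1 when the normaliser is maximal
-/

set_option autoImplicit false
set_option linter.unusedSectionVars false

open scoped Pointwise

namespace Cfsg.Agent.H856.Sw

open Matrix QuadraticMap Cfsg.Agent.H464.Sl2 Cfsg.Agent.H856.Sv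
open Cfsg.Agent.LieClassical.OrthCore Cfsg.Agent.LieClassical.OrthTrans

variable {F : Type*} [Field F] {V : Type*} [AddCommGroup V] [Module F V]

theorem preserve_inv {X : Set V} (hX : X.Finite) {k : V ≃ₗ[F] V} (hk : ∀ x ∈ X, k x ∈ X) : ∀ x ∈ X, k⁻¹ x ∈ X := by
  intro x hx
  have h1 : Set.SurjOn k X X :=
    ((hX.injOn_iff_bijOn_of_mapsTo hk).1 k.injective.injOn).surjOn
  obtain ⟨y, hy, rfl⟩ := h1 hx
  rwa [show k⁻¹ (k y) = y from k.symm_apply_apply y]

/-- the centraliser of a unipotent element -/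
theorem comm_u {K : Type*} [Field K] [Fintype K] (hK : Fintype.card K = 8) {g : _root_.Matrix.SpecialLinearGroup (Fin 2) K}
    (hg : g * u 1 = u 1 * g) : ∃ x : K, g = u x := by
  have h2 := two_eq hK
  have hdet : g.1 0 0 * g.1 1 1 - g.1 0 1 * g.1 1 0 = 1 := by
    have := g.2
    rwa [Matrix.det_fin_two] at this
  have hm : g.1 * !![1, 1; 0, 1] = !![1, 1; 0, 1] * g.1 := congrArg Subtype.val hg
  have h00 := congrFun (congrFun hm 0) 0
  have h01 := congrFun (congrFun hm 0) 1
  simp only [Matrix.mul_apply, Fin.sum_univ_two, _root_.Fin.isValue, _root_.Matrix.of_apply, _root_.Matrix.cons_val', _root_.Matrix.cons_val_zero, _root_.Matrix.cons_val_fin_one, _root_.mul_one, _root_.Matrix.cons_val_one, _root_.MulZeroClass.mul_zero, _root_.add_zero, _root_.one_mul, _root_.left_eq_add] at h00 h01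
  have had : g.1 0 0 = g.1 1 1 := by linear_combination h01
  have ha1 : g.1 0 0 = 1 := by
    rw [h00] at hdet
    have : (g.1 0 0 - 1) * (g.1 0 0 - 1) = 0 := by
      linear_combination hdet + g.1 0 0 * had + (1 - g.1 0 0) * h2
    rcases mul_eq_zero.1 this with h | h <;> linear_combination h
  refine ⟨g.1 0 1, ?_⟩
  apply Subtype.ext
  change g.1 = _
  ext i j
  (revert i j; simp only [h00, ha1, ← had, _root_.Fin.forall_fin_succ, Fin.isValue, _root_.Cfsg.Agent.H464.Sl2.u_coe, _root_.Matrix.of_apply, _root_.Matrix.cons_val', _root_.Matrix.cons_val_fin_one, _root_.Matrix.cons_val_zero, _root_.Matrix.cons_val_succ, _root_.Fin.succ_zero_eq_one, _root_.IsEmpty.forall_iff, _root_.and_true, _root_.and_self])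

namespace Frame

variable {e0 e1 e2 c : V ≃ₗ[F] V} {v : Fin 7 → V} (hv : Frame e0 e1 e2 c v) (hw : Wt e0 e1 e2 c)
  (h2 : (2 : F) ≠ 0) (h7 : Module.finrank F V = 7)

include hv hw h2 h7

theorem cast_inj {a b : ℤ} (ha : a = 1 ∨ a = -1) (hb : b = 1 ∨ b = -1) (h : (a : F) = (b : F)) : a = b := by
  rcases ha with rfl | rfl <;> rcases hb with rfl | rfl
  · rfl
  · exfalso
    apply h2
    push_cast at h
    linear_combination h
  · exfalso
    apply h2
    push_cast at h
    linear_combination -h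
  · rfl

/-- common eigenvectors are multiples of the weight vectors -/
theorem sep {y : V} {s0 s1 s2 : F} (h0 : e0 y = s0 • y) (h1 : e1 y = s1 • y) (h2' : e2 y = s2 • y) :
    ∃ i, ∃ d : F, y = d • v i ∧ (y ≠ 0 → s0 = ((sg 0 i : ℤ) : F) ∧ s1 = ((sg 1 i : ℤ) : F) ∧ s2 = ((sg 2 i : ℤ) : F)) := by
  by_cases hy : y = 0
  · exact ⟨0, 0, by rw [hy, zero_smul], fun h => absurd hy h⟩
  let B := hv.basis hw h2 h7
  have hB : ∀ i, B i = v i := hv.basis_apply hw h2 h7
  have hrep : y = ∑ i, B.repr y i • v i := by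
    conv_lhs => rw [← B.sum_repr y]
    simp only [hB]
  have hfin : FiniteDimensional F V := Module.finite_of_finrank_pos (by rw [h7]; norm_num)
  have coef : ∀ (e : V ≃ₗ[F] V) (s : F) (t : Fin 7 → F), (∀ i, e (v i) = t i • v i) → e y = s • y →
      ∀ i, B.repr y i ≠ 0 → s = t i := by
    intro e s t he hes i hi
    rw [hrep, map_sum, Finset.smul_sum, ← sub_eq_zero, ← Finset.sum_sub_distrib] at hes
    simp only [map_smul, he, smul_smul, ← sub_smul] at hes
    have h3 := Fintype.linearIndependent_iff.1 (hv.li hw h2) _ hes i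
    have h4 : B.repr y i * (t i - s) = 0 := by linear_combination h3
    rcases mul_eq_zero.1 h4 with h | h
    · exact absurd h hi
    · linear_combination -h
  obtain ⟨l, hl⟩ : ∃ l, B.repr y l ≠ 0 := by
    by_contra hno
    push Not at hno
    apply hy
    rw [hrep]
    exact Finset.sum_eq_zero fun i _ => by rw [hno, zero_smul]
  refine ⟨l, B.repr y l, ?_, fun _ => ⟨coef e0 s0 _ hv.h0 h0 l hl, coef e1 s1 _ hv.h1 h1 l hl, coef e2 s2 _ hv.h2 h2' l hl⟩⟩
  conv_lhs => rw [hrep]
  rw [Finset.sum_eq_single l]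
  · intro m _ hm
    by_contra hne
    apply hm
    have hm0 : B.repr y m ≠ 0 := fun h => hne (by rw [h, zero_smul])
    apply sg_sep
    · exact hv.cast_inj hw h2 h7 (sg_pm 0 m) (sg_pm 0 l) ((coef e0 s0 _ hv.h0 h0 m hm0).symm.trans (coef e0 s0 _ hv.h0 h0 l hl))
    · exact hv.cast_inj hw h2 h7 (sg_pm 1 m) (sg_pm 1 l) ((coef e1 s1 _ hv.h1 h1 m hm0).symm.trans (coef e1 s1 _ hv.h1 h1 l hl))
    · exact hv.cast_inj hw h2 h7 (sg_pm 2 m) (sg_pm 2 l) ((coef e2 s2 _ hv.h2 h2' m hm0).symm.trans (coef e2 s2 _ hv.h2 h2' l hl))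
  · intro h
    exact absurd (Finset.mem_univ l) h

/-- orthogonality -/
theorem polar_zero {Q : QuadraticForm F V} (h0 : e0 ∈ O Q) (h1 : e1 ∈ O Q) (h2' : e2 ∈ O Q) {i j : Fin 7} (hij : i ≠ j) :
    polar Q (v i) (v j) = 0 := by
  have key : ∀ (e : V ≃ₗ[F] V) (k : Fin 3), e ∈ O Q → (∀ i, e (v i) = ((sg k i : ℤ) : F) • v i) → sg k i ≠ sg k j →
      polar Q (v i) (v j) = 0 := by
    intro e k he hek hne
    have h3 : polar Q (e (v i)) (e (v j)) = polar Q (v i) (v j) := by
      rw [mem_O] at he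
      simp only [polar, ← map_add, he]
    rw [hek, hek, polar_smul_left, polar_smul_right, smul_eq_mul, smul_eq_mul, ← mul_assoc] at h3
    have h4 : sg k i * sg k j = -1 := by
      rcases sg_pm k i with h | h <;> rcases sg_pm k j with h' | h' <;> rw [h, h'] at hne ⊢ <;>
        first | rfl | exact absurd rfl hne
    have h5 : ((sg k i : ℤ) : F) * ((sg k j : ℤ) : F) = -1 := by
      rw [← Int.cast_mul, h4]; norm_num
    rw [h5] at h3
    have h6 : 2 * polar Q (v i) (v j) = 0 := by linear_combination -h3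
    exact (mul_eq_zero.1 h6).resolve_left h2
  by_cases a0 : sg 0 i = sg 0 j
  · by_cases a1 : sg 1 i = sg 1 j
    · refine key e2 2 h2' hv.h2 fun a2 => hij (sg_sep i j a0 a1 a2)
    · exact key e1 1 h1 hv.h1 a1
  · exact key e0 0 h0 hv.h0 a0

theorem Q_ne {Q : QuadraticForm F V} (hQ : Nondeg Q) (h0 : e0 ∈ O Q) (h1 : e1 ∈ O Q) (h2' : e2 ∈ O Q) (i : Fin 7) :
    Q (v i) ≠ 0 := by
  intro h
  apply hv.ne i
  apply hQ
  have h3 : polarBilin Q (v i) = 0 := by
    apply (hv.basis hw h2 h7).ext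
    intro j
    rw [hv.basis_apply]
    show polar Q (v i) (v j) = 0
    by_cases hij : i = j
    · rw [← hij, polar_self', h, mul_zero]
    · exact hv.polar_zero hw h2 h7 h0 h1 h2' hij
  intro y
  exact congrArg (fun f : V →ₗ[F] F => f y) h3

end Frame

end Cfsg.Agent.H856.Sw
end

-- part: H856/Sw8
section
/-!
# `SL₂(8)` in Ω₇(q) : elements of order 3 have trace 1 when the normaliser is maximal (conclusion)
-/

set_option autoImplicit false
set_option linter.unusedSectionVars false

open scoped Pointwise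

namespace Cfsg.Agent.H856.Sw

open Matrix QuadraticMap Cfsg.Agent.H464.Sl2 Cfsg.Agent.H856.Sv
open Cfsg.Agent.LieClassical.OrthCore Cfsg.Agent.LieClassical.OrthTrans

variable {F : Type*} [Field F] {V : Type*} [AddCommGroup V] [Module F V]

/-- **`L₂(8)`** : trace 1 on elements of order 3 -/
theorem _root_.Cfsg.Agent.H856.Sv.Max7.l28 [Finite F] {Q : QuadraticForm F V} {H P : Subgroup (V ≃ₗ[F] V)}
    (hM : Max7 Q H P) {K : Type*} [Field K] [Fintype K] (hK : Fintype.card K = 8)
    (ρ : _root_.Matrix.SpecialLinearGroup (Fin 2) K →* (V ≃ₗ[F] V)) (hρ : Function.Injective ρ) (hr : ρ.range = P) :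
    LinearMap.trace F V ((ρ (w 1) * ρ (u 1) : V ≃ₗ[F] V) : V →ₗ[F] V) = 1 := by
  have h2 := hM.two_ne
  have h7 := hM.finrank_eq
  have hfin := hM.finiteDim
  obtain ⟨b, hb⟩ := exists_beta hK
  have ho := oc_of hK hb ρ hρ h2 h7
  have hw := ho.toWt
  obtain ⟨v, hv⟩ := hw.frame h2
  obtain ⟨a, ha⟩ : ∃ a : Fin 7 → F, ρ (w 1) (v 0) = ∑ j, a j • v j := by
    refine ⟨fun j => (hv.basis hw h2 h7).repr (ρ (w 1) (v 0)) j, ?_⟩
    conv_lhs => rw [← (hv.basis hw h2 h7).sum_repr (ρ (w 1) (v 0))]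
    simp only [hv.basis_apply]
  rcases ho.solve hv h2 h7 ha with h | ⟨a0, a1, a2, a3, a4, a5, a6⟩
  · exact h
  exfalso
  have hA : ∀ j, a j = (2 : F)⁻¹ * ((AA j : ℤ) : F) := by
    intro j
    fin_cases j
    · refine a0.trans ?_; simp [AA]
    · refine a1.trans ?_; simp [AA]
    · refine a2.trans ?_; simp [AA]
    · refine a3.trans ?_; simp [AA]
    · refine a4.trans ?_; simp [AA]
    · refine a5.trans ?_; simp [AA]
    · refine a6.trans ?_; simp [AA]
  have hwv : ∀ i, ρ (w 1) (v i) = ∑ k, ((2 : F)⁻¹ * ((AA (k + i) : ℤ) : F)) • v k := by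
    intro i
    rw [ho.w_apply hv ha i]
    exact Finset.sum_congr rfl fun k _ => by rw [hA]
  -- the group `P` preserves the root system
  have hX := RX_finite (F := F) v
  have he0X : ∀ y ∈ RX F v, ρ (u 1) y ∈ RX F v := RX_diag hv.h0 (sign_d 0) (sign_q 0)
  have he1X : ∀ y ∈ RX F v, ρ (u (b : K)) y ∈ RX F v := RX_diag hv.h1 (sign_d 1) (sign_q 1)
  have he2X : ∀ y ∈ RX F v, ρ (u ((b : K) * b)) y ∈ RX F v := RX_diag hv.h2 (sign_d 2) (sign_q 2)
  have hcX : ∀ y ∈ RX F v, ρ (t (b ^ 4)) y ∈ RX F v := RX_shift hv.hc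
  have hwX : ∀ y ∈ RX F v, ρ (w 1) y ∈ RX F v := RX_weyl h2 hwv
  have hPX : ∀ g : _root_.Matrix.SpecialLinearGroup (Fin 2) K, ∀ y ∈ RX F v, ρ g y ∈ RX F v := by
    let S : Subgroup (_root_.Matrix.SpecialLinearGroup (Fin 2) K) :=
      { carrier := {g | ∀ y ∈ RX F v, ρ g y ∈ RX F v}
        mul_mem' := fun {g h} hg hh y hy => by
          rw [map_mul]
          exact hg _ (hh y hy)
        one_mem' := fun y hy => by rw [map_one]; exact hy
        inv_mem' := fun {g} hg y hy => by
          rw [map_inv]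
          exact preserve_inv hX hg y hy }
    have hS : S = ⊤ := gen_sl hK S (b_ne_one hK hb) he0X hcX hwX
    intro g
    have : g ∈ S := by rw [hS]; trivial
    exact this
  have hPO : ∀ g : _root_.Matrix.SpecialLinearGroup (Fin 2) K, ρ g ∈ O Q := fun g =>
    hM.H_le_O (hM.PH (by rw [← hr]; exact ⟨g, rfl⟩))
  have hQc : ∀ i, Q (v i) = Q (v 0) := by
    have key : ∀ i, Q (v (i + 1)) = Q (v i) := fun i => by
      rw [← hv.hc]
      exact hPO _ _
    have q1 := key 0
    have q2 := key 1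
    have q3 := key 2
    have q4 := key 3
    have q5 := key 4
    have q6 := key 5
    intro i
    fin_cases i
    · rfl
    · exact q1
    · exact q2.trans q1
    · exact q3.trans (q2.trans q1)
    · exact q4.trans (q3.trans (q2.trans q1))
    · exact q5.trans (q4.trans (q3.trans (q2.trans q1)))
    · exact q6.trans (q5.trans (q4.trans (q3.trans (q2.trans q1))))
  have hQ0 : Q (v 0) ≠ 0 := hv.Q_ne hw h2 h7 hM.nondeg (hPO _) (hPO _) (hPO _) 0
  -- the unipotent elements act by signs
  have usign : ∀ (x : K) (i : Fin 7), ∃ s : F, ρ (u x) (v i) = s • v i := by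
    intro x i
    have comm : ∀ (y : K) (z : V), ρ (u y) (ρ (u x) z) = ρ (u x) (ρ (u y) z) := by
      intro y z
      show (ρ (u y) * ρ (u x)) z = (ρ (u x) * ρ (u y)) z
      rw [← map_mul, ← map_mul, ← u_add, ← u_add, add_comm]
    obtain ⟨l, d, hd, hsg⟩ := hv.sep hw h2 h7 (y := ρ (u x) (v i)) (s0 := ((sg 0 i : ℤ) : F)) (s1 := ((sg 1 i : ℤ) : F))
      (s2 := ((sg 2 i : ℤ) : F)) (by rw [comm, hv.h0, map_smul]) (by rw [comm, hv.h1, map_smul])
      (by rw [comm, hv.h2, map_smul])
    have hne : ρ (u x) (v i) ≠ 0 := fun h => hv.ne i ((ρ (u x)).injective (by rw [h, map_zero]))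
    obtain ⟨g0, g1, g2⟩ := hsg hne
    have hil : i = l := sg_sep i l (hv.cast_inj hw h2 h7 (sg_pm 0 i) (sg_pm 0 l) g0)
      (hv.cast_inj hw h2 h7 (sg_pm 1 i) (sg_pm 1 l) g1) (hv.cast_inj hw h2 h7 (sg_pm 2 i) (sg_pm 2 l) g2)
    rw [← hil] at hd
    exact ⟨d, hd⟩
  -- elements of `H` map the frame into the root system
  have hHv : ∀ h ∈ H, ∀ i, h (v i) ∈ RX F v := by
    intro h hh i
    have hnP : h * ρ (u 1) * h⁻¹ ∈ ρ.range := by
      rw [hr]
      exact hM.normal h hh _ (by rw [← hr]; exact ⟨_, rfl⟩)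
    obtain ⟨g', hg'⟩ := hnP
    have hg1 : g' * g' = 1 := by
      apply hρ
      rw [map_mul, hg', map_one]
      have h3 : ρ (u (1 : K)) * ρ (u 1) = 1 := by rw [← map_mul, u_mul_self hK, map_one]
      have h4 : h * ρ (u 1) * h⁻¹ * (h * ρ (u 1) * h⁻¹) = h * (ρ (u 1) * ρ (u 1)) * h⁻¹ := by group
      rw [h4, h3]
      group
    have hg2 : g' ≠ 1 := by
      intro h3
      rw [h3, map_one] at hg'
      apply hw.ne
      have h4 : ρ (u (1 : K)) = h⁻¹ * (h * ρ (u 1) * h⁻¹) * h := by group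
      rw [h4, ← hg']
      group
    obtain ⟨k, hk⟩ := invol_conj hK hg1 hg2
    let h' : V ≃ₗ[F] V := (ρ k)⁻¹ * h
    have hh' : h' ∈ H := H.mul_mem (H.inv_mem (hM.PH (by rw [← hr]; exact ⟨k, rfl⟩))) hh
    have hcomm : h' * ρ (u 1) = ρ (u 1) * h' := by
      have h3 : ρ g' * h = h * ρ (u 1) := by rw [hg']; group
      have h4 : ρ g' * ρ k = ρ k * ρ (u 1) := by rw [← map_mul, hk, map_mul]
      show (ρ k)⁻¹ * h * ρ (u 1) = ρ (u 1) * ((ρ k)⁻¹ * h)
      rw [mul_assoc, ← h3, ← mul_assoc, ← mul_assoc]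
      congr 1
      rw [inv_mul_eq_iff_eq_mul, ← mul_assoc, eq_mul_inv_iff_mul_eq]
      exact h4
    -- eigenvectors
    have heig : ∀ x : K, ∃ s : F, ρ (u x) (h' (v i)) = s • h' (v i) := by
      intro x
      have h3 : h'⁻¹ * ρ (u x) * h'⁻¹⁻¹ ∈ ρ.range := by
        rw [hr]
        exact hM.normal _ (H.inv_mem hh') _ (by rw [← hr]; exact ⟨_, rfl⟩)
      obtain ⟨g3, hg3⟩ := h3
      rw [inv_inv] at hg3
      have hc3 : g3 * u 1 = u 1 * g3 := by
        apply hρ
        rw [map_mul, map_mul, hg3]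
        have h4 : ρ (u x) * ρ (u 1) = ρ (u 1) * ρ (u x) := by
          rw [← map_mul, ← map_mul, ← u_add, ← u_add, add_comm]
        calc h'⁻¹ * ρ (u x) * h' * ρ (u 1) = h'⁻¹ * ρ (u x) * (h' * ρ (u 1)) := by group
          _ = h'⁻¹ * (ρ (u x) * ρ (u 1)) * h' := by rw [hcomm]; group
          _ = h'⁻¹ * ρ (u 1) * ρ (u x) * h' := by rw [h4]; group
          _ = ρ (u 1) * (h'⁻¹ * ρ (u x) * h') := by
            have h5 : h'⁻¹ * ρ (u 1) = ρ (u 1) * h'⁻¹ := by
              rw [inv_mul_eq_iff_eq_mul, ← mul_assoc, hcomm, mul_inv_cancel_right]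
            rw [h5]; group
      obtain ⟨x', rfl⟩ := comm_u hK hc3
      obtain ⟨s, hs⟩ := usign x' i
      refine ⟨s, ?_⟩
      have h4 : ρ (u x) * h' = h' * ρ (u x') := by rw [hg3]; group
      have h5 : (ρ (u x) * h') (v i) = (h' * ρ (u x')) (v i) := by rw [h4]
      rw [show ρ (u x) (h' (v i)) = (ρ (u x) * h') (v i) from rfl, h5]
      show h' (ρ (u x') (v i)) = _
      rw [hs, map_smul]
    obtain ⟨s0, hs0⟩ := heig 1
    obtain ⟨s1, hs1⟩ := heig (b : K)
    obtain ⟨s2, hs2⟩ := heig ((b : K) * b)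
    obtain ⟨l, d, hd, -⟩ := hv.sep hw h2 h7 hs0 hs1 hs2
    have hdd : d * d = 1 := by
      have h3 : Q (h' (v i)) = Q (v i) := hM.H_le_O hh' _
      rw [hd, QuadraticMap.map_smul, smul_eq_mul, hQc l, hQc i] at h3
      apply mul_right_cancel₀ hQ0
      rw [one_mul]
      exact h3
    have hmem : h' (v i) ∈ RX F v := by
      rw [hd]
      rcases mul_self_eq_one_iff.1 hdd with rfl | rfl
      · rw [one_smul]
        exact v_mem h2 v l
      · rw [neg_smul, one_smul]
        exact RX_neg _ (v_mem h2 v l)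
    have h3 : h (v i) = ρ k (h' (v i)) := by
      show h (v i) = (ρ k * ((ρ k)⁻¹ * h)) (v i)
      rw [mul_inv_cancel_left]
    rw [h3]
    exact hPX k _ hmem
  -- elements of the root system are translates of the frame
  have htr : ∀ y ∈ RX F v, ∃ (g : _root_.Matrix.SpecialLinearGroup (Fin 2) K) (i : Fin 7), y = ρ g (v i) ∨ y = -ρ g (v i) := by
    have hpw : ∀ (m : Bool) (x : K) (j : Fin 3), (∀ i, ρ (u x) (v i) = ((sg j i : ℤ) : F) • v i) →
        ∃ g : _root_.Matrix.SpecialLinearGroup (Fin 2) K, ∀ i, ρ g (v i) = ((pw m (sg j i) : ℤ) : F) • v i := by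
      intro m x j hx
      cases m
      · exact ⟨1, fun i => by rw [map_one]; simp [pw]⟩
      · exact ⟨u x, fun i => by rw [hx]; simp [pw]⟩
    rintro y (⟨i, t, rfl⟩ | ⟨i, t0, t1, t2, t3, rfl⟩)
    · refine ⟨1, i, ?_⟩
      rw [map_one]
      cases t
      · right
        show _ = -(v i)
        rw [v_eq h2 v i]
        simp only [vec]
        rw [← smul_neg, ← Finset.sum_neg_distrib]
        congr 1
        refine Finset.sum_congr rfl fun k _ => ?_
        have h3 : xd i false k = -xd i true k := by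
          have : ∀ i k, xd i false k = -xd i true k := by decide
          exact this i k
        rw [h3, Int.cast_neg, neg_smul]
      · left
        exact (v_eq h2 v i).symm
    · obtain ⟨m0, m1, m2, s, hs⟩ := trans_q i t0 t1 t2 t3
      obtain ⟨g0, hg0⟩ := hpw m0 1 0 hv.h0
      obtain ⟨g1, hg1⟩ := hpw m1 (b : K) 1 hv.h1
      obtain ⟨g2, hg2⟩ := hpw m2 ((b : K) * b) 2 hv.h2
      have hval : ρ (g0 * (g1 * (g2 * w 1))) (v i) =
          ∑ k, ((2 : F)⁻¹ * ((pw m0 (sg 0 k) * (pw m1 (sg 1 k) * (pw m2 (sg 2 k) * AA (k + i))) : ℤ) : F)) • v k := by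
        rw [map_mul, map_mul, map_mul]
        show ρ g0 (ρ g1 (ρ g2 (ρ (w 1) (v i)))) = _
        rw [hwv]
        simp only [map_sum, map_smul, hg0, hg1, hg2, smul_smul]
        refine Finset.sum_congr rfl fun k _ => ?_
        congr 1
        push_cast
        ring
      have hvec : vec (F := F) v (xq i t0 t1 t2 t3) = ((bs s : ℤ) : F) • ρ (g0 * (g1 * (g2 * w 1))) (v i) := by
        rw [hval]
        simp only [vec, hs, Finset.smul_sum, smul_smul]
        refine Finset.sum_congr rfl fun k _ => ?_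
        congr 1
        push_cast
        ring
      refine ⟨g0 * (g1 * (g2 * w 1)), i, ?_⟩
      rw [hvec]
      cases s
      · right
        simp only [bs, _root_.Bool.false_eq_true, ↓ _root_.reduceIte, _root_.Int.reduceNeg, _root_.Int.cast_neg, _root_.Int.cast_one, _root_.map_mul, _root_.LinearEquiv.mul_apply, _root_.neg_smul, _root_.one_smul]
      · left
        simp only [bs, ↓ _root_.reduceIte, _root_.Int.cast_one, _root_.map_mul, _root_.LinearEquiv.mul_apply, _root_.one_smul]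
  have hHX : ∀ h ∈ H, ∀ y ∈ RX F v, h y ∈ RX F v := by
    have key : ∀ h ∈ H, ∀ (g : _root_.Matrix.SpecialLinearGroup (Fin 2) K) i, h (ρ g (v i)) ∈ RX F v := by
      intro h hh g i
      have h3 : h * ρ g * h⁻¹ ∈ ρ.range := by
        rw [hr]
        exact hM.normal h hh _ (by rw [← hr]; exact ⟨_, rfl⟩)
      obtain ⟨g', hg'⟩ := h3
      have h4 : h * ρ g = ρ g' * h := by rw [hg']; group
      have h5 : h (ρ g (v i)) = ρ g' (h (v i)) := by
        show (h * ρ g) (v i) = _
        rw [h4]; rfl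
      rw [h5]
      exact hPX g' _ (hHv h hh i)
    intro h hh y hy
    obtain ⟨g, i, rfl | rfl⟩ := htr y hy
    · exact key h hh g i
    · rw [map_neg]
      exact RX_neg _ (key h hh g i)
  -- the reflections
  let r : V ≃ₗ[F] V := LieClassical.OrthCore.refl Q (v 0) hQ0
  have hrO : r ∈ O Q := refl_mem_O hQ0
  have hrr : r⁻¹ = r := refl_inv hQ0
  have hrv : ∀ k, r (v k) = ((sc 0 k : ℤ) : F) • v k := by
    intro k
    show LieClassical.OrthCore.refl Q (v 0) hQ0 (v k) = _
    rw [LieClassical.OrthCore.refl_apply]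
    by_cases hk : k = 0
    · rw [hk, polar_self']
      have h3 : (Q (v 0))⁻¹ * (2 * Q (v 0)) = 2 := by field_simp
      rw [h3]
      simp only [sc, if_true]
      module
    · rw [hv.polar_zero hw h2 h7 (hPO _) (hPO _) (hPO _) (Ne.symm hk), mul_zero, zero_smul, sub_zero]
      simp only [sc, if_neg hk]
      module
  have hrX : ∀ y ∈ RX F v, r y ∈ RX F v := RX_diag hrv (flip_d 0) (flip_q 0)
  let c : V ≃ₗ[F] V := ρ (t (b ^ 4))
  have hcinvX := preserve_inv hX hcX
  have hcv : ∀ k, c (v k) = v (k + 1) := hv.hc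
  have hcv' : ∀ k, c⁻¹ (v (k + 1)) = v k := by
    intro k
    rw [← hcv]
    exact c.symm_apply_apply _
  let D : V ≃ₗ[F] V := r * c * r⁻¹ * c⁻¹
  have hDv : ∀ k, D (v (k + 1)) = ((sc 0 k * sc 0 (k + 1) : ℤ) : F) • v (k + 1) := by
    intro k
    show r (c (r⁻¹ (c⁻¹ (v (k + 1))))) = _
    rw [hcv', hrr, hrv, map_smul, map_smul, hcv, hrv, smul_smul]
    push_cast
    rfl
  have hDE : D ∈ E Q := by
    rw [← hM.comm_eq]
    exact Subgroup.commutator_mem_commutator hrO (hPO _)
  have hDX : ∀ y ∈ RX F v, D y ∈ RX F v := by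
    intro y hy
    show r (c (r⁻¹ (c⁻¹ y))) ∈ RX F v
    rw [hrr]
    exact hrX _ (hcX _ (hrX _ (hcinvX _ hy)))
  have hDH : D ∈ H := hM.mem_of_preserve hX (RX_ncard v) (v_mem h2 v 0) (hv.ne 0) hHX hDE hDX
  have hD' : ∀ k, D (v k) = ((sc 0 (k - 1) * sc 0 k : ℤ) : F) • v k := by
    intro k
    have := hDv (k - 1)
    rwa [sub_add_cancel] at this
  have hDinv : ∀ k, D⁻¹ (v k) = ((sc 0 (k - 1) * sc 0 k : ℤ) : F) • v k := by
    intro k
    apply D.injective
    rw [show D (D⁻¹ (v k)) = v k from D.apply_symm_apply _, map_smul, hD', smul_smul, ← Int.cast_mul]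
    have h3 : ∀ k : Fin 7, sc 0 (k - 1) * sc 0 k * (sc 0 (k - 1) * sc 0 k) = 1 := by decide
    rw [h3, Int.cast_one, one_smul]
  -- the commutator lies in `P`
  let y : V ≃ₗ[F] V := D * c * D⁻¹ * c⁻¹
  have hyP : y ∈ ρ.range := by
    rw [hr]
    have hcP : c ∈ P := by rw [← hr]; exact ⟨_, rfl⟩
    exact P.mul_mem (hM.normal D hDH c hcP) (P.inv_mem hcP)
  have hyv : ∀ k, y (v k) = ((sc 0 (k - 1 - 1) * sc 0 (k - 1) * (sc 0 (k - 1) * sc 0 k) : ℤ) : F) • v k := by
    intro k
    have h3 : y (v (k - 1 + 1)) = ((sc 0 (k - 1 - 1) * sc 0 (k - 1) * (sc 0 (k - 1) * sc 0 k) : ℤ) : F) • v k := by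
      show D (c (D⁻¹ (c⁻¹ (v (k - 1 + 1))))) = _
      rw [hcv', hDinv, map_smul, map_smul, hcv, sub_add_cancel, hD', smul_smul]
      push_cast
      rfl
    rwa [sub_add_cancel] at h3
  obtain ⟨g, hg⟩ := hyP
  have hgg : g * g = 1 := by
    apply hρ
    rw [map_mul, hg, map_one]
    apply LinearEquiv.toLinearMap_injective
    apply (hv.basis hw h2 h7).ext
    intro k
    rw [hv.basis_apply]
    show y (y (v k)) = v k
    rw [hyv, map_smul, hyv, smul_smul, ← Int.cast_mul]
    have h3 : ∀ k : Fin 7, sc 0 (k - 1 - 1) * sc 0 (k - 1) * (sc 0 (k - 1) * sc 0 k) *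
      (sc 0 (k - 1 - 1) * sc 0 (k - 1) * (sc 0 (k - 1) * sc 0 k)) = 1 := by decide
    rw [h3, Int.cast_one, one_smul]
  have hg1 : g ≠ 1 := by
    intro h
    rw [h, map_one] at hg
    have h3 := hyv 0
    rw [← hg, show sc 0 ((0 : Fin 7) - 1 - 1) * sc 0 (0 - 1) * (sc 0 (0 - 1) * sc 0 0) = -1 by decide] at h3
    have h4 : v 0 = ((-1 : ℤ) : F) • v 0 := h3
    have h5 : (2 : F) • v 0 = 0 := by
      rw [two_smul]
      nth_rewrite 1 [h4]
      push_cast
      module
    exact hv.ne 0 ((smul_eq_zero.1 h5).resolve_left h2)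
  obtain ⟨k, hk⟩ := invol_conj hK hgg hg1
  have htr1 : LinearMap.trace F V (y : V →ₗ[F] V) = -1 := by
    rw [← Oc.trace_e0 hv hw h2 h7, ← hg]
    apply trace_conj' (k := ρ k)
    rw [← map_mul, hk, map_mul]
  have htr3 : LinearMap.trace F V (y : V →ₗ[F] V) = 3 := by
    rw [LinearMap.trace_eq_matrix_trace F (hv.basis hw h2 h7), Matrix.trace]
    have key : ∀ i, (LinearMap.toMatrix (hv.basis hw h2 h7) (hv.basis hw h2 h7) (y : V →ₗ[F] V)).diag i =
        ((sc 0 (i - 1 - 1) * sc 0 (i - 1) * (sc 0 (i - 1) * sc 0 i) : ℤ) : F) := by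
      intro i
      rw [Matrix.diag_apply, LinearMap.toMatrix_apply, hv.basis_apply]
      have h1 : (y : V →ₗ[F] V) (v i) = ((sc 0 (i - 1 - 1) * sc 0 (i - 1) * (sc 0 (i - 1) * sc 0 i) : ℤ) : F) •
          hv.basis hw h2 h7 i := by
        rw [hv.basis_apply]
        exact hyv i
      rw [h1, map_smul]
      simp
    rw [Finset.sum_congr rfl fun i _ => key i, ← Int.cast_sum]
    have h3 : ∑ i : Fin 7, sc 0 (i - 1 - 1) * sc 0 (i - 1) * (sc 0 (i - 1) * sc 0 i) = 3 := by decide
    rw [h3]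
    norm_num
  rw [htr1] at htr3
  have h4 : (2 : F) * 2 = 0 := by linear_combination -htr3
  rcases mul_eq_zero.1 h4 with h | h <;> exact h2 h

end Cfsg.Agent.H856.Sw
end

-- part: H856/Sx1
section
/-!
# The invariant alternating 3-form of `SL₂(8)` in dimension 7 (helper856)
-/

set_option autoImplicit false
set_option linter.unusedSectionVars false

namespace Cfsg.Agent.H856.Sx

open Cfsg.Agent.H856.Sw Cfsg.Agent.H179.G2

/-- the ring `ℤ[Y, Z]`, `Y² = 3 - Z`, `Z² = 3 Z + Y`, `Y Z = -1` -/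
abbrev R3 : Type := ℤ × ℤ × ℤ

/-- product -/
def rm (a b : R3) : R3 :=
  (a.1 * b.1 + 3 * (a.2.1 * b.2.1) - a.2.1 * b.2.2 - a.2.2 * b.2.1,
    a.1 * b.2.1 + a.2.1 * b.1 + a.2.2 * b.2.2,
    a.1 * b.2.2 + a.2.2 * b.1 - a.2.1 * b.2.1 + 3 * (a.2.2 * b.2.2))

/-- the entries of `4 w` -/
def Aw : Fin 7 → R3 := ![(-1, 0, 0), (-1, 1, 0), (-2, 0, 1), (-1, 0, 1), (0, -1, -1), (0, 1, 0), (1, -1, -1)]

/-- minors -/
def d3R (i j k : Fin 7) (x y z : Fin 7 → R3) : R3 :=
  rm (x i) (rm (y j) (z k) - rm (y k) (z j)) - rm (x j) (rm (y i) (z k) - rm (y k) (z i)) +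
    rm (x k) (rm (y i) (z j) - rm (y j) (z i))

/-- the sum of the seven minors -/
def F1R (x y z : Fin 7 → R3) : R3 :=
  d3R 0 1 5 x y z + d3R 1 2 6 x y z + d3R 2 3 0 x y z + d3R 3 4 1 x y z + d3R 4 5 2 x y z +
    d3R 5 6 3 x y z + d3R 6 0 4 x y z

/-- unit vectors -/
def ei (i k : Fin 7) : ℤ := if k = i then 1 else 0

/-- minors over `ℤ` -/
def d3Z (i j k : Fin 7) (x y z : Fin 7 → ℤ) : ℤ :=
  x i * (y j * z k - y k * z j) - x j * (y i * z k - y k * z i) + x k * (y i * z j - y j * z i)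

/-- the sum of the seven minors over `ℤ` -/
def F1Z (x y z : Fin 7 → ℤ) : ℤ :=
  d3Z 0 1 5 x y z + d3Z 1 2 6 x y z + d3Z 2 3 0 x y z + d3Z 3 4 1 x y z + d3Z 4 5 2 x y z +
    d3Z 5 6 3 x y z + d3Z 6 0 4 x y z

private noncomputable def _root_.Cfsg.Agent.LsF.ff2c766_0 : {f // @Cfsg.Agent.H856.Sx.rm = f} := ⟨_, by first | (delta Cfsg.Agent.H856.Sx.rm; rewrite [Cfsg.Agent.LsF.iadd_pat, Cfsg.Agent.LsF.imul_pat, Cfsg.Agent.LsF.isub_pat]; exact rfl) | exact rfl⟩
private noncomputable def _root_.Cfsg.Agent.LsF.ff2c766_1 : {f // @Cfsg.Agent.H856.Sx.d3R = f} := ⟨_, by first | (delta Cfsg.Agent.H856.Sx.d3R; rewrite [Cfsg.Agent.LsF.ff2c766_0.2, Cfsg.Agent.LsF.instIAdd_eq, Cfsg.Agent.LsF.instISub_eq]; exact rfl) | exact rfl⟩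
private noncomputable def _root_.Cfsg.Agent.LsF.ff2c766_2 : {f // @Cfsg.Agent.H856.Sx.F1R = f} := ⟨_, by first | (delta Cfsg.Agent.H856.Sx.F1R; rewrite [Cfsg.Agent.LsF.ff2c766_1.2, Cfsg.Agent.LsF.instIAdd_eq]; exact rfl) | exact rfl⟩
private noncomputable def _root_.Cfsg.Agent.LsF.ff2c766_3 : {f // @Cfsg.Agent.H856.Sx.Aw = f} := ⟨_, by first | (delta Cfsg.Agent.H856.Sx.Aw; rewrite [Cfsg.Agent.LsF.ineg_pat, Cfsg.Agent.LsF.vecCons_eq]; exact rfl) | exact rfl⟩
private noncomputable def _root_.Cfsg.Agent.LsF.ff2c766_4 : {f // @Cfsg.Agent.H856.Sx.d3Z = f} := ⟨_, by first | (delta Cfsg.Agent.H856.Sx.d3Z; rewrite [Cfsg.Agent.LsF.iadd_pat, Cfsg.Agent.LsF.imul_pat, Cfsg.Agent.LsF.isub_pat]; exact rfl) | exact rfl⟩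
private noncomputable def _root_.Cfsg.Agent.LsF.ff2c766_5 : {f // @Cfsg.Agent.H856.Sx.F1Z = f} := ⟨_, by first | (delta Cfsg.Agent.H856.Sx.F1Z; rewrite [Cfsg.Agent.LsF.ff2c766_4.2, Cfsg.Agent.LsF.iadd_pat]; exact rfl) | exact rfl⟩
private noncomputable def _root_.Cfsg.Agent.LsF.ff2c766_6 : {f // @Cfsg.Agent.H856.Sx.ei = f} := ⟨_, by first | (delta Cfsg.Agent.H856.Sx.ei; rewrite [Cfsg.Agent.LsF.dFinEq_eq, Cfsg.Agent.LsF.ite_eq]; exact rfl) | exact rfl⟩
theorem table : ∀ i j k : Fin 7, F1R (fun m => Aw (m + i)) (fun m => Aw (m + j)) (fun m => Aw (m + k)) =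
    (64 * F1Z (ei i) (ei j) (ei k), 0, 0) := by (refine of_decide_eq_true ?_; (try (rewrite [Cfsg.Agent.LsF.ff2c766_2.2, Cfsg.Agent.LsF.ff2c766_3.2, Cfsg.Agent.LsF.ff2c766_5.2, Cfsg.Agent.LsF.ff2c766_6.2, Cfsg.Agent.LsF.imul_pat, Cfsg.Agent.LsF.fadd_pat, Cfsg.Agent.LsF.dProdEq_eq, Cfsg.Agent.LsF.instIDecEq_eq, Cfsg.Agent.LsF.dForallFin_eq, Cfsg.Agent.LsF.decide_eq])); decide +kernel)

theorem table_shift : ∀ i j k : Fin 7, F1Z (ei (i + 1)) (ei (j + 1)) (ei (k + 1)) =
    F1Z (ei i) (ei j) (ei k) := by (delta Cfsg.Agent.H856.Sx.F1Z Cfsg.Agent.H856.Sx.ei Cfsg.Agent.H856.Sx.d3Z; set_option synthInstance.maxSize 100000 in exact Cfsg.Agent.Lib.Refl.of (by decide +kernel))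

theorem table_sign : ∀ i j k : Fin 7, sg 0 i * sg 0 j * sg 0 k * F1Z (ei i) (ei j) (ei k) =
    F1Z (ei i) (ei j) (ei k) := by (delta Cfsg.Agent.H856.Sx.F1Z Cfsg.Agent.H856.Sx.ei Cfsg.Agent.H856.Sx.d3Z; set_option synthInstance.maxSize 100000 in exact Cfsg.Agent.Lib.Refl.of (by decide +kernel))

variable {F : Type*} [Field F]

/-- the 3-form in coordinates -/
def F1 (x y z : Fin 7 → F) : F :=
  d3 0 1 5 x y z + d3 1 2 6 x y z + d3 2 3 0 x y z + d3 3 4 1 x y z + d3 4 5 2 x y z +
    d3 5 6 3 x y z + d3 6 0 4 x y z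

/-- evaluation -/
def ev (Y Z : F) (a : R3) : F := a.1 + a.2.1 * Y + a.2.2 * Z

section ev

variable {Y Z : F} (h1 : Y * Z = -1) (h2 : Y ^ 2 = 3 - Z) (h3 : Z ^ 2 = 3 * Z + Y)

include h1 h2 h3

theorem ev_mul (a b : R3) : ev Y Z (rm a b) = ev Y Z a * ev Y Z b := by
  simp only [ev, rm]
  push_cast
  linear_combination (-(a.2.1 : F) * b.2.2 - (a.2.2 : F) * b.2.1) * h1 - (a.2.1 : F) * b.2.1 * h2 -
    (a.2.2 : F) * b.2.2 * h3

omit h1 h2 h3 in
theorem ev_add (a b : R3) : ev Y Z (a + b) = ev Y Z a + ev Y Z b := by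
  simp only [ev, Prod.fst_add, Prod.snd_add]
  push_cast
  ring

omit h1 h2 h3 in
theorem ev_sub (a b : R3) : ev Y Z (a - b) = ev Y Z a - ev Y Z b := by
  simp only [ev, Prod.fst_sub, Prod.snd_sub]
  push_cast
  ring

theorem ev_F1 (x y z : Fin 7 → R3) : ev Y Z (F1R x y z) =
    F1 (fun m => ev Y Z (x m)) (fun m => ev Y Z (y m)) (fun m => ev Y Z (z m)) := by
  simp only [F1R, F1, d3R, d3, ev_add, ev_sub, ev_mul h1 h2 h3]

end ev

theorem F1_add1 (x x' y z : Fin 7 → F) : F1 (x + x') y z = F1 x y z + F1 x' y z := by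
  simp only [F1, d3, Pi.add_apply]; ring
theorem F1_add2 (x y y' z : Fin 7 → F) : F1 x (y + y') z = F1 x y z + F1 x y' z := by
  simp only [F1, d3, Pi.add_apply]; ring
theorem F1_add3 (x y z z' : Fin 7 → F) : F1 x y (z + z') = F1 x y z + F1 x y z' := by
  simp only [F1, d3, Pi.add_apply]; ring
theorem F1_smul1 (c : F) (x y z : Fin 7 → F) : F1 (c • x) y z = c * F1 x y z := by
  simp only [F1, d3, Pi.smul_apply, smul_eq_mul]; ring
theorem F1_smul2 (c : F) (x y z : Fin 7 → F) : F1 x (c • y) z = c * F1 x y z := by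
  simp only [F1, d3, Pi.smul_apply, smul_eq_mul]; ring
theorem F1_smul3 (c : F) (x y z : Fin 7 → F) : F1 x y (c • z) = c * F1 x y z := by
  simp only [F1, d3, Pi.smul_apply, smul_eq_mul]; ring

variable {V : Type*} [AddCommGroup V] [Module F V]

/-- the 3-form on `V` -/
noncomputable def f1 (b : Module.Basis (Fin 7) F V) : V →ₗ[F] V →ₗ[F] V →ₗ[F] F :=
  LinearMap.mk₂ F (fun x y => ({ toFun := fun z => F1 (b.equivFun x) (b.equivFun y) (b.equivFun z)
                                 map_add' := fun z z' => by rw [map_add, F1_add3]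
                                 map_smul' := fun c z => by rw [map_smul, F1_smul3]; rfl } : V →ₗ[F] F))
    (fun x x' y => LinearMap.ext fun z => by
      show F1 (b.equivFun (x + x')) (b.equivFun y) (b.equivFun z) =
        F1 (b.equivFun x) (b.equivFun y) (b.equivFun z) + F1 (b.equivFun x') (b.equivFun y) (b.equivFun z)
      rw [map_add, F1_add1])
    (fun c x y => LinearMap.ext fun z => by
      show F1 (b.equivFun (c • x)) (b.equivFun y) (b.equivFun z) =
        c * F1 (b.equivFun x) (b.equivFun y) (b.equivFun z)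
      rw [map_smul, F1_smul1])
    (fun x y y' => LinearMap.ext fun z => by
      show F1 (b.equivFun x) (b.equivFun (y + y')) (b.equivFun z) =
        F1 (b.equivFun x) (b.equivFun y) (b.equivFun z) + F1 (b.equivFun x) (b.equivFun y') (b.equivFun z)
      rw [map_add, F1_add2])
    (fun c x y => LinearMap.ext fun z => by
      show F1 (b.equivFun x) (b.equivFun (c • y)) (b.equivFun z) =
        c * F1 (b.equivFun x) (b.equivFun y) (b.equivFun z)
      rw [map_smul, F1_smul2])

theorem f1_apply (b : Module.Basis (Fin 7) F V) (x y z : V) :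
    f1 b x y z = F1 (b.equivFun x) (b.equivFun y) (b.equivFun z) := rfl

theorem f1_isAlt (b : Module.Basis (Fin 7) F V) : IsAltForm (f1 b) where
  self x y := by rw [f1_apply]; simp only [F1, d3]; ring
  z23 x y := by rw [f1_apply]; simp only [F1, d3]; ring

theorem F1_cast (x y z : Fin 7 → ℤ) : F1 (fun m => ((x m : ℤ) : F)) (fun m => ((y m : ℤ) : F))
    (fun m => ((z m : ℤ) : F)) = ((F1Z x y z : ℤ) : F) := by
  simp only [F1, F1Z, d3, d3Z]
  push_cast
  ring

theorem f1_basis (b : Module.Basis (Fin 7) F V) (i j k : Fin 7) :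
    f1 b (b i) (b j) (b k) = ((F1Z (ei i) (ei j) (ei k) : ℤ) : F) := by
  have h : ∀ i, b.equivFun (b i) = fun m => ((ei i m : ℤ) : F) := by
    intro i
    funext m
    rw [Module.Basis.equivFun_apply, Module.Basis.repr_self, Finsupp.single_apply]
    simp only [ei, eq_comm]
    split_ifs <;> simp
  rw [f1_apply, h, h, h, F1_cast]

theorem f1_ne (b : Module.Basis (Fin 7) F V) : f1 b ≠ 0 := by
  intro h
  have h1 := f1_basis b 0 1 5
  rw [h] at h1
  have h2 : F1Z (ei 0) (ei 1) (ei 5) = 1 := by decide +kernel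
  rw [h2] at h1
  simp only [_root_.Fin.isValue, _root_.LinearMap.zero_apply, _root_.Int.cast_one, _root_.zero_ne_one] at h1

/-- invariance can be checked on a basis -/
theorem inv_of_basis (b : Module.Basis (Fin 7) F V) {f : V →ₗ[F] V →ₗ[F] V →ₗ[F] F} {g : V →ₗ[F] V}
    (h : ∀ i j k, f (g (b i)) (g (b j)) (g (b k)) = f (b i) (b j) (b k)) (x y z : V) :
    f (g x) (g y) (g z) = f x y z := by
  rw [← b.sum_repr x, ← b.sum_repr y, ← b.sum_repr z]
  simp only [map_sum, map_smul, LinearMap.sum_apply, LinearMap.smul_apply, h]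

end Cfsg.Agent.H856.Sx
end

private theorem dce_ed352b9377a0 : _root_.True := by
  try have : _root_.True := by simp only [_root_.Cfsg.Agent.H856.Sx.d3Z.eq_1]
  try have : _root_.True := by simp only [_root_.Cfsg.Agent.H856.Sw.sl.congr_simp]
  try have : _root_.True := by simp only [_root_.Cfsg.Agent.H856.Sx.rm.eq_1]
  try have : _root_.True := by simp only [_root_.Cfsg.Agent.H856.Sw.Frame.basis.eq_1]
  try have : _root_.True := by simp only [_root_.Cfsg.Agent.H856.Sx.d3R.eq_1]
  try have : _root_.True := by simp only [_root_.Cfsg.Agent.H856.Sw.sg.eq_1]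
  try have : _root_.True := by simp only [_root_.Cfsg.Agent.H856.Sx.F1.eq_1]
  try have : _root_.True := by simp only [_root_.Cfsg.Agent.H856.Sx.ev.eq_1]
  try have : _root_.True := by simp only [_root_.Cfsg.Agent.H856.Sx.F1R.eq_1]
  try have : _root_.True := by simp only [_root_.Cfsg.Agent.H856.Sw.AA.eq_1]
  try have : _root_.True := by simp only [_root_.Cfsg.Agent.H856.Sx.ei.eq_1]
  try have : _root_.True := by simp only [_root_.Cfsg.Agent.H856.Sw.xd.eq_1]
  try have : _root_.True := by simp only [_root_.Cfsg.Agent.H179.G2.d3.eq_1]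
  try have : _root_.True := by simp only [_root_.Cfsg.Agent.H856.Sx.F1Z.eq_1]
  try have : _root_.True := by simp only [_root_.Cfsg.Agent.H856.Sw.pw.eq_1]
  try have : _root_.True := by simp only [_root_.Cfsg.Agent.H856.Sw.bs.eq_1]
  try have : _root_.True := by simp only [_root_.Cfsg.Agent.H856.Sw.Frame.basis.congr_simp]
  try have : _root_.True := by simp only [_root_.Cfsg.Agent.H856.Sw.vec.eq_1]
  try have : _root_.True := by simp only [_root_.Cfsg.Agent.H856.Sw.wy.eq_1]
  try have : _root_.True := by simp only [_root_.Cfsg.Agent.H464.Sl2.u.eq_1]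
  try have : _root_.True := by simp only [_root_.Cfsg.Agent.H856.Sw.sc.eq_1]
  exact _root_.True.intro
end
end
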